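import Groth.Agent.AbVar.K526.Prod
import Groth.Agent.Pic13.H942.ChiFam
import Groth.Agent.S1025
/-!
# Families of twists

`A`, `B` over `k`, `v` the class of an invertible module on `A × B`, `v_y` its restriction to `A × {y}`, `c` coherent on `A`.
* `betti_pt`: the Betti numbers of the fibre of `v ⊗ p^*c` at `y ∈ B(k)` are `h^i(v_y ⊗ c)`;
* `chi_pt`: `χ(v_y ⊗ c)` does not depend on `y` (`B` connected);
* `exists_min`: for `B` integral, finitely many `h^i(v_y ⊗ c)` are simultaneously at most their values at given points.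
-/

set_option autoImplicit false
universe u
open CategoryTheory CategoryTheory.Limits MonoidalCategory CartesianMonoidalCategory AlgebraicGeometry
open scoped MonObj
open Groth.Agent Groth.Agent.Fga.PicMon Groth.Agent.Fga Groth.Agent.Pic13.H11.Cls Groth.Agent.Pic13.H11.NumU
  Groth.Agent.Grpsch.PicGrp Groth.Agent.Grpsch.Cube

namespace K526.Fam

open Cut PullM K518.Phi _root_.K526.Prod

variable {k : Type u} [Field k] {A B : Over (Spec (CommRingCat.of k))}

/-- The slice `A × {y}`. -/
noncomputable abbrev sl (A : Over (Spec (CommRingCat.of k))) (y : Pt B) : A ⟶ A ⊗ B := lift (𝟙 A) (toUnit A ≫ y)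

theorem slice_eq (y : Pt B) : Pic13.sliceAt k A.left B.hom y.left (Over.w y) = (sl A y).left := by
  apply pullback.hom_ext
  · rw [Pic13.sliceAt, pullback.lift_fst]
    change _ = (sl A y).left ≫ (fst A B).left
    rw [← Over.comp_left, lift_fst]
    rfl
  · rw [Pic13.sliceAt, pullback.lift_snd]
    change _ = (sl A y).left ≫ (snd A B).left
    rw [← Over.comp_left, lift_snd]
    rfl

theorem pm_sl_fst (y : Pt B) (c : MC A.left) : pm (sl A y).left (pm (fst A B).left c) = c := by
  rw [← pm_left_comp, lift_fst]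
  exact pm_id c

section
variable [IsProper A.hom] [LocallyOfFiniteType B.hom]

theorem exists_G (v : (MC (A ⊗ B).left)ˣ) {c : MC A.left} (hc : Co c) :
    ∃ G : (A ⊗ B).left.Modules, mc G = v • pm (fst A B).left c ∧ Coh.IsCoh G ∧
      FlatMod.IsFlatOver (snd A B).left G := by
  obtain ⟨M, hM, hv⟩ := exists_invertible v
  induction c using MC.ind with | h F => ?_
  refine ⟨CohB1.tensorMod ((Scheme.Modules.pullback (fst A B).left).obj F) M, ?_, ?_, ?_⟩
  · rw [mc_tensor, smul_def, hv, mul_comm]
    rfl
  · exact Ega3B.CohTensor.isCoh_tensor (FormalB.PullCoh.isCoh_pullback _ hc) hM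
  · exact Ega3B.FlatTensInv.isFlatOver_tensor _ hM (Pic13.H942.ChiFam.flat_pull k A.left B.hom F)

theorem betti_pt {G : (A ⊗ B).left.Modules} (hG : Coh.IsCoh G) (y : Pt B) (z : Spec (CommRingCat.of k)) (i : ℕ) :
    PerfAux.betti (snd A B).left G (y.left z) i = h k i (pm (sl A y).left (mc G)) := by
  have h1 := Pic13.H942.ChiFam.betti_eq k A.left B.hom y.left (Over.w y) G hG.1 z i
  rw [pm_mc, ← slice_eq]
  exact h1

theorem betti_v (v : (MC (A ⊗ B).left)ˣ) {c : MC A.left} {G : (A ⊗ B).left.Modules}
    (hG : Coh.IsCoh G) (he : mc G = v • pm (fst A B).left c) (y : Pt B) (z : Spec (CommRingCat.of k)) (i : ℕ) :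
    PerfAux.betti (snd A B).left G (y.left z) i = h k i (Units.map (pm (sl A y).left) v • c) := by
  rw [betti_pt hG, he, pm_smul, pm_sl_fst]

/-- The Euler characteristic in a family. -/
theorem chi_pt [PreconnectedSpace B.left] {d : ℕ} (hd : topologicalKrullDim A.left ≤ d) (v : (MC (A ⊗ B).left)ˣ)
    {c : MC A.left} (hc : Co c) (y y' : Pt B) :
    chi k (Units.map (pm (sl A y).left) v • c) = chi k (Units.map (pm (sl A y').left) v • c) := by
  obtain ⟨G, he, hG, hf⟩ := exists_G v hc
  have key : ∀ y : Pt B, chi k (Units.map (pm (sl A y).left) v • c) =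
      FGA.eulerCharLE k A.left (Pic13.fibreMod k A.left B.hom y.left (Over.w y) G) d := by
    intro y
    rw [← chi_unit_eq k d hd]
    congr 1
    have : pm (sl A y).left (mc G) = Units.map (pm (sl A y).left) v • c := by
      rw [he, pm_smul, pm_sl_fst]
    rw [← this, pm_mc, ← slice_eq]
    rfl
  rw [key, key]
  exact Pic13.H942.ChiFam.chi_const k A.left d hd B.hom y.left (Over.w y) G hG hf y'.left (Over.w y')

theorem isOpen_betti {G : (A ⊗ B).left.Modules} (hG : Coh.IsCoh G) (hf : FlatMod.IsFlatOver (snd A B).left G)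
    (i n : ℕ) : IsOpen {z : B.left | PerfAux.betti (snd A B).left G z i < n} := by
  have hT : IsLocallyNoetherian B.left := LocallyOfFiniteType.isLocallyNoetherian B.hom
  have hp : IsProper (snd A B).left := inferInstanceAs (IsProper (pullback.snd A.hom B.hom))
  have hfp : LocallyOfFinitePresentation (snd A B).left :=
    inferInstanceAs (LocallyOfFinitePresentation (pullback.snd A.hom B.hom))
  have hN : IsLocallyNoetherian (A ⊗ B).left := LocallyOfFiniteType.isLocallyNoetherian (snd A B).left
  exact S1025.result (snd A B).left G ((S0018.result _ G).mp hG) hf i n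

/-- Simultaneously small Betti numbers. -/
theorem exists_min [IsAlgClosed k] [IsIntegral B.left] (v : (MC (A ⊗ B).left)ˣ) (l : List (ℕ × MC A.left × Pt B))
    (hl : ∀ x ∈ l, Co x.2.1) : ∃ y : Pt B, ∀ x ∈ l,
      h k x.1 (Units.map (pm (sl A y).left) v • x.2.1) ≤ h k x.1 (Units.map (pm (sl A x.2.2).left) v • x.2.1) := by
  have key : ∀ l : List (ℕ × MC A.left × Pt B), (∀ x ∈ l, Co x.2.1) →
      ∃ U : Set B.left, IsOpen U ∧ genericPoint B.left ∈ U ∧ ∀ (y : Pt B) (z : Spec (CommRingCat.of k)), y.left z ∈ U →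
        ∀ x ∈ l, h k x.1 (Units.map (pm (sl A y).left) v • x.2.1) ≤
          h k x.1 (Units.map (pm (sl A x.2.2).left) v • x.2.1) := by
    intro l
    induction l with
    | nil => exact fun _ => ⟨Set.univ, isOpen_univ, trivial, fun y z _ x hx => absurd hx List.not_mem_nil⟩
    | cons a l ih =>
      intro hl
      obtain ⟨U, hU, hη, hU'⟩ := ih fun x hx => hl x (List.mem_cons_of_mem _ hx)
      obtain ⟨G, he, hG, hf⟩ := exists_G v (hl a List.mem_cons_self)
      let n := h k a.1 (Units.map (pm (sl A a.2.2).left) v • a.2.1)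
      have hV := isOpen_betti hG hf a.1 (n + 1)
      have hmem : a.2.2.left (IsLocalRing.closedPoint k) ∈ {z : B.left | PerfAux.betti (snd A B).left G z a.1 < n + 1} := by
        change PerfAux.betti _ _ _ _ < _
        rw [betti_v v hG he]
        exact Nat.lt_succ_self _
      refine ⟨U ∩ {z : B.left | PerfAux.betti (snd A B).left G z a.1 < n + 1}, hU.inter hV,
        ⟨hη, (genericPoint_spec B.left).mem_open_set_iff hV |>.mpr ⟨_, trivial, hmem⟩⟩, fun y z hz x hx => ?_⟩
      rcases List.mem_cons.mp hx with rfl | hx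
      · have h1 := hz.2
        change PerfAux.betti _ _ _ _ < _ at h1
        rw [betti_v v hG he] at h1
        exact Nat.lt_succ_iff.mp h1
      · exact hU' y z hz.1 x hx
  obtain ⟨U, hU, hη, hU'⟩ := key l hl
  obtain ⟨a, haU, w, -, z, hz⟩ := (dense_pts (A := B)).inter_open_nonempty U hU ⟨_, hη⟩
  exact ⟨w, fun x hx => hU' w z (hz ▸ haU) x hx⟩

end

end K526.Fam
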