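import Groth.Agent.AbVar.K526.Lip
/-!
# Serre vanishing for rational twists, homogeneity of Hilbert polynomials

* `Ctx.serre`: for `c` coherent there is `M` with `H^j(u ⊗ η^n ⊗ a^*c) = 0` for all `j ≥ 1`, `n ≥ M a²`, `u ∈ P0`;
* `Ctx.hilb`: `χ(η^n ⊗ a^*c) = a^{2g} P(n / a²)`.
-/

set_option autoImplicit false
universe u
open CategoryTheory CategoryTheory.Limits AlgebraicGeometry
open Groth.Agent Groth.Agent.Fga.PicMon Groth.Agent.Fga Groth.Agent.Pic13.H11.Cls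

namespace K526

open Cut

theorem V_smul_fr {X : Scheme.{u}} [IsLocallyNoetherian X] (w : (MC X)ˣ) {i : ℕ} (hw : V i (w : MC X)) (r : ℕ) :
    V i (w • fr X r) := by
  induction r with
  | zero =>
    obtain ⟨L, hL, hu⟩ := exists_invertible w
    rw [smul_def, ← hu, fr, ← mc_tensor]
    exact IntNum0.HH_subsingleton_of_isZero
      (Functor.map_isZero (DCoh.tensorBi.obj L) Dcoh.ResFree.freeMod_zero_isZero) i
  | succ r ih => exact (ses_smul_fr w r).V_mid ih hw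

variable {k : Type u} [Field k] {X : Scheme.{u}} [X.Over (Spec (CommRingCat.of k))]
  [IsProper (X ↘ Spec (CommRingCat.of k))] {g : ℕ} {η : (MC X)ˣ} {P0 : Subgroup (MC X)ˣ}
  {pl : ℕ → MC X →* MC X} (H : Ctx k g η P0 pl)

include H

/-- The pulled back and twisted sequence. -/
theorem Ctx.ses_twist {a : ℕ} (ha : 1 ≤ a) {e r : ℕ} {K c : MC X} (hK : Ses K (fr X r) (η ^ e • c)) {u : (MC X)ˣ}
    (hu : u ∈ P0) (n : ℤ) : ∃ u₁ ∈ P0, Ses ((u₁ * η ^ (n - (a : ℤ) ^ 2 * e) : (MC X)ˣ) • pl a K)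
      ((u₁ * η ^ (n - (a : ℤ) ^ 2 * e) : (MC X)ˣ) • fr X r) ((u * η ^ n : (MC X)ˣ) • pl a c) := by
  obtain ⟨v, hv, hev⟩ := H.pl_eta ha (e : ℤ)
  have hseq := H.ses a ha _ _ _ hK
  rw [H.free a ha, ← zpow_natCast, pl_smul, hev] at hseq
  refine ⟨u * v⁻¹, P0.mul_mem hu (P0.inv_mem hv), ?_⟩
  have hw : u * v⁻¹ * η ^ (n - (a : ℤ) ^ 2 * e) * (v * η ^ ((a : ℤ) ^ 2 * e)) = u * η ^ n := by
    rw [zpow_sub]
    have e1 : u * v⁻¹ * (η ^ n * (η ^ ((a : ℤ) ^ 2 * e))⁻¹) * (v * η ^ ((a : ℤ) ^ 2 * e)) =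
      u * η ^ n * (v⁻¹ * v) * ((η ^ ((a : ℤ) ^ 2 * e))⁻¹ * η ^ ((a : ℤ) ^ 2 * e)) := by
      ac_rfl
    rw [e1, inv_mul_cancel, inv_mul_cancel, mul_one, mul_one]
  have hseq' := hseq.smul (u * v⁻¹ * η ^ (n - (a : ℤ) ^ 2 * e))
  rwa [smul_smul, hw] at hseq'

theorem Ctx.serre_aux (t : ℕ) : ∀ i, 1 ≤ i → g < i + t → ∀ c : MC X, Co c → ∃ M : ℕ, ∀ a : ℕ, 1 ≤ a → ∀ n : ℤ,
    (M : ℤ) * (a : ℤ) ^ 2 ≤ n → ∀ u ∈ P0, ∀ j, i ≤ j → V j ((u * η ^ n : (MC X)ˣ) • pl a c) := by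
  have := IntAdd.isNoetherian k X
  induction t with
  | zero =>
    intro i hi hg c hc
    refine ⟨0, fun a ha n _ u _ j hj => ?_⟩
    exact V_of_dim k ((H.co a ha c hc).smul _) ((dim_supp_le _).trans H.dim.le) (by omega)
  | succ t ih =>
    intro i hi hg c hc
    obtain ⟨e, r, K, hK⟩ := H.quot c hc
    obtain ⟨M, hM⟩ := ih (i + 1) (by omega) (by omega) K hK.co₁
    refine ⟨M + e + 1, fun a ha n hn u hu j hj => ?_⟩
    obtain ⟨u₁, hu₁, hs⟩ := H.ses_twist ha hK hu n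
    have ha2 : (1 : ℤ) ≤ (a : ℤ) ^ 2 := one_le_pow₀ (by exact_mod_cast ha)
    have h1 : (1 : ℤ) ≤ n - (a : ℤ) ^ 2 * e := by
      have : (0 : ℤ) ≤ (M : ℤ) * (a : ℤ) ^ 2 := by positivity
      push_cast at hn
      nlinarith
    have h2 : (M : ℤ) * (a : ℤ) ^ 2 ≤ n - (a : ℤ) ^ 2 * e := by
      push_cast at hn
      nlinarith
    refine hs.V_right (V_smul_fr _ (H.van u₁ hu₁ _ h1 j (by omega)) r) ?_
    exact hM a ha _ h2 u₁ hu₁ (j + 1) (by omega)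

/-- **Serre vanishing for rational twists.** -/
theorem Ctx.serre {c : MC X} (hc : Co c) : ∃ M : ℕ, ∀ a : ℕ, 1 ≤ a → ∀ n : ℤ,
    (M : ℤ) * (a : ℤ) ^ 2 ≤ n → ∀ u ∈ P0, ∀ q, V (q + 1) ((u * η ^ n : (MC X)ˣ) • pl a c) := by
  obtain ⟨M, hM⟩ := H.serre_aux g 1 le_rfl (by omega) c hc
  exact ⟨M, fun a ha n hn u hu q => hM a ha n hn u hu (q + 1) (by omega)⟩

theorem Ctx.chi_eq_hg {d : MC X} (hd : Co d) (hV : ∀ u ∈ P0, ∀ q, V (q + 1) (u • d)) :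
    (hg k P0 0 d : ℤ) = chi k d := by
  obtain ⟨u, hu, h1⟩ := exists_hg k P0 0 d
  rw [← h1, ← H.chi_smul u hu d hd, chi_eq_h_zero k fun i hi => by
    obtain ⟨q, rfl⟩ := Nat.exists_eq_succ_of_ne_zero (Nat.pos_iff_ne_zero.mp hi)
    exact hV u hu q]

/-- **Homogeneity of Hilbert polynomials.** -/
theorem Ctx.hilb (hone : ∀ c, pl 1 c = c) {c : MC X} (hc : Co c) {P : Polynomial ℚ}
    (hP : ∀ n : ℤ, (chi k (η ^ n • c) : ℚ) = P.eval (n : ℚ)) {a : ℕ} (ha : 1 ≤ a) (n : ℤ) :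
    (chi k (η ^ n • pl a c) : ℚ) = (a : ℚ) ^ (2 * g) * P.eval ((n : ℚ) / (a : ℚ) ^ 2) := by
  have := IntAdd.isNoetherian k X
  have hca := H.co a ha c hc
  obtain ⟨Q, -, hQ⟩ := Hilb.exists_poly k η hca ((dim_supp_le _).trans H.dim.le)
  obtain ⟨M, hM⟩ := H.serre hc
  have ha0 : (a : ℚ) ≠ 0 := by positivity
  have key : ∀ m : ℕ, M ≤ m → Q.eval ((a : ℚ) ^ 2 * m) = (a : ℚ) ^ (2 * g) * P.eval (m : ℚ) := by
    intro m hm
    have h1 : (hg k P0 0 (η ^ (m : ℤ) • c) : ℤ) = chi k (η ^ (m : ℤ) • c) :=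
      H.chi_eq_hg (hc.smul _) fun u hu q => by
        have := hM 1 le_rfl (m : ℤ) (by push_cast; nlinarith) u hu q
        rwa [hone, ← smul_smul] at this
    have h2 : (hg k P0 0 (η ^ ((a : ℤ) ^ 2 * m) • pl a c) : ℤ) = chi k (η ^ ((a : ℤ) ^ 2 * m) • pl a c) :=
      H.chi_eq_hg (hca.smul _) fun u hu q => by
        have := hM a ha ((a : ℤ) ^ 2 * m) (by
          have : (0 : ℤ) ≤ (a : ℤ) ^ 2 := by positivity
          have h3 : (M : ℤ) ≤ m := by exact_mod_cast hm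
          nlinarith) u hu q
        rwa [← smul_smul] at this
    have h3 := H.hgmul a ha (η ^ (m : ℤ) • c) (hc.smul _) 0
    obtain ⟨v, hv, hev⟩ := H.pl_eta ha (m : ℤ)
    rw [pl_smul, hev, ← smul_smul, hg_smul k P0 0 _ hv] at h3
    have h4 : chi k (η ^ ((a : ℤ) ^ 2 * m) • pl a c) = (a : ℤ) ^ (2 * g) * chi k (η ^ (m : ℤ) • c) := by
      rw [← h1, ← h2, h3]
      push_cast
      rfl
    have h5 := hQ ((a : ℤ) ^ 2 * m)
    have h6 := hP m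
    rw [h4] at h5
    push_cast at h5 h6
    rw [← h5, h6]
  have h7 : Q.comp (Polynomial.C ((a : ℚ) ^ 2) * Polynomial.X) = Polynomial.C ((a : ℚ) ^ (2 * g)) * P := by
    refine Polynomial.eq_of_infinite_eval_eq _ _ ?_
    refine Set.Infinite.mono (s := Set.range fun m : ℕ => ((M + m : ℕ) : ℚ)) ?_ ?_
    · rintro _ ⟨m, rfl⟩
      have := key (M + m) (by omega)
      simpa using this
    · refine Set.infinite_range_of_injective fun x y hxy => ?_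
      have : (M + x : ℕ) = M + y := by exact_mod_cast hxy
      omega
  have h8 := congrArg (Polynomial.eval ((n : ℚ) / (a : ℚ) ^ 2)) h7
  simp only [Polynomial.eval_comp, Polynomial.eval_mul, Polynomial.eval_C, Polynomial.eval_X] at h8
  rw [hQ n, ← h8]
  congr 1
  field_simp

end K526
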