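import Groth.Agent.AbVar.K526.Core2
import Groth.Agent.AbVar.K526.Fam
import Groth.Agent.AbVar.K526.Serre
import Groth.Agent.AbVar.K512.PhiSurj
import Groth.Agent.AbVar.K511.AmpleVan
import Groth.Agent.AbVar.K524.Index
import Groth.Agent.S2325
import Groth.Agent.Sga67.SerreVB
import Groth.Agent.Grpsch.KerMul
import Groth.Agent.Divis.NormAmple
/-!
# The setting of rank functions for an abelian variety

`inst`: the structure `Ctx` for the class of an ample module on an abelian variety over an algebraically closed field, from the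
multiplicativity `hgen(b^*c) = b^{2g} hgen(c)`.
-/

set_option autoImplicit false
universe u
open CategoryTheory CategoryTheory.Limits MonoidalCategory CartesianMonoidalCategory AlgebraicGeometry
open scoped MonObj
open Groth.Agent Groth.Agent.Fga.PicMon Groth.Agent.Fga Groth.Agent.Pic13.H11.Cls Groth.Agent.Pic13.H11.NumU
  Groth.Agent.Grpsch.PicGrp Groth.Agent.Grpsch.Cube

namespace K526.Inst

open Cut PullM K518.Phi _root_.K526.Prod Core Fam

variable {k : Type u} [Field k] {A : Over (Spec (CommRingCat.of k))} [GrpObj A]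

theorem nn_comp (a b : ℕ) : nn A a ≫ nn A b = nn A (a * b) := by
  rw [nn, nn, nn, MonObj.comp_pow, Category.comp_id, pow_mul]

theorem pm_nn_nn (a b : ℕ) (c : MC A.left) : pm (nn A a).left (pm (nn A b).left c) = pm (nn A (a * b)).left c := by
  rw [← pm_left_comp, nn_comp]

theorem pm_nn_one (c : MC A.left) : pm (nn A 1).left c = c := by
  rw [nn, pow_one]
  exact pm_id c

/-- The restriction of `λ` to the slices. -/
theorem pl_sl_lam (ℓ : Pic A.left) (y : Pt A) : pl (sl A y) (lam ℓ) = phi ℓ y := by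
  rw [lam, pl_D, lift_fst, lift_snd, D_id_const]

theorem um_sl_lam (ℓ : Pic A.left) (y : Pt A) : Units.map (pm (sl A y).left) (toU (lam ℓ)) = toU (phi ℓ y) := by
  rw [um_toU]
  exact congrArg toU (pl_sl_lam ℓ y)

variable [IsProper A.hom] [GeometricallyIntegral A.hom]

instance isInt : IsIntegral A.left := K518.Basic.isIntegral_left A

/-- Surjectivity of `φ`. -/
def Surj (ℓ : Pic A.left) : Prop := ∀ n, 1 ≤ n → ∀ α ∈ Inv A, ∃ y : Pt A, phi ℓ y ^ n = α

section gen
variable [IsAlgClosed k] {ℓ : Pic A.left} (hs : Surj ℓ)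
include hs

/-- Simultaneous generic points. -/
theorem exists_gen (l : List (ℕ × MC A.left)) (hl : ∀ x ∈ l, Co x.2) :
    ∃ u ∈ P0 A, ∀ x ∈ l, h k x.1 (u • x.2) = hg k (P0 A) x.1 x.2 := by
  have h1 : ∀ x : ℕ × MC A.left, ∃ y : Pt A, h k x.1 (toU (phi ℓ y) • x.2) = hg k (P0 A) x.1 x.2 := by
    intro x
    obtain ⟨u, ⟨α, hα, rfl⟩, hu⟩ := exists_hg k (P0 A) x.1 x.2
    obtain ⟨y, hy⟩ := hs 1 le_rfl α hα
    rw [pow_one] at hy
    exact ⟨y, by rw [hy]; exact hu⟩
  choose y hy using h1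
  obtain ⟨z, hz⟩ := exists_min (toU (lam ℓ)) (l.map fun x => (x.1, x.2, y x)) (by
    intro x hx
    obtain ⟨x', hx', rfl⟩ := List.mem_map.mp hx
    exact hl x' hx')
  refine ⟨toU (phi ℓ z), toU_mem_P0 (phi_mem_Inv ℓ z), fun x hx => le_antisymm ?_ ?_⟩
  · have h2 := hz _ (List.mem_map.mpr ⟨x, hx, rfl⟩)
    rw [um_sl_lam, um_sl_lam] at h2
    rw [← hy x]
    exact h2
  · exact hg_le k (P0 A) x.1 x.2 (toU_mem_P0 (phi_mem_Inv ℓ z))

omit [IsAlgClosed k] in
/-- Invariance of the Euler characteristic. -/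
theorem chi_P0 {u : (MC A.left)ˣ} (hu : u ∈ P0 A) {c : MC A.left} (hc : Co c) {d : ℕ}
    (hd : topologicalKrullDim A.left ≤ d) : chi k (u • c) = chi k c := by
  obtain ⟨α, hα, rfl⟩ := hu
  obtain ⟨y, hy⟩ := hs 1 le_rfl α hα
  rw [pow_one] at hy
  have h1 := chi_pt (B := A) hd (toU (lam ℓ)) hc y 1
  rw [um_sl_lam, um_sl_lam, phi_one, map_one, one_smul, hy] at h1
  exact h1

end gen

section Alg

variable [IsAlgClosed k]

theorem pl_nn_inv {c : Pic A.left} (hc : c ∈ Inv A) (n : ℕ) : pl (nn A n) c = c ^ n := by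
  rw [nn, pl_pow_of_inv hc, pl_id]

/-- `b^*ℓ = ℓ^{b²}` up to `Pic⁰`. -/
theorem pl_nn (ℓ : Pic A.left) (b : ℕ) : pl (nn A b) ℓ * (ℓ ^ (b ^ 2))⁻¹ ∈ Inv A := by
  have : IsCommMonObj A := isCommMonObj_of_isProper_of_geometricallyIntegral A
  have : IsMonHom (nn A b) := Grpsch.KerMul.isMonHom_id_pow b
  rw [← phi_eq_iff]
  intro x
  rw [phi_pl, phi_pow_left, nn, MonObj.comp_pow, Category.comp_id, pl_nn_inv (phi_mem_Inv ℓ _), phi_pow, ← pow_mul,
    pow_two]

section ample
variable {L : A.left.Modules} (hL : CohB1.IsAmple L)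
include hL

theorem surj_ample : Surj (mk L hL.1) := by
  intro n hn α hα
  have h1 : K524.Index.ND (mk L hL.1) := by
    have := K512.PhiSurj.finite_of_isAmple L hL
    refine this.subset fun x hx => ?_
    change K506.Transl.phi _ _ = 1 at hx
    rw [K506.Transl.phi, mul_inv_eq_one] at hx
    exact hx
  obtain ⟨x, hx⟩ := K512.PhiSurj.exists_eq (mk L hL.1 ^ n) α (by
    have h2 : K524.Index.ND (mk L hL.1 ^ n) := h1.pow hn
    refine h2.subset fun x hx => ?_
    change K506.Transl.phi _ _ = 1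
    rw [K506.Transl.phi, mul_inv_eq_one]
    exact hx) (mem_Inv_iff.mp hα)
  refine ⟨x, ?_⟩
  rw [← phi_pow_left, phi]
  have hx' : pl (tr x) (mk L hL.1 ^ n) = mk L hL.1 ^ n * α := hx
  rw [hx', mul_comm, inv_mul_cancel_left]


theorem nd_pow {n : ℕ} (hn : 1 ≤ n) : K524.Index.ND (mk L hL.1 ^ n) := by
  have h1 : K524.Index.ND (mk L hL.1) := by
    have := K512.PhiSurj.finite_of_isAmple L hL
    refine this.subset fun x hx => ?_
    change K506.Transl.phi _ _ = 1 at hx
    rw [K506.Transl.phi, mul_inv_eq_one] at hx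
    exact hx
  exact h1.pow hn

theorem van_pow {n : ℕ} (hn : 1 ≤ n) {i : ℕ} (hi : 1 ≤ i) :
    K524.Kun.Van (mk L hL.1 ^ n) i := by
  have h1 : CohB1.IsAmple (CohB1.tensorPow L n) := Divis.NormAmple.isAmple_tensorPow hL hn
  rw [← mk_tensorPow hL.1]
  exact (K524.Kun.van_mk _ i).2 (K511.AmpleVan.vanish A _ h1 i hi)

variable {g : ℕ} (hg : topologicalKrullDim A.left = g)
include hg

theorem hasIdx_pow {n : ℕ} (hn : 1 ≤ n) : K524.Index.HasIdx (mk L hL.1 ^ n) 0 := by
  obtain ⟨i, hi, h1, -⟩ := (nd_pow hL hn).exists_idx g hg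
  rcases Nat.eq_zero_or_pos i with rfl | h2
  · exact h1
  · exact absurd (van_pow hL hn h2) h1.2

end ample

omit [IsProper A.hom] [GeometricallyIntegral A.hom] [IsAlgClosed k] [GrpObj A] in
theorem V_toU (c : Pic A.left) (i : ℕ) : V i ((toU c : (MC A.left)ˣ) : MC A.left) ↔ K524.Kun.Van c i := by
  obtain ⟨L, hL, rfl⟩ := exists_mk c
  rw [toU_mk_val, K524.Kun.van_mk]
  rfl

theorem bdd : ∃ C : ℕ, ∀ u ∈ P0 A, ∀ i, h k i (u : MC A.left) ≤ C := by
  obtain ⟨g, hg⟩ := K511.AmpleVan.exists_dim A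
  refine ⟨∑ i ∈ Finset.range (g + 1), h k i (1 : MC A.left), ?_⟩
  rintro _ ⟨α, hα, rfl⟩ i
  by_cases h1 : α = 1
  · subst h1
    rw [map_one, Units.val_one]
    by_cases hi : i ≤ g
    · exact Finset.single_le_sum (f := fun i => h k i (1 : MC A.left)) (fun _ _ => Nat.zero_le _)
        (Finset.mem_range.mpr (Nat.lt_succ_of_le hi))
    · rw [h_eq_zero k (V_of_dim k co_one ((dim_supp_le _).trans hg.le) (by omega))]
      exact Nat.zero_le _
  · rw [h_eq_zero k ((V_toU α i).2 ((K524.Key.acycCls_iff α).1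
      (K512.PhiSurj.van α (mem_Inv_iff.mp hα) h1) i))]
    exact Nat.zero_le _

variable {L : A.left.Modules} (hL : CohB1.IsAmple L) {g : ℕ} (hdim : topologicalKrullDim A.left = g)

omit [GrpObj A] [GeometricallyIntegral A.hom] [IsAlgClosed k] in
include hL in
/-- Coherent modules are quotients of free modules after large twists. -/
theorem quot {c : MC A.left} (hc : Co c) : ∃ a₀ : ℕ, ∀ a, a₀ ≤ a → ∃ (r : ℕ) (K : MC A.left),
    Ses K (fr A.left r) (toU (mk L hL.1) ^ a • c) := by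
  have := IntAdd.isNoetherian k A.left
  have := HypSec.isSeparated k A.left
  induction c using MC.ind with | h F => ?_
  obtain ⟨n₀, h⟩ := S2325.result A.left L hL F hc
  refine ⟨n₀, fun n hn => ?_⟩
  have hco : Coh.IsCoh (CohB1.tensorMod F (CohB1.tensorPow L n)) :=
    TwistCoh.isCoh_tensor hc (Fdesc.LocGen.isInvertible_tensorPow hL.1 _)
  obtain ⟨r, q, hq⟩ := Sga67.SerreVB.exists_epi_freeMod hco (h n hn)
  refine ⟨r, mc (kernel q), ?_⟩
  have h1 := Ses.of_epi q (PerfA.CohSerre.isCoh_freeMod r) hco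
  rw [mc_tensor, mc_tensorPow] at h1
  rwa [smul_def, Units.val_pow_eq_pow_val, toU_mk_val, mul_comm]

omit [GrpObj A] [GeometricallyIntegral A.hom] [IsAlgClosed k] in
include hL in
theorem gg : ∃ (M : ℕ) (N : A.left.Modules), 1 ≤ M ∧ PicF.IsInvertible N ∧
    mc N = ((toU (mk L hL.1) ^ M : (MC A.left)ˣ) : MC A.left) ∧ Curv2.IsGloballyGenerated N := by
  have := IntAdd.isNoetherian k A.left
  have := HypSec.isSeparated k A.left
  obtain ⟨n₀, h⟩ := S2325.result A.left L hL (Coh.structureModule A.left) co_one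
  refine ⟨n₀ + 1, _, by omega, ?_, ?_, h (n₀ + 1) (by omega)⟩
  · exact Fdesc.LocGen.isInvertible_tensorMod Fdesc.LocGen.isInvertible_structureModule
      (Fdesc.LocGen.isInvertible_tensorPow hL.1 _)
  · rw [mc_tensor, mc_one, one_mul, mc_tensorPow, Units.val_pow_eq_pow_val, toU_mk_val]

include hL hdim in
/-- The setting of rank functions. -/
theorem inst (hgm : ∀ b, 1 ≤ b → ∀ c : MC A.left, Co c → ∀ i,
    hg k (P0 A) i (pm (nn A b).left c) = b ^ (2 * g) * hg k (P0 A) i c) :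
    Ctx k g (toU (mk L hL.1)) (P0 A) (fun b => pm (nn A b).left) where
  dim := hdim
  co b _ c hc := co_pm _ hc
  ses b hb x y z h := by
    have := flat_nn (A := A) hb
    exact ses_pm _ h
  mul a b _ _ c := pm_nn_nn a b c
  free b _ r := pm_fr _ r
  P0_mem b _ := by
    rintro _ ⟨α, hα, rfl⟩
    have h1 := um_toU (nn A b).left α
    have h2 : pull (nn A b).left α = α ^ b := pl_nn_inv hα b
    rw [h2] at h1
    exact h1 ▸ toU_mem_P0 (Subgroup.pow_mem _ hα b)
  eta b _ := by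
    refine ⟨toU (pl (nn A b) (mk L hL.1) * (mk L hL.1 ^ (b ^ 2))⁻¹), toU_mem_P0 (pl_nn _ b), ?_⟩
    rw [← map_pow, ← map_mul, inv_mul_cancel_right]
    exact um_toU (nn A b).left (mk L hL.1)
  van := by
    rintro _ ⟨α, hα, rfl⟩ n hn i hi
    obtain ⟨m, rfl⟩ := Int.eq_ofNat_of_zero_le (by omega : 0 ≤ n)
    have hm : 1 ≤ m := by omega
    rw [zpow_natCast, ← map_pow, ← map_mul, V_toU, mul_comm]
    exact ((hasIdx_pow hL hdim hm).twist (nd_pow hL hm) (mem_Inv_iff.mp hα)).1 i (by omega)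
  van' := by
    rintro _ ⟨α, hα, rfl⟩ n hn i hi
    obtain ⟨m, hm'⟩ := Int.eq_ofNat_of_zero_le (by omega : 0 ≤ -n)
    obtain rfl : n = -(m : ℤ) := by omega
    have hm : 1 ≤ m := by omega
    rw [zpow_neg, zpow_natCast, ← map_pow, ← map_inv, ← map_mul, V_toU, mul_comm]
    have h1 := ((hasIdx_pow hL hdim hm).inv g hdim (nd_pow hL hm)).2
    exact (h1.twist (nd_pow hL hm).inv (mem_Inv_iff.mp hα)).1 i (by omega)
  chi_smul u hu c hc := chi_P0 (surj_ample hL) hu hc hdim.le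
  bdd := bdd
  quot c hc := by
    obtain ⟨a, h⟩ := quot hL hc
    exact ⟨a, h a le_rfl⟩
  gg := gg hL
  hgmul := hgm

end Alg

end K526.Inst
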