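import Groth.Agent.AbVar.K526.GVGrow
import Groth.Agent.AbVar.K524.FinSupp
/-!
# The rows S18117 and S18118 from the multiplicativity of generic ranks
-/

set_option autoImplicit false
universe u
open CategoryTheory CategoryTheory.Limits MonoidalCategory CartesianMonoidalCategory AlgebraicGeometry
open scoped MonObj
open Groth.Agent Groth.Agent.Fga.PicMon Groth.Agent.Fga Groth.Agent.Pic13.H11.Cls Groth.Agent.Pic13.H11.NumU
  Groth.Agent.Grpsch.PicGrp Groth.Agent.Grpsch.Cube

namespace K526.GVGrow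

open Cut PullM K518.Phi _root_.K526.Prod Core Fam Inst _root_.K526.Neg HilbDeg _root_.K526.Trans K526.Rows
open K527.Bridge (Phi)

variable {k : Type u} [Field k] {A : Over (Spec (CommRingCat.of k))} [GrpObj A] [IsProper A.hom]
  [GeometricallyIntegral A.hom] [IsAlgClosed k] {g : ℕ}

omit [GeometricallyIntegral A.hom] [IsAlgClosed k] [GrpObj A] in
theorem V_iff {c : MC A.left} (hc : Co c) (i : ℕ) : K527.Cls.V c i ↔ h k i c = 0 := by
  induction c using MC.ind with | h F => ?_
  have hfin : Module.Finite k (Coh.HH A.left F i) := HodgeSec.finite_HH' k hc i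
  rw [h_mc, Module.finrank_zero_iff]
  rfl

omit [GeometricallyIntegral A.hom] [IsAlgClosed k] in
theorem V_phi_iff (ℓ : Pic A.left) {c : MC A.left} (hc : Co c) (i : ℕ) (y : Pt A) :
    K527.Cls.V (c * K527.Cls.ic _ (phi ℓ y)) i ↔ h k i (toU (phi ℓ y) • c) = 0 := by
  rw [← V_iff (hc.smul _), smul_def, ic_eq, mul_comm]

/-- **`GV` and the supports of the transforms.** -/
theorem GV_iff (hdim : topologicalKrullDim A.left = g) (ℓ : Pic A.left) {c : MC A.left} (hc : Co c) :
    K527.ITGV.GV ℓ g c ↔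
      ∀ i, 1 ≤ i → topologicalKrullDim (supp (Ph ℓ i c)) + (i : WithBot ℕ∞) ≤ (g : WithBot ℕ∞) := by
  obtain ⟨G, he, hG, hf⟩ := exists_G (B := A) (toU (lam ℓ)) hc
  have hPh : ∀ i, Ph ℓ i c = mc ((Coh.Rpush (snd A A).left i).obj G) := fun i => by rw [Ph, ← he, R_mc]
  have hbetti : ∀ (i : ℕ) (y : Pt A), CohIII.fiberRank (snd A A).left G i (K527.FibPts.pt y) =
      h k i (toU (phi ℓ y) • c) := fun i y => by
    change PerfAux.betti (snd A A).left G (y.left (IsLocalRing.closedPoint k)) i = _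
    rw [betti_v _ hG he, um_sl_lam]
  have hJ : JacobsonSpace A.left := LocallyOfFiniteType.jacobsonSpace A.hom
  have hcl : ∀ i, IsClosed (supp (Ph ℓ i c)) := fun i => by
    have h1 := co_Ph ℓ i hc
    rw [hPh] at h1 ⊢
    exact S0020.result A.left _ h1.2
  have hbig : ∀ i, g < i → Ph ℓ i c = fr A.left 0 := fun i hi => Ph_eq_zero hdim ℓ hc hi
  have hbig' : ∀ i, g < i → IsZero ((Coh.Rpush (snd A A).left i).obj G) := fun i hi =>
    (eq_zero_iff (hPh i)).mp (hbig i hi)
  constructor
  · intro hGV i hi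
    by_cases hig : i ≤ g
    · obtain ⟨Z, hZ, hd, hv⟩ := hGV i hi
      refine K527.DimSet.add_le_of_lt hig (lt_of_le_of_lt (K284.TopDim.dim_mono ?_) hd)
      rw [hPh]
      refine K524.FinSupp.support_subset (snd A A).left G hG hf i Z hZ fun y hy => ?_
      have hclosed : IsClosed {z : A.left | PerfAux.betti (snd A A).left G z i < 1}ᶜ :=
        (isOpen_betti hG hf i 1).isClosed_compl
      refine K527.FibPts.subset_of_closedPoints hclosed hZ (fun w hw hw2 => ?_) (show y ∈ _ from fun h => hy ?_)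
      · obtain ⟨y', hy'⟩ := exists_pt w hw
        have e : K527.FibPts.pt y' = w := hy'
        rw [← e]
        refine hv y' fun hV => hw2 ?_
        rw [V_phi_iff ℓ hc] at hV
        change PerfAux.betti (snd A A).left G w i < 1
        rw [← hy', betti_v _ hG he, um_sl_lam, hV]
        exact Nat.one_pos
      · have h' : CohIII.fiberRank (snd A A).left G i y < 1 := h
        omega
    · rw [hbig i (by omega)]
      have he : IsEmpty (supp (fr A.left 0)) := by
        rw [Set.isEmpty_coe_sort]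
        exact CohqB.DevSupport.support_eq_empty_of_isZero Dcoh.ResFree.freeMod_zero_isZero
      rw [dim_eq_bot he, WithBot.bot_add]
      exact bot_le
  · intro hd i hi
    obtain ⟨W, hW, hWd, hWZ⟩ := K527.DimSet.exists_closed (Set.finite_Icc i g) (fun j => supp (Ph ℓ j c))
      (fun j _ => hcl j) (n := ((g - i + 1 : ℕ) : WithBot ℕ∞))
      (by rw [K527.DimSet.dim_empty]; exact K527.DimSet.bot_lt_nat _) (fun j hj => by
        have h1 := hd j (hi.trans hj.1)
        rcases isEmpty_or_nonempty (supp (Ph ℓ j c)) with he | hne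
        · rw [dim_eq_bot he]
          exact K527.DimSet.bot_lt_nat _
        · obtain ⟨r, hr⟩ : ∃ r : ℕ, topologicalKrullDim (supp (Ph ℓ j c)) = (r : WithBot ℕ∞) := by
            have h1 : topologicalKrullDim (supp (Ph ℓ j c)) ≤ (g : WithBot ℕ∞) := (dim_supp_le _).trans hdim.le
            obtain ⟨r, hr⟩ := WithBot.ne_bot_iff_exists.mp (dim_ne_bot hne)
            rw [← hr] at h1 ⊢
            have h3 : r ≤ (g : ℕ∞) := by exact_mod_cast h1
            obtain ⟨r', rfl⟩ := ENat.ne_top_iff_exists.mp (ne_top_of_le_ne_top (ENat.natCast_ne_top g) h3)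
            exact ⟨r', rfl⟩
          rw [hr] at h1 ⊢
          have h2 : r + j ≤ g := by exact_mod_cast h1
          have h3 : r < g - i + 1 := by have := hj.1; omega
          exact_mod_cast h3)
    refine ⟨W, hW, hWd, fun y hy => ?_⟩
    rw [V_phi_iff ℓ hc] at hy
    by_contra hyW
    refine hy ?_
    rw [← hbetti]
    refine TopBC.fiberRank_eq_zero (snd A A).left G hG hf i g hbig' (fun j => by
      have := hcl j
      rwa [hPh] at this) _ (fun j hj hmem => ?_) i le_rfl
    by_cases hjg : j ≤ g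
    · refine hyW (hWZ j ⟨hj, hjg⟩ ?_)
      rw [hPh]
      exact hmem
    · rw [CohqB.DevSupport.support_eq_empty_of_isZero (hbig' j (by omega))] at hmem
      exact hmem

/-- Dimensions of closed sets under finite surjective morphisms. -/
theorem dim_preimage_eq {X Y : Scheme.{u}} (f : X ⟶ Y) [IsFinite f] [Surjective f] {Z : Set Y} (hZ : IsClosed Z) :
    topologicalKrullDim (f ⁻¹' Z) = topologicalKrullDim Z := by
  refine le_antisymm (K527.DimSet.dim_preimage_le f Z hZ) ?_
  have h1 := K527.DimSet.dim_image_le f f.isClosedMap (f ⁻¹' Z) (hZ.preimage f.continuous)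
  rwa [Set.image_preimage_eq Z f.surjective] at h1

theorem dim_eq_of_finite {X Y : Scheme.{u}} (f : X ⟶ Y) [IsFinite f] [Surjective f] :
    topologicalKrullDim X = topologicalKrullDim Y := by
  have h := dim_preimage_eq f (Z := Set.univ) isClosed_univ
  rwa [Set.preimage_univ, K284.TopDim.dim_univ_eq, K284.TopDim.dim_univ_eq] at h

variable {At : Over (Spec (CommRingCat.of k))} [GrpObj At] (hdim : topologicalKrullDim A.left = g)
  {φ : ∀ T : Over (Spec (CommRingCat.of k)), PicF.Cl (PicF.XT A.hom T) → (T ⟶ At)}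
  (hφ : AbDual.IsDualAV Scheme.fppfPrecoverage A At φ)
  {P : (pullback A.hom At.hom).Modules} (hP : PicF.IsInvertible P)
  (hPξ : AbDual.IsPoincareCl A At φ (PicF.cl P))
  [IsProper At.hom] [GeometricallyIntegral At.hom]
include hdim hφ hP hPξ

theorem row17 (hgm : HGM A g) {L L' : A.left.Modules} (hL : CohB1.IsAmple L)
    (hLL' : Nonempty (CohB1.tensorMod L L' ≅ Coh.structureModule A.left)) {F : A.left.Modules} (hF : Coh.IsCoh F)
    (a : ℤ) (b : ℕ) (hb : 0 < b) :
    (∀ i : ℕ, 1 ≤ i → ∃ Z : Set ↥At.left, IsClosed Z ∧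
        topologicalKrullDim ↥Z < ((g - i + 1 : ℕ) : WithBot ℕ∞) ∧
        ∀ α : 𝟙_ (Over (Spec (CommRingCat.of k))) ⟶ At,
          0 < W4c5cohrankabvar.hAt k P (W4c5cohrankabvar.twist A F L L' b (a * b)) α i → Set.range α.left.base ⊆ Z) ↔
    (∀ i : ℕ, 1 ≤ i → ∃ (C ε : ℚ), 0 < ε ∧ ∀ (c : ℤ) (d : ℕ), 0 < d →
        (a : ℚ) / (b : ℚ) - ε < (c : ℚ) / (d : ℚ) → (c : ℚ) / (d : ℚ) < (a : ℚ) / (b : ℚ) →
        ((W4c5cohrankabvar.hgen k P (W4c5cohrankabvar.twist A F L L' d (c * d)) i : ℕ) : ℚ) / (d : ℚ) ^ (2 * g) ≤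
          C * ((a : ℚ) / (b : ℚ) - (c : ℚ) / (d : ℚ)) ^ (i)) := by
  have H := inst hL hdim hgm
  have hFc : Co (mc F) := hF
  have e1 : K527.Cls.pmo ((𝟙 A) ^ b) (mc F) * K527.Cls.ic _ ((mk L hL.1) ^ (a * b)) =
      toU (mk L hL.1) ^ (a * b) • pm (nn A b).left (mc F) := by
    rw [ic_eq, mul_comm, map_zpow]
    rfl
  rw [K527.Rows.GV_twist_iff hφ hP hPξ g hL hLL' hF, e1, GV_iff hdim _ ((co_pm _ hFc).smul _)]
  simp only [hgen_twist hφ hP hPξ hL hLL']
  exact forall_congr' fun i => imp_congr_right fun _ => (growth_at hL H hFc i i a hb).symm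

theorem row18 (hgm : HGM A g) {L L' : A.left.Modules} (hL : CohB1.IsAmple L)
    (hLL' : Nonempty (CohB1.tensorMod L L' ≅ Coh.structureModule A.left)) {F : A.left.Modules} (hF : Coh.IsCoh F)
    (a : ℤ) (b : ℕ) (hb : 0 < b) :
    (∀ (i : ℕ) (y : ↥At.left), 1 ≤ i →
        y ∈ CohB1.support ((Coh.Rpush (pullback.snd A.hom At.hom) i).obj
          (CohB1.tensorMod ((Scheme.Modules.pullback (pullback.fst A.hom At.hom)).obj
            (W4c5cohrankabvar.twist A F L L' b (a * b))) P)) →
        ((i + 1 : ℕ) : WithBot ℕ∞) ≤ ringKrullDim ↑(At.left.presheaf.stalk y)) ↔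
    (∀ i : ℕ, 1 ≤ i → ∃ (C ε : ℚ), 0 < ε ∧ ∀ (c : ℤ) (d : ℕ), 0 < d →
        (a : ℚ) / (b : ℚ) - ε < (c : ℚ) / (d : ℚ) → (c : ℚ) / (d : ℚ) < (a : ℚ) / (b : ℚ) →
        ((W4c5cohrankabvar.hgen k P (W4c5cohrankabvar.twist A F L L' d (c * d)) i : ℕ) : ℚ) / (d : ℚ) ^ (2 * g) ≤
          C * ((a : ℚ) / (b : ℚ) - (c : ℚ) / (d : ℚ)) ^ (i + 1)) := by
  have H := inst hL hdim hgm
  have hFc : Co (mc F) := hF
  have iA : IsIntegral At.left := isInt
  have hfin := isFinite_phi hφ hP hPξ hL
  have hsurj := surjective_phi hφ hP hPξ hL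
  have hdimt : topologicalKrullDim At.left = g := (dim_eq_of_finite (Phi φ (mk L hL.1)).left).symm.trans hdim
  have hLN : IsLocallyNoetherian At.left := LocallyOfFiniteType.isLocallyNoetherian At.hom
  have hco : Coh.IsCoh (W4c5cohrankabvar.twist A F L L' b (a * b)) :=
    K527.Rows.isCoh_twist hF (c := mk L hL.1) rfl hLL' b (a * b)
  have hpr : IsProper (pullback.snd A.hom At.hom) := inferInstance
  have hM : ∀ i, Coh.IsCoh ((Coh.Rpush (pullback.snd A.hom At.hom) i).obj
          (CohB1.tensorMod ((Scheme.Modules.pullback (pullback.fst A.hom At.hom)).obj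
            (W4c5cohrankabvar.twist A F L L' b (a * b))) P)) := fun i =>
    S0036.result (pullback.snd A.hom At.hom) _
      (Ega3B.CohTensor.isCoh_tensor (FormalB.PullCoh.isCoh_pullback _ hco) hP) i
  have hcl : ∀ i, IsClosed (CohB1.support ((Coh.Rpush (pullback.snd A.hom At.hom) i).obj
          (CohB1.tensorMod ((Scheme.Modules.pullback (pullback.fst A.hom At.hom)).obj
            (W4c5cohrankabvar.twist A F L L' b (a * b))) P))) := fun i => S0020.result At.left _ (hM i).2
  have hsupp : ∀ i, topologicalKrullDim (CohB1.support ((Coh.Rpush (pullback.snd A.hom At.hom) i).obj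
          (CohB1.tensorMod ((Scheme.Modules.pullback (pullback.fst A.hom At.hom)).obj
            (W4c5cohrankabvar.twist A F L L' b (a * b))) P))) =
      topologicalKrullDim (supp (Ph (mk L hL.1) i (toU (mk L hL.1) ^ (a * b) • pm (nn A b).left (mc F)))) := by
    intro i
    rw [← mc_twist F hL.1 hLL', Ph_eq hφ hP hPξ hL hco, supp_pm _ (show Co (mc _) from hM i), supp_mc,
      dim_preimage_eq _ (hcl i)]
  have h1 : (∀ (i : ℕ) (y : ↥At.left), 1 ≤ i →
        y ∈ CohB1.support ((Coh.Rpush (pullback.snd A.hom At.hom) i).obj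
          (CohB1.tensorMod ((Scheme.Modules.pullback (pullback.fst A.hom At.hom)).obj
            (W4c5cohrankabvar.twist A F L L' b (a * b))) P)) →
        ((i + 1 : ℕ) : WithBot ℕ∞) ≤ ringKrullDim ↑(At.left.presheaf.stalk y)) ↔
      ∀ i, 1 ≤ i → topologicalKrullDim (supp (Ph (mk L hL.1) i (toU (mk L hL.1) ^ (a * b) •
        pm (nn A b).left (mc F)))) + ((i + 1 : ℕ) : WithBot ℕ∞) ≤ (g : WithBot ℕ∞) := by
    constructor
    · intro h i hi
      rw [← hsupp, ← stalk_iff At.hom hdimt (hcl i)]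
      exact fun y hy => h i y hi hy
    · intro h i y hi hy
      have h2 := h i hi
      rw [← hsupp, ← stalk_iff At.hom hdimt (hcl i)] at h2
      exact h2 y hy
  rw [h1]
  simp only [hgen_twist hφ hP hPξ hL hLL']
  exact forall_congr' fun i => imp_congr_right fun _ => (growth_at hL H hFc i (i + 1) a hb).symm

end K526.GVGrow
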