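import Groth.Agent.AbVar.K526.Prod
import Groth.Agent.Grpsch.MulFinFlat
/-!
# The comparison on the square of an abelian variety

`ℓ` a class on `A`, `λ = μ^*ℓ p^*ℓ⁻¹ q^*ℓ⁻¹`, `W = λ^a ⊗ q^*ℓ^n ⊗ p^*c` on `A × A`, `Φ_j = R^j q_*(λ ⊗ p^*c)`.
* `R_snd_WW`: `R^j q_*(q^*β ⊗ W) = β ℓ^n ⊗ a^*Φ_j`;
* `pm_R_fst_WW`: `b^* R^j p_* W = O^{h^j(ℓ^{ab})} ⊗ ℓ^{-ab} ⊗ b^*c` for `n = ab`;
* `h_transl`: `h^i(p^*φ(y)^a ⊗ W) = h^i(q^*φ(y)^{-n} ⊗ W)`.
-/

set_option autoImplicit false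
universe u
open CategoryTheory CategoryTheory.Limits MonoidalCategory CartesianMonoidalCategory AlgebraicGeometry
open scoped MonObj
open Groth.Agent Groth.Agent.Fga.PicMon Groth.Agent.Fga Groth.Agent.Pic13.H11.Cls Groth.Agent.Pic13.H11.NumU
  Groth.Agent.Grpsch.PicGrp Groth.Agent.Grpsch.Cube

namespace K526.Core

open Cut PullM K518.Phi _root_.K526.Prod

variable {k : Type u} [Field k] {A : Over (Spec (CommRingCat.of k))} [GrpObj A]

/-- Multiplication by `n`. -/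
noncomputable abbrev nn (A : Over (Spec (CommRingCat.of k))) [GrpObj A] (n : ℕ) : A ⟶ A := (𝟙 A : A ⟶ A) ^ n

theorem smul_fr_zero {X : Scheme.{u}} (w : (MC X)ˣ) : w • fr X 0 = fr X 0 := by
  rw [smul_def, mul_comm, fr_zero_mul]

theorem pm_toU_smul {T B : Over (Spec (CommRingCat.of k))} (f : T ⟶ B) (x : Pic B.left) (c : MC B.left) :
    pm f.left (toU x • c) = toU (pl f x) • pm f.left c := by
  rw [pm_smul, um_toU]

variable (ℓ : Pic A.left)

/-- The Mumford class. -/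
noncomputable def lam : Pic (A ⊗ A).left := D ℓ (fst A A) (snd A A)

theorem pl_mu_eq : pl (μ[A] : A ⊗ A ⟶ A) ℓ = pl (fst A A) ℓ * pl (snd A A) ℓ * lam ℓ := by
  have h1 : (μ[A] : A ⊗ A ⟶ A) = fst A A * snd A A := by
    change _ = lift (fst A A) (snd A A) ≫ μ[A]
    rw [lift_fst_snd, Category.id_comp]
  rw [h1, pl_mul, lam]

/-- The class of `λ^a ⊗ q^*ℓ^n`. -/
noncomputable def tw (a n : ℕ) : Pic (A ⊗ A).left := lam ℓ ^ a * pl (snd A A) ℓ ^ n

/-- The class of `λ^a ⊗ q^*ℓ^n ⊗ p^*c`. -/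
noncomputable def WW (a n : ℕ) (c : MC A.left) : MC (A ⊗ A).left := toU (tw ℓ a n) • pm (fst A A).left c

/-- The class of `R^j q_*(λ ⊗ p^*c)`. -/
noncomputable def Ph (j : ℕ) (c : MC A.left) : MC A.left :=
  R (snd A A).left j (toU (lam ℓ) • pm (fst A A).left c)

variable [IsProper A.hom]

instance : IsProper (fst A A).left := by
  rw [show (fst A A).left = pullback.fst A.hom A.hom from rfl]
  infer_instance

instance : IsProper (snd A A).left := by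
  rw [show (snd A A).left = pullback.snd A.hom A.hom from rfl]
  infer_instance

instance : IsProper (A ⊗ A).hom := by
  rw [← Over.w (fst A A)]
  infer_instance

instance : IsLocallyNoetherian A.left := LocallyOfFiniteType.isLocallyNoetherian A.hom

instance : IsLocallyNoetherian (A ⊗ A).left := LocallyOfFiniteType.isLocallyNoetherian (A ⊗ A).hom

variable [GeometricallyIntegral A.hom]

theorem flat_nn {n : ℕ} (hn : 1 ≤ n) : Flat (nn A n).left := (Grpsch.MulFinFlat.isFinite_flat_surjective k A n hn).2.1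

theorem surj_nn {n : ℕ} (hn : 1 ≤ n) : Surjective (nn A n).left :=
  (Grpsch.MulFinFlat.isFinite_flat_surjective k A n hn).2.2

theorem pl_wl_lam (a : ℕ) : pl (A ◁ nn A a) (lam ℓ) = lam ℓ ^ a := by
  rw [lam, pl_D, whiskerLeft_fst, whiskerLeft_snd, MonObj.comp_pow, Category.comp_id, D_pow_right]

theorem pl_wr_lam (b : ℕ) : pl (nn A b ▷ A) (lam ℓ) = lam ℓ ^ b := by
  rw [lam, pl_D, whiskerRight_fst, whiskerRight_snd, MonObj.comp_pow, Category.comp_id, D_pow_left]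

theorem pl_wl_tr_lam (y : Pt A) : pl (A ◁ tr y) (lam ℓ) = lam ℓ * pl (fst A A) (phi ℓ y) := by
  rw [lam, pl_D, whiskerLeft_fst, whiskerLeft_snd, MonObj.comp_mul, Category.comp_id, D_mul_right,
    ← Category.assoc, Subsingleton.elim (snd A A ≫ toUnit A) (toUnit (A ⊗ A)), D_const_right]

/-- `R^j q_*(q^*β ⊗ W) = β ℓ^n ⊗ a^*Φ_j`. -/
theorem R_snd_WW {a : ℕ} (ha : 1 ≤ a) (n : ℕ) (β : Pic A.left) {c : MC A.left} (hc : Co c) (j : ℕ) :
    R (snd A A).left j (toU (pl (snd A A) β) • WW ℓ a n c) = toU (β * ℓ ^ n) • pm (nn A a).left (Ph ℓ j c) := by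
  have := flat_nn (A := A) ha
  have hco : Co (toU (lam ℓ) • pm (fst A A).left c) := (co_pm _ hc).smul _
  have h1 : toU (pl (snd A A) β) • WW ℓ a n c =
      Units.map (pm (snd A A).left) (toU (β * ℓ ^ n)) • pm (A ◁ nn A a).left (toU (lam ℓ) • pm (fst A A).left c) := by
    rw [pm_toU_smul, pl_wl_lam, ← pm_left_comp, whiskerLeft_fst, um_toU, WW, smul_smul, smul_smul, ← map_mul,
      ← map_mul]
    congr 2
    rw [tw]
    change _ = pl (snd A A) (β * ℓ ^ n) * _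
    rw [map_mul, map_pow]
    ac_rfl
  rw [h1, R_proj, Ph, R_bc (sq_wl A (nn A a)) hco]

/-- `b^* R^j p_* W = O^{h^j(ℓ^{ab})} ⊗ ℓ^{-ab} ⊗ b^*c`. -/
theorem pm_R_fst_WW (a : ℕ) {b : ℕ} (hb : 1 ≤ b) {c : MC A.left} (hc : Co c) (j : ℕ) :
    pm (nn A b).left (R (fst A A).left j (WW ℓ a (a * b) c)) =
      fr A.left (h k j ((toU (ℓ ^ (a * b)) : (MC A.left)ˣ) : MC A.left)) *
        ((toU (ℓ ^ (a * b)))⁻¹ • pm (nn A b).left c) := by
  have := flat_nn (A := A) hb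
  have hco : Co (WW ℓ a (a * b) c) := (co_pm _ hc).smul _
  have hm : Co ((toU (ℓ ^ (a * b)) : (MC A.left)ˣ) : MC A.left) := by
    rw [← smul_one']
    exact co_one.smul _
  rw [R_bc (sq_wr A (nn A b)) hco]
  have h1 : pm (nn A b ▷ A).left (WW ℓ a (a * b) c) =
      pm (fst A A).left ((toU (ℓ ^ (a * b)))⁻¹ • pm (nn A b).left c) *
        pm (μ[A] : A ⊗ A ⟶ A).left ((toU (ℓ ^ (a * b)) : (MC A.left)ˣ) : MC A.left) := by
    have e1 : pl (nn A b ▷ A) (tw ℓ a (a * b)) =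
        pl (μ[A] : A ⊗ A ⟶ A) (ℓ ^ (a * b)) * pl (fst A A) (ℓ ^ (a * b))⁻¹ := by
      rw [tw, map_mul, map_pow, pl_wr_lam, map_pow, ← pl_comp, whiskerRight_snd, map_pow, map_inv, map_pow, pl_mu_eq,
        ← pow_mul, mul_comm b a, mul_pow, mul_pow]
      generalize pl (fst A A) ℓ ^ (a * b) = x
      generalize pl (snd A A) ℓ ^ (a * b) = y
      generalize lam ℓ ^ (a * b) = z
      apply Additive.ofMul.injective
      simp only [ofMul_mul, ofMul_inv]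
      module
    have e2 : pm (μ[A] : A ⊗ A ⟶ A).left ((toU (ℓ ^ (a * b)) : (MC A.left)ˣ) : MC A.left) =
        ((toU (pl (μ[A] : A ⊗ A ⟶ A) (ℓ ^ (a * b))) : (MC (A ⊗ A).left)ˣ) : MC (A ⊗ A).left) :=
      congrArg Units.val (um_toU (μ[A] : A ⊗ A ⟶ A).left (ℓ ^ (a * b)))
    have e3 : pm (fst A A).left ((toU (ℓ ^ (a * b)))⁻¹ • pm (nn A b).left c) =
        toU (pl (fst A A) (ℓ ^ (a * b))⁻¹) • pm (fst A A).left (pm (nn A b).left c) := by
      rw [← map_inv, pm_toU_smul]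
    rw [WW, pm_toU_smul, ← pm_left_comp, whiskerRight_fst, pm_left_comp, e1, e2, e3, smul_def, smul_def, map_mul,
      Units.val_mul]
    generalize pm (fst A A).left (pm (nn A b).left c) = d
    rw [mul_assoc, mul_comm]
  rw [h1]
  exact R_mu A (((co_pm _ hc)).smul _) hm j

omit [IsProper A.hom] [GeometricallyIntegral A.hom] in
theorem isIso_tr (y : Pt A) : IsIso (tr y) := by
  refine ⟨⟨tr y⁻¹, ?_, ?_⟩⟩
  · rw [tr_comp_tr, mul_inv_cancel, tr_one]
  · rw [tr_comp_tr, inv_mul_cancel, tr_one]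

/-- `h^i(p^*φ(y)^a ⊗ W) = h^i(q^*φ(y)^{-n} ⊗ W)`. -/
theorem h_transl (a n : ℕ) (y : Pt A) {c : MC A.left} (hc : Co c) (i : ℕ) :
    h k i (toU (pl (fst A A) (phi ℓ y) ^ a) • WW ℓ a n c) =
      h k i (toU (pl (snd A A) ((phi ℓ y ^ n)⁻¹)) • WW ℓ a n c) := by
  have := isIso_tr (A := A) y
  have hiso : IsIso (A ◁ tr y).left := inferInstanceAs (IsIso ((Over.forget _).map (A ◁ tr y)))
  have hco : Co (toU (pl (snd A A) ((phi ℓ y ^ n)⁻¹)) • WW ℓ a n c) := ((co_pm _ hc).smul _).smul _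
  rw [← h_pm_iso (A ◁ tr y).left (Over.w (A ◁ tr y)) hco i]
  congr 1
  rw [WW, smul_smul, smul_smul, ← map_mul, ← map_mul, pm_toU_smul, ← pm_left_comp, whiskerLeft_fst]
  congr 2
  have e1 : pl (tr y) (phi ℓ y ^ n)⁻¹ = (phi ℓ y ^ n)⁻¹ :=
    mem_Inv_iff.mp (Subgroup.inv_mem _ (Subgroup.pow_mem _ (phi_mem_Inv ℓ y) n)) y
  have e0 : ∀ z : Pic A.left, pl (A ◁ tr y) (pl (snd A A) z) = pl (snd A A) (pl (tr y) z) := fun z => by
    rw [← pl_comp, whiskerLeft_snd, pl_comp]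
  rw [tw, map_mul, map_mul, map_pow, map_pow, pl_wl_tr_lam, e0, e0, e1, pl_tr, map_inv, map_pow, map_mul, mul_pow, mul_pow]
  generalize pl (fst A A) (phi ℓ y) ^ a = x
  generalize pl (snd A A) (phi ℓ y) ^ n = z
  apply Additive.ofMul.injective
  simp only [ofMul_mul, ofMul_inv]
  module

end K526.Core
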