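import Mathlib.Algebra.Group.ForwardDiff
import Mathlib.Algebra.MvPolynomial.Eval
import Mathlib.Algebra.MvPolynomial.Degrees
import Mathlib.Algebra.Polynomial.Roots
import Mathlib.Tactic.Linarith
import Mathlib.Tactic.Positivity
import Mathlib.Tactic.FieldSimp
/-!
# Numerical lemmas on Hilbert polynomials
-/

set_option autoImplicit false

open Polynomial

namespace K526.HilbNum

/-- Backward differences of a polynomial function on the integers. -/
theorem backward_eq (P : ℚ[X]) (D : ℕ → ℤ → ℚ) (h0 : ∀ p : ℤ, D 0 p = P.eval (p : ℚ))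
    (hs : ∀ j p, D (j + 1) p = D j p - D j (p - 1)) (j : ℕ) (p : ℤ) :
    D j p = ((fwdDiff (1 : ℚ))^[j] P.eval) ((p : ℚ) - j) := by
  induction j generalizing p with
  | zero => simp [h0]
  | succ j ih =>
    rw [hs, ih, ih, Function.iterate_succ_apply', fwdDiff]
    congr 2
    · push_cast; ring_nf
    · push_cast; ring_nf

/-- Degree and leading coefficient from a positive iterated difference. -/
theorem natDegree_eq (P : ℚ[X]) (D : ℕ → ℤ → ℚ) (h0 : ∀ p : ℤ, D 0 p = P.eval (p : ℚ))
    (hs : ∀ j p, D (j + 1) p = D j p - D j (p - 1)) {r : ℕ} (hr : P.natDegree ≤ r) (hpos : 0 < D r 0) :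
    P.natDegree = r ∧ 0 < P.leadingCoeff := by
  have h1 := backward_eq P D h0 hs r 0
  have h2 : P.natDegree = r := by
    by_contra hne
    have hlt : P.natDegree < r := lt_of_le_of_ne hr hne
    rw [Polynomial.fwdDiff_iter_eq_zero_of_degree_lt hlt] at h1
    rw [h1] at hpos
    exact lt_irrefl _ hpos
  refine ⟨h2, ?_⟩
  rw [← h2, Polynomial.fwdDiff_iter_degree_eq_factorial, h2] at h1
  rw [h1] at hpos
  simp only [Pi.smul_apply, Pi.natCast_apply, smul_eq_mul] at hpos
  exact pos_of_mul_pos_left hpos (by positivity)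

/-- The one variable polynomial attached to a two variable polynomial which only depends on the difference. -/
theorem exists_int_poly {d : ℕ} (P : MvPolynomial (Fin 2) ℚ) (hP : P.totalDegree ≤ d) (f : ℤ → ℚ)
    (hf : ∀ a b : ℕ, f ((a : ℤ) - b) = MvPolynomial.eval ![(a : ℚ), (b : ℚ)] P) :
    ∃ Q : ℚ[X], Q.natDegree ≤ d ∧ ∀ n : ℤ, f n = Q.eval (n : ℚ) := by
  -- `P (X + b, b)`
  let R : ℚ → ℚ[X] := fun b => ∑ m ∈ P.support, C (P.coeff m) * ((X + C b) ^ (m 0) * C (b ^ (m 1)))
  have hR : ∀ b x : ℚ, (R b).eval x = MvPolynomial.eval ![x + b, b] P := by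
    intro b x
    rw [MvPolynomial.eval_eq', eval_finsetSum]
    refine Finset.sum_congr rfl fun m _ => ?_
    simp [Fin.prod_univ_two]
  have hdeg : ∀ b, (R b).natDegree ≤ d := by
    intro b
    refine natDegree_sum_le_of_forall_le _ _ fun m hm => ?_
    refine (natDegree_C_mul_le _ _).trans ((natDegree_mul_C_le _ _).trans ?_)
    rw [natDegree_pow, natDegree_X_add_C, mul_one]
    refine le_trans ?_ ((MvPolynomial.le_totalDegree hm).trans hP)
    rw [Finsupp.sum_fintype _ _ (by simp)]
    simp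
  have hnat : ∀ a b : ℕ, (R b).eval (a : ℚ) = f a := by
    intro a b
    rw [hR, show (a : ℤ) = ((a + b : ℕ) : ℤ) - (b : ℕ) by push_cast; ring, hf]
    push_cast
    rfl
  have hRR : ∀ b : ℕ, R b = R 0 := by
    intro b
    refine Polynomial.eq_of_infinite_eval_eq _ _ ?_
    refine Set.Infinite.mono (s := Set.range (fun a : ℕ => (a : ℚ))) ?_ (Set.infinite_range_of_injective Nat.cast_injective)
    rintro _ ⟨a, rfl⟩
    change (R b).eval (a : ℚ) = (R 0).eval (a : ℚ)
    rw [hnat a b]
    have := hnat a 0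
    rw [Nat.cast_zero] at this
    exact this.symm
  refine ⟨R 0, hdeg 0, fun n => ?_⟩
  rcases n with a | b
  · have := hnat a 0
    rw [Nat.cast_zero] at this
    exact this.symm
  · have h1 : f (Int.negSucc b) = MvPolynomial.eval ![((0 : ℕ) : ℚ), ((b + 1 : ℕ) : ℚ)] P := by
      rw [← hf]
      simp [Int.negSucc_eq]
    rw [h1, ← hRR (b + 1), hR]
    congr 2
    rw [Int.negSucc_eq]
    push_cast
    ring_nf

end K526.HilbNum
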