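import Groth.Agent.Pic13.H11.Cls
import Groth.Agent.AbVar.K526.HilbNum
import Groth.Agent.S1528
import Groth.Agent.Fga.SnapperTwist
/-!
# Hilbert polynomials of classes of coherent modules, with integer exponents
-/

set_option autoImplicit false
universe u
open CategoryTheory CategoryTheory.Limits AlgebraicGeometry
open Groth.Agent Groth.Agent.Fga.PicMon Groth.Agent.Fga Groth.Agent.Pic13.H11.Cls

namespace K526.Hilb

variable (k : Type u) [Field k] {X : Scheme.{u}} [X.Over (Spec (CommRingCat.of k))]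
  [IsProper (X ↘ Spec (CommRingCat.of k))]

/-- `χ(w^n ⊗ c)` is a polynomial in the integer `n` of degree at most the dimension of the support. -/
theorem exists_poly (w : (MC X)ˣ) {c : MC X} (hc : Co c) {d : ℕ} (hd : topologicalKrullDim (supp c) ≤ d) :
    ∃ P : Polynomial ℚ, P.natDegree ≤ d ∧ ∀ n : ℤ, (chi k (w ^ n • c) : ℚ) = P.eval (n : ℚ) := by
  induction c using MC.ind with | h F => ?_
  obtain ⟨L, hL, hu⟩ := exists_invertible w
  obtain ⟨M, hM, hv⟩ := exists_invertible w⁻¹
  obtain ⟨P, hP, h⟩ := S1528.result k X F hc d hd 2 ![L, M] (by intro i; fin_cases i; exacts [hL, hM])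
  refine HilbNum.exists_int_poly P hP (fun n => chi k (w ^ n • mc F)) fun a b => ?_
  have h1 := h ![a, b]
  have h2 : (fun i => ((![a, b] i : ℕ) : ℚ)) = ![(a : ℚ), (b : ℚ)] := by
    funext i; fin_cases i <;> rfl
  rw [h2] at h1
  rw [← h1, ← chi_mc k, SnapperTwist.mc_tensorPows, smul_def]
  have h3 : (((w ^ ((a : ℤ) - b) : (MC X)ˣ)) : MC X) = mc L ^ a * mc M ^ b := by
    rw [hu, hv, ← Units.val_pow_eq_pow_val, ← Units.val_pow_eq_pow_val, ← Units.val_mul, inv_pow, zpow_sub,
      zpow_natCast, zpow_natCast]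
  rw [h3, Fin.prod_univ_two]
  simp only [Matrix.cons_val_zero, Matrix.cons_val_one]

end K526.Hilb
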