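import Groth.Agent.AbVar.K526.OneSided
/-!
# Right polynomiality of rank functions, and the value at the point

`Ctx2.right`: rank functions are right polynomial at every rational point; `Ctx2.one_sided`: the form with continuity.
-/

set_option autoImplicit false
universe u
open CategoryTheory CategoryTheory.Limits AlgebraicGeometry
open Groth.Agent Groth.Agent.Fga.PicMon Groth.Agent.Fga Groth.Agent.Pic13.H11.Cls

namespace K526

open Cut RankPoly

variable {k : Type u} [Field k] {X : Scheme.{u}} [X.Over (Spec (CommRingCat.of k))]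
  [IsProper (X ↘ Spec (CommRingCat.of k))] {g : ℕ} {η : (MC X)ˣ}
  {P0 : Subgroup (MC X)ˣ} {pl : ℕ → MC X →* MC X}

/-- The long exact sequence when the middle term has cohomology only in degree `g`. -/
theorem h_shift {a b c : MC X} (hs : Ses a b c) (hb : ∀ j, j ≠ g → V j b) {j : ℕ} (hj : j + 1 < g) :
    h k j c = h k (j + 1) a := by
  have h1 := hs.h_right_le k j
  have h2 := hs.h_left_le k j
  rw [h_eq_zero k (hb j (by omega))] at h1
  rw [h_eq_zero k (hb (j + 1) (by omega))] at h2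
  omega

theorem h_shift_top {m : ℕ} {a b c : MC X} (hs : Ses a b c) (hb : ∀ j, j ≠ m + 1 → V j b)
    (hd : ∀ x : MC X, Co x → ∀ j, m + 1 < j → V j x) :
    h k m c + h k (m + 1) b = h k (m + 1) a + h k (m + 1) c := by
  have hchi := hs.chi_eq k
  rw [chi_eq_sum k a (m + 1) (hd a hs.co₁), chi_eq_sum k c (m + 1) (hd c hs.co₃),
    chi_eq_sum k b (m + 1) (hd b hs.co₂)] at hchi
  have e1 : ∑ i ∈ Finset.range (m + 1 + 1), (-1 : ℤ) ^ i * (h k i b : ℤ) = (-1) ^ (m + 1) * (h k (m + 1) b : ℤ) := by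
    rw [Finset.sum_range_succ, Finset.sum_eq_zero, zero_add]
    intro i hi
    rw [h_eq_zero k (hb i (Finset.mem_range.mp hi).ne)]
    simp
  have e2 : ∑ i ∈ Finset.range (m + 1 + 1), (-1 : ℤ) ^ i * (h k i a : ℤ) =
      -∑ i ∈ Finset.range (m + 1), (-1 : ℤ) ^ i * (h k (i + 1) a : ℤ) := by
    rw [Finset.sum_range_succ']
    have h0 : h k 0 a = 0 := by
      have := hs.h_zero_le k
      rw [h_eq_zero k (hb 0 (by omega))] at this
      omega
    rw [h0, ← Finset.sum_neg_distrib]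
    simp only [Nat.cast_zero, mul_zero, add_zero]
    refine Finset.sum_congr rfl fun i _ => ?_
    rw [pow_succ]; ring
  have e3 : ∑ i ∈ Finset.range (m + 1), (-1 : ℤ) ^ i * (h k i c : ℤ) -
      ∑ i ∈ Finset.range (m + 1), (-1 : ℤ) ^ i * (h k (i + 1) a : ℤ) =
        (-1) ^ m * ((h k m c : ℤ) - h k (m + 1) a) := by
    rw [← Finset.sum_sub_distrib, Finset.sum_range_succ, Finset.sum_eq_zero, zero_add, mul_sub]
    intro i hi
    have := h_shift (k := k) hs hb (j := i) (by have := Finset.mem_range.mp hi; omega)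
    rw [this, sub_self]
  rw [e1, e2, Finset.sum_range_succ _ (m + 1)] at hchi
  have e4 : (-1 : ℤ) ^ m * ((h k m c : ℤ) + h k (m + 1) b - h k (m + 1) a - h k (m + 1) c) = 0 := by
    have : (-1 : ℤ) ^ (m + 1) = -(-1) ^ m := by rw [pow_succ]; ring
    rw [this] at hchi
    linear_combination -hchi - e3
  have e5 : (-1 : ℤ) ^ m ≠ 0 := pow_ne_zero _ (by norm_num)
  have := (mul_eq_zero.mp e4).resolve_left e5
  omega

variable (H : Ctx2 k g η P0 pl)
include H

theorem Ctx2.V_top {x : MC X} (hx : Co x) {j : ℕ} (hj : g < j) : V j x :=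
  V_of_dim k hx ((dim_supp_le _).trans H.dim.le) hj

theorem Ctx2.rk_large {i : ℕ} (hi : g < i) {c : MC X} (hc : Co c) (x : ℚ) : rk k g η P0 pl i c x = 0 := by
  have hB : 1 ≤ x.den := x.den_pos
  have h1 : ((x.num * x.den : ℤ) : ℚ) = x * (x.den : ℚ) ^ 2 := by
    push_cast
    have : (x.num : ℚ) = x * x.den := (Rat.mul_den_eq_num x).symm
    rw [this]; ring
  rw [H.toCtx.rk_eq hc x hB h1]
  have h2 : HH k η P0 pl i c x.den (x.num * x.den) = 0 := by
    obtain ⟨u, hu, hue⟩ := exists_hg k P0 i (η ^ (x.num * x.den : ℤ) • pl x.den c)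
    rw [HH, ← hue, h_eq_zero k (H.V_top (((H.co _ hB c hc).smul _).smul _) hi)]
  rw [h2]
  simp

/-- The sequences of twists. -/
theorem Ctx2.ses_neg {r : ℕ} {K c : MC X} (hK : Ses K (fr X r) c) {B : ℕ} (hB : 1 ≤ B) {n : ℤ} (hn : n ≤ -1)
    {u : (MC X)ˣ} (hu : u ∈ P0) :
    Ses (u • η ^ n • pl B K) (u • η ^ n • pl B (fr X r)) (u • η ^ n • pl B c) ∧
      ∀ j, j ≠ g → V j (u • η ^ n • pl B (fr X r)) := by
  have := IntAdd.isNoetherian k X
  refine ⟨((H.ses B hB _ _ _ hK).smul (η ^ n)).smul u, fun j hj => ?_⟩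
  rw [smul_smul, H.free B hB]
  exact V_smul_fr _ (H.van' u hu n hn j hj) r

/-- A negative rational number as a quotient. -/
theorem exists_repr {x : ℚ} (hx : x < 0) : ∃ (n : ℤ), n ≤ -1 ∧ (n : ℚ) = x * (x.den : ℚ) ^ 2 := by
  refine ⟨x.num * x.den, ?_, ?_⟩
  · have h1 : x.num < 0 := Rat.num_neg.mpr hx
    have h2 : (0 : ℤ) < x.den := by exact_mod_cast x.den_pos
    nlinarith
  · push_cast
    have : (x.num : ℚ) = x * x.den := (Rat.mul_den_eq_num x).symm
    rw [this]; ring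

theorem Ctx2.rk_succ {r : ℕ} {K c : MC X} (hK : Ses K (fr X r) c) {i : ℕ} (hi : i + 1 < g) {x : ℚ} (hx : x < 0) :
    rk k g η P0 pl i c x = rk k g η P0 pl (i + 1) K x := by
  have hB : 1 ≤ x.den := x.den_pos
  obtain ⟨n, hn, hnx⟩ := exists_repr H hx
  rw [H.toCtx.rk_eq hK.co₃ x hB hnx, H.toCtx.rk_eq (i := i + 1) hK.co₁ x hB hnx]
  congr 2
  unfold HH hg
  congr 1
  funext u
  obtain ⟨h1, h2⟩ := H.ses_neg hK hB hn u.2
  exact h_shift h1 h2 hi

theorem Ctx2.rk_top {m : ℕ} (hm : g = m + 1) {r : ℕ} {K c : MC X} (hK : Ses K (fr X r) c) {x : ℚ} (hx : x < 0) :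
    rk k g η P0 pl m c x + rk k g η P0 pl g (fr X r) x = rk k g η P0 pl g K x + rk k g η P0 pl g c x := by
  have hB : 1 ≤ x.den := x.den_pos
  obtain ⟨n, hn, hnx⟩ := exists_repr H hx
  rw [H.toCtx.rk_eq (i := m) hK.co₃ x hB hnx, H.toCtx.rk_eq (i := g) hK.co₁ x hB hnx,
    H.toCtx.rk_eq (i := g) hK.co₂ x hB hnx, H.toCtx.rk_eq (i := g) hK.co₃ x hB hnx, ← add_div, ← add_div]
  congr 1
  have hco : ∀ y : MC X, Co y → Co (η ^ n • pl x.den y) := fun y hy => (H.co _ hB y hy).smul _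
  obtain ⟨u, hu, hgen⟩ := H.gen [(m, η ^ n • pl x.den c), (g, η ^ n • pl x.den (fr X r)), (g, η ^ n • pl x.den K),
    (g, η ^ n • pl x.den c)] (by
      intro y hy
      simp only [List.mem_cons, List.not_mem_nil, or_false] at hy
      rcases hy with rfl | rfl | rfl | rfl
      · exact hco _ hK.co₃
      · exact hco _ hK.co₂
      · exact hco _ hK.co₁
      · exact hco _ hK.co₃)
  have e1 := hgen (m, η ^ n • pl x.den c) (by simp)
  have e2 := hgen (g, η ^ n • pl x.den (fr X r)) (by simp)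
  have e3 := hgen (g, η ^ n • pl x.den K) (by simp)
  have e4 := hgen (g, η ^ n • pl x.den c) (by simp)
  obtain ⟨h1, h2⟩ := H.ses_neg hK hB hn hu
  have h3 := h_shift_top (k := k) (m := m) h1 (hm ▸ h2) (fun y hy j hj => H.V_top hy (by omega))
  rw [← hm] at h3
  unfold HH
  rw [← e1, ← e2, ← e3, ← e4]
  exact_mod_cast h3

theorem Ctx2.right (t : ℕ) : ∀ i, g ≤ i + t → ∀ c : MC X, Co c → ∀ x₀ : ℚ, RightPoly g (rk k g η P0 pl i c) x₀ := by
  have base : ∀ i, g ≤ i → ∀ c : MC X, Co c → ∀ x₀ : ℚ, RightPoly g (rk k g η P0 pl i c) x₀ := by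
    intro i hi c hc x₀
    rcases Nat.eq_or_lt_of_le hi with rfl | h1
    · exact H.right_top hc x₀
    · exact (rightPoly_zero (g := g)).congr one_pos fun x _ _ => H.rk_large h1 hc x
  induction t with
  | zero => exact fun i hi => base i hi
  | succ t ih =>
    intro i hi c hc x₀
    by_cases hig : g ≤ i
    · exact base i hig c hc x₀
    obtain ⟨a₀, ha₀⟩ := H.quot' c hc
    obtain ⟨n, hn⟩ := exists_nat_gt x₀
    obtain ⟨r, K, hK⟩ := ha₀ (max a₀ n) (le_max_left _ _)
    set a := max a₀ n with ha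
    have hxa : x₀ - a < 0 := by
      have : (n : ℚ) ≤ a := by exact_mod_cast le_max_right a₀ n
      linarith
    have hsh : ∀ x, rk k g η P0 pl i c x = rk k g η P0 pl i (η ^ a • c) (x - a) := by
      intro x
      have h1 := H.toCtx.rk_shift (i := i) hc (a : ℤ) (b := 1) le_rfl (x - a)
      rw [H.one'] at h1
      have e1 : (η ^ ((a : ℤ) * ((1 : ℕ) : ℤ)) : (MC X)ˣ) = η ^ a := by
        rw [Nat.cast_one, mul_one, zpow_natCast]
      rw [e1] at h1
      rw [h1]
      simp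
    refine RankPoly.RightPoly.shift (a := (a : ℚ)) ?_ hsh
    have hε : 0 < -(x₀ - a) := by linarith
    by_cases h1 : i + 1 < g
    · exact (ih (i + 1) (by omega) K hK.co₁ (x₀ - a)).congr hε fun x _ hx2 => H.rk_succ hK h1 (by linarith)
    · have hm : g = i + 1 := by omega
      have hr := ((base g le_rfl K hK.co₁ (x₀ - a)).add (base g le_rfl _ hK.co₃ (x₀ - a))).add
        (base g le_rfl _ hK.co₂ (x₀ - a)).neg
      refine hr.congr hε fun x _ hx2 => ?_
      have h2 := H.rk_top hm hK (x := x) (by linarith)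
      change _ = rk k g η P0 pl g K x + rk k g η P0 pl g (η ^ a • c) x + -rk k g η P0 pl g (fr X r) x
      linarith

end K526
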