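import Groth.Agent.AbVar.K526.OneSided
/-!
# Homogeneity of the Euler characteristic of the powers of the polarization
-/

set_option autoImplicit false
universe u
open CategoryTheory CategoryTheory.Limits AlgebraicGeometry
open Groth.Agent Groth.Agent.Fga.PicMon Groth.Agent.Fga Groth.Agent.Pic13.H11.Cls

namespace K526.Neg

open Cut

section poly

/-- A polynomial with `P(x) = a^{2g} P(x/a²)` is homogeneous. -/
theorem eval_eq_of_hom {g : ℕ} {P : Polynomial ℚ}
    (h : ∀ n : ℤ, P.eval (n : ℚ) = (2 : ℚ) ^ (2 * g) * P.eval ((n : ℚ) / (2 : ℚ) ^ 2)) (x : ℚ) :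
    P.eval x = x ^ g * P.eval 1 := by
  have h1 : P = Polynomial.C ((2 : ℚ) ^ (2 * g)) * P.comp (Polynomial.C (1 / 4) * Polynomial.X) := by
    refine Polynomial.eq_of_infinite_eval_eq _ _ ?_
    refine Set.Infinite.mono (s := Set.range fun m : ℕ => (m : ℚ)) ?_ (Set.infinite_range_of_injective Nat.cast_injective)
    rintro _ ⟨m, rfl⟩
    have h2 := h m
    simp only [Set.mem_ofPred_eq, Polynomial.eval_mul, Polynomial.eval_C, Polynomial.eval_comp, Polynomial.eval_X]
    push_cast at h2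
    rw [h2]
    congr 2
    ring
  have h2 : ∀ j, j ≠ g → P.coeff j = 0 := by
    intro j hj
    have h3 := congrArg (fun Q => Polynomial.coeff Q j) h1
    simp only [Polynomial.coeff_C_mul, Polynomial.comp_C_mul_X_coeff] at h3
    have h4 : P.coeff j * (1 - (2 : ℚ) ^ (2 * g) * (1 / 4) ^ j) = 0 := by linarith
    rcases mul_eq_zero.mp h4 with h5 | h5
    · exact h5
    · exfalso
      have h6 : (4 : ℚ) ^ j = 4 ^ g := by
        have h7 : (2 : ℚ) ^ (2 * g) = 4 ^ g := by rw [pow_mul]; norm_num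
        rw [h7, one_div, inv_pow] at h5
        field_simp at h5
        linarith
      exact hj (Nat.pow_right_injective (le_refl 2 |>.trans (by norm_num : 2 ≤ 4)) (by exact_mod_cast h6))
  have h3 : P = Polynomial.C (P.coeff g) * Polynomial.X ^ g := by
    ext j
    rw [Polynomial.coeff_C_mul, Polynomial.coeff_X_pow]
    split_ifs with hj
    · rw [hj, mul_one]
    · rw [h2 j hj, mul_zero]
  generalize P.coeff g = c at h3
  rw [h3, Polynomial.eval_mul, Polynomial.eval_C, Polynomial.eval_pow, Polynomial.eval_X, Polynomial.eval_mul,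
    Polynomial.eval_C, Polynomial.eval_pow, Polynomial.eval_X, one_pow, mul_one, mul_comm]

end poly

section ctx

variable {k : Type u} [Field k] {X : Scheme.{u}} [X.Over (Spec (CommRingCat.of k))]
  [IsProper (X ↘ Spec (CommRingCat.of k))] {g : ℕ} {η : (MC X)ˣ} {P0 : Subgroup (MC X)ˣ}
  {pl : ℕ → MC X →* MC X} (H : Ctx k g η P0 pl)
include H

/-- `χ(η^n) = n^g χ(η)`. -/
theorem chi_zpow (hone : ∀ c, pl 1 c = c) (n : ℤ) :
    (chi k ((η ^ n : (MC X)ˣ) : MC X) : ℚ) = (n : ℚ) ^ g * (chi k (η : MC X) : ℚ) := by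
  have := IntAdd.isNoetherian k X
  have hd : topologicalKrullDim (supp (1 : MC X)) ≤ g := H.dim ▸ dim_supp_le _
  obtain ⟨P, -, hP⟩ := Hilb.exists_poly k η co_one hd
  have h1 : ∀ n : ℤ, P.eval (n : ℚ) = (2 : ℚ) ^ (2 * g) * P.eval ((n : ℚ) / (2 : ℚ) ^ 2) := by
    intro n
    have h2 := H.hilb hone co_one hP (a := 2) (by norm_num) n
    rw [map_one, hP] at h2
    exact_mod_cast h2
  have h3 := hP n
  have h4 := hP 1
  rw [smul_one'] at h3 h4
  rw [zpow_one] at h4
  rw [h3, h4, eval_eq_of_hom h1]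
  norm_num

end ctx

end K526.Neg
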