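import Groth.Agent.AbVar.K526.Inst
import Groth.Agent.AbVar.K526.HomPoly
import Groth.Agent.AbVar.K524.FinSupp
/-!
# Rank functions for small negative twists

`core_neg`: for `c` coherent there is `M` such that for all `a ≥ 1`, `b ≥ M a` and all `i`
`χ(ℓ) a^g h^i_gen(ℓ^{-ab} ⊗ b^*c) = b^g χ(ℓ^{ab} ⊗ a^*Φ_i)`; `neg`: the form with the Hilbert polynomial of `Φ_i`.
-/

set_option autoImplicit false
universe u
open CategoryTheory CategoryTheory.Limits MonoidalCategory CartesianMonoidalCategory AlgebraicGeometry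
open scoped MonObj
open Groth.Agent Groth.Agent.Fga.PicMon Groth.Agent.Fga Groth.Agent.Pic13.H11.Cls Groth.Agent.Pic13.H11.NumU
  Groth.Agent.Grpsch.PicGrp Groth.Agent.Grpsch.Cube

namespace K526.Neg

open Cut PullM K518.Phi _root_.K526.Prod Core Fam Inst

variable {k : Type u} [Field k] {A : Over (Spec (CommRingCat.of k))} [GrpObj A] [IsProper A.hom]
  [GeometricallyIntegral A.hom] [IsAlgClosed k] {g : ℕ}

omit [GeometricallyIntegral A.hom] in
/-- The transforms vanish in degrees larger than the dimension. -/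
theorem Ph_eq_zero (hd : topologicalKrullDim A.left = g) (ℓ : Pic A.left) {c : MC A.left} (hc : Co c) {j : ℕ} (hj : g < j) :
    Ph ℓ j c = fr A.left 0 := by
  obtain ⟨G, he, hG, hf⟩ := exists_G (B := A) (toU (lam ℓ)) hc
  rw [Ph, ← he]
  rw [eq_zero_iff (R_mc _ _ _)]
  refine K524.FinSupp.isZero_Rpush_of_fiberRank (snd A A).left G hG hf j fun z => ?_
  change PerfAux.betti (snd A A).left G z j = 0
  have hopen := isOpen_betti hG hf j 1
  by_contra hz
  have hJ : JacobsonSpace A.left := LocallyOfFiniteType.jacobsonSpace A.hom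
  have hcl := hopen.isClosed_compl
  have h2 := JacobsonSpace.closure_inter_closedPoints_eq_closure hcl.isLocallyClosed
  rw [hcl.closure_eq] at h2
  have hne : (({z : A.left | PerfAux.betti (snd A A).left G z j < 1}ᶜ ∩ closedPoints A.left) : Set A.left).Nonempty := by
    rw [Set.nonempty_iff_ne_empty]
    intro h3
    rw [h3, closure_empty] at h2
    have : z ∈ ({z : A.left | PerfAux.betti (snd A A).left G z j < 1}ᶜ : Set A.left) := by
      change ¬ (PerfAux.betti (snd A A).left G z j < 1)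
      omega
    rw [← h2] at this
    exact this
  obtain ⟨w, hw, hwc⟩ := hne
  obtain ⟨y, hy⟩ := exists_pt w hwc
  apply hw
  change PerfAux.betti (snd A A).left G w j < 1
  rw [← hy, betti_v _ hG he, h_eq_zero k (V_of_dim k (hc.smul _) ((dim_supp_le _).trans hd.le) hj)]
  exact Nat.one_pos

variable {L : A.left.Modules} (hL : CohB1.IsAmple L)
  (H : Ctx k g (toU (mk L hL.1)) (P0 A) (fun b => pm (nn A b).left))
include H

theorem exists_M {c : MC A.left} (hc : Co c) : ∃ M : ℕ, ∀ a : ℕ, 1 ≤ a → ∀ n : ℤ, (M : ℤ) * (a : ℤ) ^ 2 ≤ n →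
    ∀ u ∈ P0 A, ∀ j q, V (q + 1) ((u * toU (mk L hL.1) ^ n : (MC A.left)ˣ) • pm (nn A a).left (Ph (mk L hL.1) j c)) := by
  have h1 : ∀ j, ∃ M : ℕ, ∀ a : ℕ, 1 ≤ a → ∀ n : ℤ, (M : ℤ) * (a : ℤ) ^ 2 ≤ n →
      ∀ u ∈ P0 A, ∀ q, V (q + 1) ((u * toU (mk L hL.1) ^ n : (MC A.left)ˣ) • pm (nn A a).left (Ph (mk L hL.1) j c)) :=
    fun j => H.serre (co_Ph (mk L hL.1) j hc)
  choose M hM using h1
  refine ⟨∑ j ∈ Finset.range (g + 1), M j, fun a ha n hn u hu j q => ?_⟩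
  by_cases hj : j ≤ g
  · refine hM j a ha n (le_trans ?_ hn) u hu q
    have : M j ≤ ∑ j ∈ Finset.range (g + 1), M j :=
      Finset.single_le_sum (f := M) (fun _ _ => Nat.zero_le _) (Finset.mem_range.mpr (Nat.lt_succ_of_le hj))
    have h2 : (M j : ℤ) ≤ ((∑ j ∈ Finset.range (g + 1), M j : ℕ) : ℤ) := by exact_mod_cast this
    have h3 : (0 : ℤ) ≤ (a : ℤ) ^ 2 := by positivity
    nlinarith
  · rw [Ph_eq_zero H.dim (mk L hL.1) hc (by omega), pm_fr, smul_fr_zero]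
    exact V_zero _

theorem chi_pos : 0 < chi k ((toU (mk L hL.1) : (MC A.left)ˣ) : MC A.left) := by
  have h1 := hasIdx_pow hL H.dim (n := 1) le_rfl
  rw [pow_one] at h1
  have hV : ∀ i, 1 ≤ i → V i ((toU (mk L hL.1) : (MC A.left)ˣ) : MC A.left) := fun i hi =>
    (V_toU _ i).2 (h1.1 i (by omega))
  rw [chi_eq_h_zero k hV]
  have h2 : ¬ V 0 ((toU (mk L hL.1) : (MC A.left)ˣ) : MC A.left) := fun h => h1.2 ((V_toU _ 0).1 h)
  rw [toU_mk_val] at h2 ⊢
  have hfin : Module.Finite k (Coh.HH A.left L 0) := HodgeSec.finite_HH' k (HodgeSec.isCoh_of_isInvertible hL.1) 0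
  have hnt : Nontrivial (Coh.HH A.left L 0) := not_subsingleton_iff_nontrivial.mp h2
  rw [h_mc]
  exact_mod_cast Module.finrank_pos

/-- **The comparison for small negative twists.** -/
theorem core_neg {c : MC A.left} (hc : Co c) : ∃ M : ℕ, ∀ a b : ℕ, 1 ≤ a → 1 ≤ b → M * a ≤ b → ∀ i,
    chi k ((toU (mk L hL.1) : (MC A.left)ˣ) : MC A.left) * (a : ℤ) ^ g *
        (hg k (P0 A) i (toU (mk L hL.1) ^ (-((a : ℤ) * b)) • pm (nn A b).left c) : ℕ) =
      (b : ℤ) ^ g * chi k (toU (mk L hL.1) ^ ((a : ℤ) * b) • pm (nn A a).left (Ph (mk L hL.1) i c)) := by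
  obtain ⟨M, hM⟩ := exists_M hL H hc
  refine ⟨M, fun a b ha hb hab i => ?_⟩
  have hab1 : 1 ≤ a * b := Nat.mul_pos ha hb
  have hz : ((toU (mk L hL.1 ^ (a * b)) : (MC A.left)ˣ)) = toU (mk L hL.1) ^ ((a : ℤ) * b) := by
    rw [map_pow, ← zpow_natCast]
    push_cast
    rfl
  have hv0 : ∀ q, V (q + 1) ((toU (mk L hL.1 ^ (a * b)) : (MC A.left)ˣ) : MC A.left) := fun q =>
    (V_toU _ _).2 ((hasIdx_pow hL H.dim hab1).1 (q + 1) (by omega))
  have h1 := core (mk L hL.1) ha hb hc (fun j => h_eq_zero k (hv0 j)) i (g := g)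
    (fun d hd => H.hgmul b hb d hd i) (surj_ample hL a ha) (fun u hu d hd => H.chi_smul u hu d hd)
    (fun u hu j q => by
      have h2 := hM a ha ((a : ℤ) * b) (by
        have : (M : ℤ) * a ≤ b := by exact_mod_cast hab
        have h0 : (0 : ℤ) ≤ a := by positivity
        nlinarith) u hu j q
      rw [smul_smul, hz]
      exact h2)
  have h3 := h_zero_eq_chi (k := k) hv0
  have hone : ∀ c : MC A.left, pm (nn A 1).left c = c := pm_nn_one
  have h4 := chi_zpow H hone ((a : ℤ) * b)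
  rw [← hz] at h4
  have h5 : chi k ((toU (mk L hL.1 ^ (a * b)) : (MC A.left)ˣ) : MC A.left) =
      ((a : ℤ) * b) ^ g * chi k ((toU (mk L hL.1) : (MC A.left)ˣ) : MC A.left) := by exact_mod_cast h4
  rw [h3, h5, hz, ← zpow_neg] at h1
  have hb0 : (b : ℤ) ^ g ≠ 0 := pow_ne_zero _ (by positivity)
  refine mul_left_cancel₀ hb0 ?_
  rw [mul_pow] at h1
  calc (b : ℤ) ^ g * (chi k ((toU (mk L hL.1) : (MC A.left)ˣ) : MC A.left) * (a : ℤ) ^ g *
        (hg k (P0 A) i (toU (mk L hL.1) ^ (-((a : ℤ) * b)) • pm (nn A b).left c) : ℕ))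
      = (a : ℤ) ^ g * (b : ℤ) ^ g * chi k ((toU (mk L hL.1) : (MC A.left)ˣ) : MC A.left) *
        (hg k (P0 A) i (toU (mk L hL.1) ^ (-((a : ℤ) * b)) • pm (nn A b).left c) : ℕ) := by ring
    _ = _ := h1
    _ = _ := by ring

theorem neg (c : MC A.left) (hc : Co c) (i : ℕ) : ∃ (Q : Polynomial ℚ) (κ ε : ℚ), Q.natDegree ≤ g ∧ 0 < ε ∧
    ∀ a b : ℕ, 1 ≤ a → 1 ≤ b → (a : ℚ) / b < ε →
      (HH k (toU (mk L hL.1)) (P0 A) (fun b => pm (nn A b).left) i c b (-((a : ℤ) * b)) : ℚ) / (b : ℚ) ^ (2 * g) =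
        κ * (((a : ℚ) / b) ^ g * Q.eval ((b : ℚ) / a)) := by
  obtain ⟨M, hM⟩ := core_neg hL H hc
  have hco := co_Ph (mk L hL.1) i hc
  obtain ⟨Q, hQ, hQ'⟩ := Hilb.exists_poly k (toU (mk L hL.1)) hco ((dim_supp_le _).trans H.dim.le)
  have hpos := chi_pos hL H
  refine ⟨Q, 1 / (chi k ((toU (mk L hL.1) : (MC A.left)ˣ) : MC A.left) : ℚ), 1 / (M + 1), hQ, by positivity,
    fun a b ha hb hab => ?_⟩
  have ha0 : (0 : ℚ) < a := by exact_mod_cast ha
  have hb0 : (0 : ℚ) < b := by exact_mod_cast hb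
  have hMab : M * a ≤ b := by
    rw [div_lt_div_iff₀ hb0 (by positivity)] at hab
    have : (a : ℚ) * (M + 1) < 1 * b := hab
    have h1 : (M : ℚ) * a ≤ b := by nlinarith
    exact_mod_cast h1
  have h1 := hM a b ha hb hMab i
  have h2 := H.hilb pm_nn_one hco hQ' ha ((a : ℤ) * b)
  have h1' : (chi k ((toU (mk L hL.1) : (MC A.left)ˣ) : MC A.left) : ℚ) * (a : ℚ) ^ g *
      (HH k (toU (mk L hL.1)) (P0 A) (fun b => pm (nn A b).left) i c b (-((a : ℤ) * b)) : ℚ) =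
      (b : ℚ) ^ g * (chi k (toU (mk L hL.1) ^ ((a : ℤ) * b) • pm (nn A a).left (Ph (mk L hL.1) i c)) : ℚ) := by
    exact_mod_cast h1
  rw [h2] at h1'
  have hχ : (chi k ((toU (mk L hL.1) : (MC A.left)ˣ) : MC A.left) : ℚ) ≠ 0 := by exact_mod_cast hpos.ne'
  have e1 : (((a : ℤ) * b : ℤ) : ℚ) / (a : ℚ) ^ 2 = (b : ℚ) / a := by
    push_cast
    field_simp
  rw [e1] at h1'
  have e2 : (HH k (toU (mk L hL.1)) (P0 A) (fun b => pm (nn A b).left) i c b (-((a : ℤ) * b)) : ℚ) =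
      (b : ℚ) ^ g * (a : ℚ) ^ g * Q.eval ((b : ℚ) / a) / (chi k ((toU (mk L hL.1) : (MC A.left)ˣ) : MC A.left) : ℚ) := by
    rw [eq_div_iff hχ]
    have hag : (a : ℚ) ^ g ≠ 0 := pow_ne_zero _ ha0.ne'
    refine mul_left_cancel₀ hag ?_
    rw [two_mul, pow_add] at h1'
    linear_combination h1'
  rw [e2, two_mul, pow_add, div_pow]
  field_simp

end K526.Neg
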