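import Mathlib.LinearAlgebra.Lagrange
import Mathlib.Algebra.Polynomial.Eval.Degree
import Mathlib.Data.Nat.Factorial.BigOperators
import Mathlib.Data.Nat.Choose.Basic
import Mathlib.Tactic
/-!
# Integrality of the coefficients of a polynomial taking values with bounded denominators

`K526.IntPoly.factorial_mul_coeff_int`: if `Q` has degree `≤ g` and `b ^ (2g) * Q (a / b)` is an integer for all rationals
`a / b` of an open interval, then `g! * Q` has integer coefficients.
-/

set_option autoImplicit false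

open Polynomial Finset

namespace K526.IntPoly

/-- A rational number is an integer. -/
def IsInt (q : ℚ) : Prop := ∃ z : ℤ, q = z

theorem IsInt.add {p q : ℚ} (hp : IsInt p) (hq : IsInt q) : IsInt (p + q) := by
  obtain ⟨a, rfl⟩ := hp; obtain ⟨b, rfl⟩ := hq; exact ⟨a + b, by push_cast; ring⟩

theorem IsInt.mul {p q : ℚ} (hp : IsInt p) (hq : IsInt q) : IsInt (p * q) := by
  obtain ⟨a, rfl⟩ := hp; obtain ⟨b, rfl⟩ := hq; exact ⟨a * b, by push_cast; ring⟩

theorem isInt_intCast (z : ℤ) : IsInt (z : ℚ) := ⟨z, rfl⟩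

theorem isInt_natCast (n : ℕ) : IsInt (n : ℚ) := ⟨n, by simp⟩

theorem isInt_sum {ι : Type*} (s : Finset ι) (f : ι → ℚ) (h : ∀ i ∈ s, IsInt (f i)) : IsInt (∑ i ∈ s, f i) := by
  classical
  induction s using Finset.induction_on with
  | empty => exact ⟨0, by simp⟩
  | insert a s ha ih =>
    rw [Finset.sum_insert ha]
    exact (h a (Finset.mem_insert_self _ _)).add (ih fun i hi => h i (Finset.mem_insert_of_mem hi))

theorem isInt_of_coprime {q : ℚ} {m n : ℕ} (hmn : Nat.Coprime m n) (hm : IsInt (q * m)) (hn : IsInt (q * n)) :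
    IsInt q := by
  have hc : IsCoprime (m : ℤ) (n : ℤ) := Nat.isCoprime_iff_coprime.mpr hmn
  obtain ⟨s, t, hst⟩ := hc
  have h1 : (s : ℚ) * m + t * n = 1 := by exact_mod_cast hst
  have h2 : q = s * (q * m) + t * (q * n) := by
    calc q = q * (s * m + t * n) := by rw [h1, mul_one]
      _ = _ := by ring
  rw [h2]
  exact ((isInt_intCast s).mul hm).add ((isInt_intCast t).mul hn)

/-- All coefficients are integers. -/
def IntCoeffs (R : ℚ[X]) : Prop := ∀ j, IsInt (R.coeff j)

theorem IntCoeffs.mul {R S : ℚ[X]} (hR : IntCoeffs R) (hS : IntCoeffs S) : IntCoeffs (R * S) := by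
  intro j
  rw [Polynomial.coeff_mul]
  exact isInt_sum _ _ fun i _ => (hR _).mul (hS _)

theorem intCoeffs_C {q : ℚ} (hq : IsInt q) : IntCoeffs (C q) := by
  intro j
  rw [Polynomial.coeff_C]
  split_ifs
  · exact hq
  · exact ⟨0, by simp⟩

theorem intCoeffs_X_sub_C {q : ℚ} (hq : IsInt q) : IntCoeffs (X - C q) := by
  intro j
  obtain ⟨z, rfl⟩ := hq
  rw [Polynomial.coeff_sub, Polynomial.coeff_X, Polynomial.coeff_C]
  refine ⟨(if 1 = j then 1 else 0) - (if j = 0 then z else 0), ?_⟩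
  push_cast
  split_ifs <;> simp

theorem intCoeffs_prod {ι : Type*} (s : Finset ι) (f : ι → ℚ[X]) (h : ∀ i ∈ s, IntCoeffs (f i)) :
    IntCoeffs (∏ i ∈ s, f i) := by
  classical
  induction s using Finset.induction_on with
  | empty => simpa using intCoeffs_C (q := 1) ⟨1, by simp⟩
  | insert a s ha ih =>
    rw [Finset.prod_insert ha]
    exact (h a (Finset.mem_insert_self _ _)).mul (ih fun i hi => h i (Finset.mem_insert_of_mem hi))

theorem intCoeffs_sum {ι : Type*} (s : Finset ι) (f : ι → ℚ[X]) (h : ∀ i ∈ s, IntCoeffs (f i)) :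
    IntCoeffs (∑ i ∈ s, f i) := by
  intro j
  rw [Polynomial.finsetSum_coeff]
  exact isInt_sum _ _ fun i hi => h i hi j

/-- `∏_{j ≠ i, j ≤ n} (i - j) = ± i! (n - i)!`, so `n!` times its inverse is an integer. -/
theorem isInt_factorial_mul_prod_inv (n i : ℕ) (hi : i ∈ range (n + 1)) :
    IsInt ((n.factorial : ℚ) * ∏ j ∈ (range (n + 1)).erase i, ((i : ℚ) - j)⁻¹) := by
  have hin : i ≤ n := Nat.lt_succ_iff.mp (Finset.mem_range.mp hi)
  have h1 : (range (n + 1)).erase i = range i ∪ (range (n - i)).image (fun m => i + 1 + m) := by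
    ext j
    simp only [Finset.mem_erase, Finset.mem_range, Finset.mem_union, Finset.mem_image]
    constructor
    · rintro ⟨h1, h2⟩
      rcases Nat.lt_or_ge j i with h | h
      · exact Or.inl h
      · exact Or.inr ⟨j - (i + 1), by omega, by omega⟩
    · rintro (h | ⟨m, hm, rfl⟩) <;> omega
  have h2 : Disjoint (range i) ((range (n - i)).image (fun m => i + 1 + m)) := by
    rw [Finset.disjoint_left]
    intro j hj hj'
    simp only [Finset.mem_range, Finset.mem_image] at hj hj'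
    obtain ⟨m, _, rfl⟩ := hj'
    omega
  have h3 : ∏ j ∈ (range (n + 1)).erase i, ((i : ℚ) - j) = (i.factorial : ℚ) * ((-1) ^ (n - i) * ((n - i).factorial : ℚ)) := by
    rw [h1, Finset.prod_union h2, Finset.prod_image (fun x _ y _ h => by simpa using h)]
    congr 1
    · rw [← Finset.prod_range_reflect, ← Finset.prod_range_add_one_eq_factorial]
      push_cast
      refine Finset.prod_congr rfl fun j hj => ?_
      have hj' := Finset.mem_range.mp hj
      have : ((i - 1 - j : ℕ) : ℚ) = (i : ℚ) - 1 - j := by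
        rw [Nat.cast_sub (by omega), Nat.cast_sub (by omega)]; simp
      rw [this]; ring
    · rw [← Finset.prod_range_add_one_eq_factorial]
      push_cast
      rw [← Finset.card_range (n - i), ← Finset.prod_const, Finset.card_range, ← Finset.prod_mul_distrib]
      refine Finset.prod_congr rfl fun j _ => ?_
      ring
  have hdvd : i.factorial * (n - i).factorial ∣ n.factorial := Nat.factorial_mul_factorial_dvd_factorial hin
  obtain ⟨c, hc⟩ := hdvd
  rw [Finset.prod_inv_distrib, h3, hc]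
  refine ⟨(-1) ^ (n - i) * c, ?_⟩
  have e1 : (i.factorial : ℚ) ≠ 0 := by exact_mod_cast Nat.factorial_ne_zero i
  have e2 : ((n - i).factorial : ℚ) ≠ 0 := by exact_mod_cast Nat.factorial_ne_zero _
  have e3 : ((-1 : ℚ) ^ (n - i)) * (-1) ^ (n - i) = 1 := by rw [← mul_pow]; simp
  have e4 : ((-1 : ℚ) ^ (n - i)) ≠ 0 := by intro h; rw [h] at e3; simp at e3
  push_cast
  field_simp
  linear_combination (-(c : ℚ)) * e3

/-- A polynomial of degree `≤ n` with integer values at `n + 1` consecutive integers has coefficients in `(1/n!) ℤ`. -/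
theorem intCoeffs_factorial_mul (n : ℕ) (R : ℚ[X]) (hR : R.natDegree ≤ n) (a : ℤ)
    (h : ∀ i : ℕ, i ≤ n → IsInt (R.eval ((a : ℚ) + i))) : IntCoeffs (C (n.factorial : ℚ) * R) := by
  have hinj : Set.InjOn (fun i : ℕ => (a : ℚ) + i) (range (n + 1) : Finset ℕ) := by
    intro x _ y _ hxy
    simpa using hxy
  have hdeg : R.degree < ((range (n + 1)).card : WithBot ℕ) := by
    rw [Finset.card_range]
    refine lt_of_le_of_lt Polynomial.degree_le_natDegree ?_
    exact_mod_cast Nat.lt_succ_of_le hR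
  have key := Lagrange.eq_interpolate_of_eval_eq (s := range (n + 1)) (v := fun i : ℕ => (a : ℚ) + i)
    (f := R) (fun i => R.eval ((a : ℚ) + i)) hinj hdeg (fun i _ => rfl)
  rw [key, Lagrange.interpolate_apply, Finset.mul_sum]
  refine intCoeffs_sum _ _ fun i hi => ?_
  have hb : Lagrange.basis (range (n + 1)) (fun i : ℕ => (a : ℚ) + i) i =
      C (∏ j ∈ (range (n + 1)).erase i, ((i : ℚ) - j)⁻¹) * ∏ j ∈ (range (n + 1)).erase i, (X - C ((a : ℚ) + j)) := by
    rw [Lagrange.basis, map_prod, ← Finset.prod_mul_distrib]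
    refine Finset.prod_congr rfl fun j _ => ?_
    rw [Lagrange.basisDivisor]
    congr 3
    ring
  have e : C (n.factorial : ℚ) * (C (R.eval ((a : ℚ) + i)) * Lagrange.basis (range (n + 1)) (fun i : ℕ => (a : ℚ) + i) i) =
      C (R.eval ((a : ℚ) + i)) * (C ((n.factorial : ℚ) * ∏ j ∈ (range (n + 1)).erase i, ((i : ℚ) - j)⁻¹) *
        ∏ j ∈ (range (n + 1)).erase i, (X - C ((a : ℚ) + j))) := by
    rw [hb, C_mul]
    ring
  rw [e]
  refine (intCoeffs_C (h i (Nat.lt_succ_iff.mp (Finset.mem_range.mp hi)))).mul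
    ((intCoeffs_C (isInt_factorial_mul_prod_inv n i hi)).mul (intCoeffs_prod _ _ fun j _ => ?_))
  exact intCoeffs_X_sub_C ⟨a + j, by push_cast; ring⟩

/-- **Integrality.** If `b ^ (2 g) * Q (a / b)` is an integer for all `a / b` in `(u, v)` and `deg Q ≤ g`, then the coefficients of
`g! * Q` are integers. -/
theorem factorial_mul_coeff_int (g : ℕ) (u v : ℚ) (huv : u < v) (Q : ℚ[X]) (hQ : Q.natDegree ≤ g)
    (hval : ∀ (a : ℤ) (b : ℕ), 0 < b → u < (a : ℚ) / (b : ℚ) → (a : ℚ) / (b : ℚ) < v →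
      IsInt ((b : ℚ) ^ (2 * g) * Q.eval ((a : ℚ) / (b : ℚ)))) (j : ℕ) :
    IsInt ((g.factorial : ℚ) * Q.coeff j) := by
  rcases Nat.lt_or_ge g j with hj | hj
  · rw [Polynomial.coeff_eq_zero_of_natDegree_lt (lt_of_le_of_lt hQ hj), mul_zero]
    exact ⟨0, by simp⟩
  -- for all large `b` the number `g! q_j b^(2g-j)` is an integer
  obtain ⟨B, hB⟩ := exists_nat_gt (((g : ℚ) + 2) / (v - u))
  have hvu : 0 < v - u := sub_pos.mpr huv
  have key : ∀ b : ℕ, B ≤ b → 0 < b → IsInt ((g.factorial : ℚ) * Q.coeff j * ((b ^ (2 * g - j) : ℕ) : ℚ)) := by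
    intro b hBb hb
    have hb' : (0 : ℚ) < b := by exact_mod_cast hb
    have hlen : (g : ℚ) + 2 < (v - u) * b := by
      have h1 : ((g : ℚ) + 2) / (v - u) < b := lt_of_lt_of_le hB (by exact_mod_cast hBb)
      rwa [div_lt_iff₀ hvu, mul_comm] at h1
    set a : ℤ := ⌊u * b⌋ + 1 with ha
    have ha1 : u * b < a := by rw [ha]; push_cast; exact Int.lt_floor_add_one _
    have ha2 : (a : ℚ) ≤ u * b + 1 := by rw [ha]; push_cast; linarith [Int.floor_le (u * b)]
    set R : ℚ[X] := C ((b : ℚ) ^ (2 * g)) * Q.comp (C (b : ℚ)⁻¹ * X) with hR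
    have hRdeg : R.natDegree ≤ g := by
      refine (Polynomial.natDegree_C_mul_le _ _).trans ?_
      refine Polynomial.natDegree_comp_le.trans ?_
      calc Q.natDegree * (C (b : ℚ)⁻¹ * X).natDegree ≤ Q.natDegree * 1 := by
            gcongr; exact (Polynomial.natDegree_C_mul_le _ _).trans Polynomial.natDegree_X_le
        _ ≤ g := by rw [mul_one]; exact hQ
    have hint := intCoeffs_factorial_mul g R hRdeg a (fun i hi => by
      have h1 : u < ((a + i : ℤ) : ℚ) / (b : ℚ) := by
        rw [lt_div_iff₀ hb']; push_cast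
        have : (0 : ℚ) ≤ i := by positivity
        linarith
      have h2 : ((a + i : ℤ) : ℚ) / (b : ℚ) < v := by
        rw [div_lt_iff₀ hb']; push_cast
        have : (i : ℚ) ≤ g := by exact_mod_cast hi
        nlinarith
      have h3 := hval (a + i) b hb h1 h2
      have h4 : R.eval ((a : ℚ) + i) = (b : ℚ) ^ (2 * g) * Q.eval (((a + i : ℤ) : ℚ) / (b : ℚ)) := by
        rw [hR, Polynomial.eval_mul, Polynomial.eval_C, Polynomial.eval_comp, Polynomial.eval_mul, Polynomial.eval_C,
          Polynomial.eval_X]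
        congr 2
        push_cast
        field_simp
      rw [h4]
      exact h3) j
    rw [hR, Polynomial.coeff_C_mul, Polynomial.coeff_C_mul, Polynomial.comp_C_mul_X_coeff] at hint
    have e : (g.factorial : ℚ) * Q.coeff j * ((b ^ (2 * g - j) : ℕ) : ℚ) =
        (g.factorial : ℚ) * ((b : ℚ) ^ (2 * g) * (Q.coeff j * (b : ℚ)⁻¹ ^ j)) := by
      have h2g : 2 * g = (2 * g - j) + j := by omega
      push_cast
      conv_rhs => rw [h2g, pow_add]
      have hbj : ((b : ℚ) ^ j) * ((b : ℚ)⁻¹ ^ j) = 1 := by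
        rw [← mul_pow, mul_inv_cancel₀ hb'.ne', one_pow]
      linear_combination (-(g.factorial : ℚ) * Q.coeff j * (b : ℚ) ^ (2 * g - j)) * hbj
    rw [e]
    exact hint
  have hcop : Nat.Coprime ((B + 1) ^ (2 * g - j)) ((B + 2) ^ (2 * g - j)) := by
    refine Nat.Coprime.pow _ _ ?_
    have : B + 2 = (B + 1) + 1 := rfl
    rw [this]
    exact Nat.coprime_self_add_right.mpr (Nat.coprime_one_right _)
  exact isInt_of_coprime hcop (key (B + 1) (by omega) (by omega)) (key (B + 2) (by omega) (by omega))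

/-- **Divisibility.** If `deg Q ≤ g`, `g! * Q` has integer coefficients, and `N / b ^ (2 g) = Q (a / b)` with `b` prime to `g!`, then
`b ^ g` divides `N`. -/
theorem pow_dvd_of_coprime (g : ℕ) (Q : ℚ[X]) (hQ : Q.natDegree ≤ g) (hint : ∀ j, IsInt ((g.factorial : ℚ) * Q.coeff j))
    (a : ℤ) (b : ℕ) (hb : 0 < b) (hcop : Nat.Coprime b g.factorial) (N : ℕ)
    (hN : (N : ℚ) / (b : ℚ) ^ (2 * g) = Q.eval ((a : ℚ) / (b : ℚ))) : b ^ g ∣ N := by
  have hb' : (b : ℚ) ≠ 0 := by exact_mod_cast hb.ne'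
  -- `g! N = b^g * integer`
  have h1 : IsInt ((g.factorial : ℚ) * (b : ℚ) ^ g * Q.eval ((a : ℚ) / (b : ℚ))) := by
    rw [Polynomial.eval_eq_sum_range' (Nat.lt_succ_of_le hQ), Finset.mul_sum]
    refine isInt_sum _ _ fun j hj => ?_
    have hj' : j ≤ g := Nat.lt_succ_iff.mp (Finset.mem_range.mp hj)
    have e : (g.factorial : ℚ) * (b : ℚ) ^ g * (Q.coeff j * ((a : ℚ) / b) ^ j) =
        ((g.factorial : ℚ) * Q.coeff j) * ((a ^ j * (b : ℤ) ^ (g - j) : ℤ) : ℚ) := by
      have h2 : (b : ℚ) ^ g = (b : ℚ) ^ (g - j) * (b : ℚ) ^ j := by rw [← pow_add, Nat.sub_add_cancel hj']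
      rw [h2, div_pow]
      push_cast
      field_simp
    rw [e]
    exact (hint j).mul (isInt_intCast _)
  obtain ⟨z, hz⟩ := h1
  have h2 : (g.factorial : ℚ) * N = (b : ℚ) ^ g * z := by
    rw [← hz, ← hN]
    have : (b : ℚ) ^ (2 * g) = (b : ℚ) ^ g * (b : ℚ) ^ g := by rw [← pow_add]; ring_nf
    rw [this]
    field_simp
  have h3 : ((g.factorial : ℤ)) * (N : ℤ) = (b : ℤ) ^ g * z := by exact_mod_cast h2
  have h4 : (b : ℤ) ^ g ∣ (g.factorial : ℤ) * (N : ℤ) := ⟨z, h3⟩
  have h5 : IsCoprime ((b : ℤ) ^ g) (g.factorial : ℤ) :=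
    IsCoprime.pow_left (Nat.isCoprime_iff_coprime.mpr hcop)
  have h6 := h5.dvd_of_dvd_mul_left h4
  exact_mod_cast h6

end K526.IntPoly
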