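import Groth.Agent.AbVar.K526.RightSide
import Groth.Agent.AbVar.K526.IntPoly
import Mathlib.Topology.Algebra.Polynomial
import Mathlib.Analysis.SpecificLimits.Basic
/-!
# Rank functions are locally polynomial at every rational point

`Ctx2.two_sided`: on both sides of a rational point the rank function is a polynomial of degree `≤ g`, with the right value at
the point; `Ctx2.pow_dvd`: `b^g` divides the generic rank for `b` prime to `g!`.
-/

set_option autoImplicit false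
universe u
open CategoryTheory CategoryTheory.Limits AlgebraicGeometry
open Groth.Agent Groth.Agent.Fga.PicMon Groth.Agent.Fga Groth.Agent.Pic13.H11.Cls
open Filter Topology

namespace K526

open Cut RankPoly

/-- The value at the end point, by continuity. -/
theorem eval_eq_of_continuous {F : ℝ → ℝ} (hF : Continuous F) {r : ℚ → ℚ} (hr : ∀ q : ℚ, F q = (r q : ℝ)) (P : Polynomial ℚ)
    (x₀ : ℚ) (y : ℕ → ℚ) (hy : Tendsto (fun n => (y n : ℝ)) atTop (𝓝 (x₀ : ℝ))) (h : ∀ n, r (y n) = P.eval (y n)) :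
    r x₀ = P.eval x₀ := by
  set P' : Polynomial ℝ := P.map (algebraMap ℚ ℝ) with hP'
  have h1 : ∀ q : ℚ, P'.eval (q : ℝ) = ((P.eval q : ℚ) : ℝ) := by
    intro q
    rw [hP']
    have h2 := Polynomial.eval_map_algebraMap P (q : ℝ)
    rw [h2]
    have h3 := Polynomial.aeval_algebraMap_apply ℝ q P
    simpa using h3
  have h2 : Tendsto (fun n => F (y n)) atTop (𝓝 (F (x₀ : ℝ))) := (hF.tendsto _).comp hy
  have h3 : Tendsto (fun n => P'.eval (y n : ℝ)) atTop (𝓝 (P'.eval (x₀ : ℝ))) := (P'.continuous.tendsto _).comp hy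
  have h4 : (fun n => F (y n)) = fun n => P'.eval (y n : ℝ) := by
    funext n
    rw [hr, h, h1]
  rw [h4] at h2
  have h5 := tendsto_nhds_unique h2 h3
  rw [hr, h1] at h5
  exact_mod_cast h5

theorem exists_seq (x₀ ε : ℚ) (hε : 0 < ε) : ∃ y : ℕ → ℚ, Tendsto (fun n => (y n : ℝ)) atTop (𝓝 (x₀ : ℝ)) ∧
    ∀ n, 0 < y n - x₀ ∧ y n - x₀ < ε := by
  refine ⟨fun n => x₀ + ε / (n + 2), ?_, fun n => ⟨?_, ?_⟩⟩
  · have h1 : Tendsto (fun n : ℕ => (x₀ : ℝ) + (ε : ℝ) / ((n : ℝ) + 2)) atTop (𝓝 ((x₀ : ℝ) + 0)) := by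
      refine tendsto_const_nhds.add ?_
      refine tendsto_const_nhds.div_atTop ?_
      exact tendsto_natCast_atTop_atTop.atTop_add tendsto_const_nhds
    rw [add_zero] at h1
    refine h1.congr fun n => ?_
    push_cast
    ring
  · have : (0 : ℚ) < ε / (n + 2) := by positivity
    linarith
  · have h1 : ε / ((n : ℚ) + 2) < ε := by
      rw [div_lt_iff₀ (by positivity)]
      nlinarith [(Nat.cast_nonneg n : (0 : ℚ) ≤ n)]
    linarith

variable {k : Type u} [Field k] {X : Scheme.{u}} [X.Over (Spec (CommRingCat.of k))]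
  [IsProper (X ↘ Spec (CommRingCat.of k))] [IsIntegral X] {g : ℕ} {η : (MC X)ˣ}
  {P0 : Subgroup (MC X)ˣ} {pl : ℕ → MC X →* MC X} (H : Ctx2 k g η P0 pl)
include H

/-- **Rank functions are locally polynomial at every rational point.** -/
theorem Ctx2.two_sided [Infinite k] {c : MC X} (hc : Co c) (i : ℕ) (x₀ : ℚ) :
    ∃ (ε : ℚ) (Pm Pp : Polynomial ℚ), 0 < ε ∧ Pm.natDegree ≤ g ∧ Pp.natDegree ≤ g ∧
      (∀ (a : ℤ) (b : ℕ), 0 < b → x₀ - ε < (a : ℚ) / (b : ℚ) → (a : ℚ) / (b : ℚ) ≤ x₀ →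
        (HH k η P0 pl i c b (a * b) : ℚ) / (b : ℚ) ^ (2 * g) = Pm.eval ((a : ℚ) / (b : ℚ))) ∧
      (∀ (a : ℤ) (b : ℕ), 0 < b → x₀ ≤ (a : ℚ) / (b : ℚ) → (a : ℚ) / (b : ℚ) < x₀ + ε →
        (HH k η P0 pl i c b (a * b) : ℚ) / (b : ℚ) ^ (2 * g) = Pp.eval ((a : ℚ) / (b : ℚ))) := by
  obtain ⟨ε₁, Pm, h1, hPm, hl⟩ := H.left (i := i) hc x₀
  obtain ⟨ε₂, Pp, h2, hPp, hr⟩ := H.right g i (by omega) c hc x₀
  obtain ⟨F, hF, hFr⟩ := H.toCtx.exists_continuous i hc
  have hFr' : ∀ q : ℚ, F q = (rk k g η P0 pl i c q : ℝ) := hFr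
  have hm : rk k g η P0 pl i c x₀ = Pm.eval x₀ := by
    obtain ⟨y, hy, hy'⟩ := exists_seq x₀ ε₁ h1
    refine eval_eq_of_continuous hF hFr' Pm x₀ (fun n => 2 * x₀ - y n) ?_ fun n => hl _ ?_ ?_
    · have h3 : Tendsto (fun n => 2 * (x₀ : ℝ) - (y n : ℝ)) atTop (𝓝 (2 * (x₀ : ℝ) - x₀)) :=
        tendsto_const_nhds.sub hy
      have e : 2 * (x₀ : ℝ) - x₀ = x₀ := by ring
      rw [e] at h3
      refine h3.congr fun n => ?_
      push_cast
      ring
    · have := (hy' n).2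
      linarith
    · have := (hy' n).1
      linarith
  have hp : rk k g η P0 pl i c x₀ = Pp.eval x₀ := by
    obtain ⟨y, hy, hy'⟩ := exists_seq x₀ ε₂ h2
    refine eval_eq_of_continuous hF hFr' Pp x₀ y hy fun n => hr _ ?_ ?_
    · have := (hy' n).1
      linarith
    · have := (hy' n).2
      linarith
  have hdiv : ∀ (a : ℤ) (b : ℕ), 0 < b →
      (HH k η P0 pl i c b (a * b) : ℚ) / (b : ℚ) ^ (2 * g) = rk k g η P0 pl i c ((a : ℚ) / (b : ℚ)) := fun a b hb =>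
    (RankNum.f_div g _ (fun m B n hm hB => H.toCtx.hom i hc m B n hm hB) a b hb).symm
  refine ⟨min ε₁ ε₂, Pm, Pp, lt_min h1 h2, hPm, hPp, fun a b hb h3 h4 => ?_, fun a b hb h3 h4 => ?_⟩
  · rw [hdiv a b hb]
    rcases h4.lt_or_eq with h5 | h5
    · exact hl _ (lt_of_le_of_lt (sub_le_sub_left (min_le_left _ _) _) h3) h5
    · rw [h5]; exact hm
  · rw [hdiv a b hb]
    rcases h3.lt_or_eq with h5 | h5
    · exact hr _ h5 (lt_of_lt_of_le h4 (by gcongr; exact min_le_right _ _))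
    · rw [← h5]; exact hp

/-- **Divisibility of generic ranks.** -/
theorem Ctx2.pow_dvd [Infinite k] {c : MC X} (hc : Co c) (i : ℕ) (a : ℤ) (b : ℕ) (hb : 0 < b)
    (hcop : Nat.Coprime b g.factorial) : b ^ g ∣ HH k η P0 pl i c b (a * b) := by
  obtain ⟨ε, Pm, -, hε, hPm, -, h, -⟩ := H.two_sided hc i ((a : ℚ) / (b : ℚ))
  refine IntPoly.pow_dvd_of_coprime g Pm hPm ?_ a b hb hcop _ (h a b hb (by linarith) le_rfl)
  refine IntPoly.factorial_mul_coeff_int g ((a : ℚ) / (b : ℚ) - ε) ((a : ℚ) / (b : ℚ)) (by linarith) Pm hPm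
    fun a' b' hb' h1 h2 => ?_
  rw [← h a' b' hb' h1 h2.le]
  have hb0 : (b' : ℚ) ≠ 0 := by exact_mod_cast hb'.ne'
  rw [mul_div_cancel₀ _ (pow_ne_zero _ hb0)]
  exact IntPoly.isInt_natCast _

end K526
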