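import Mathlib.Algebra.Polynomial.Reverse
import Mathlib.Algebra.Polynomial.Eval.Degree
import Mathlib.Algebra.Polynomial.BigOperators
import Mathlib.Tactic.Linarith
import Mathlib.Tactic.Positivity
import Mathlib.Tactic.FieldSimp
import Mathlib.Algebra.Order.Field.Rat
/-!
# One-sided polynomiality of functions on the rationals

`LeftPoly g r x₀`: `r` agrees with a polynomial of degree `≤ g` on some `(x₀ - ε, x₀)`; `RightPoly` likewise.
-/

set_option autoImplicit false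

open Polynomial

namespace K526.RankPoly

variable {g : ℕ} {r r' : ℚ → ℚ} {x₀ : ℚ}

/-- `r` is a polynomial of degree at most `g` on some `(x₀ - ε, x₀)`. -/
def LeftPoly (g : ℕ) (r : ℚ → ℚ) (x₀ : ℚ) : Prop :=
  ∃ (ε : ℚ) (P : ℚ[X]), 0 < ε ∧ P.natDegree ≤ g ∧ ∀ x, x₀ - ε < x → x < x₀ → r x = P.eval x

/-- `r` is a polynomial of degree at most `g` on some `(x₀, x₀ + ε)`. -/
def RightPoly (g : ℕ) (r : ℚ → ℚ) (x₀ : ℚ) : Prop :=
  ∃ (ε : ℚ) (P : ℚ[X]), 0 < ε ∧ P.natDegree ≤ g ∧ ∀ x, x₀ < x → x < x₀ + ε → r x = P.eval x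

theorem natDegree_comp_affine (P : ℚ[X]) (u v : ℚ) (h : P.natDegree ≤ g) :
    (P.comp (C u * X + C v)).natDegree ≤ g := by
  refine natDegree_comp_le.trans ?_
  refine le_trans (Nat.mul_le_mul_left _ (natDegree_linear_le)) ?_
  simpa using h

theorem LeftPoly.congr (h : LeftPoly g r x₀) {ε : ℚ} (hε : 0 < ε) (hr : ∀ x, x₀ - ε < x → x < x₀ → r' x = r x) :
    LeftPoly g r' x₀ := by
  obtain ⟨δ, P, hδ, hP, h⟩ := h
  refine ⟨min ε δ, P, lt_min hε hδ, hP, fun x h1 h2 => ?_⟩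
  have h3 : x₀ - ε < x := lt_of_le_of_lt (sub_le_sub_left (min_le_left _ _) _) h1
  have h4 : x₀ - δ < x := lt_of_le_of_lt (sub_le_sub_left (min_le_right _ _) _) h1
  rw [hr x h3 h2, h x h4 h2]

theorem RightPoly.congr (h : RightPoly g r x₀) {ε : ℚ} (hε : 0 < ε) (hr : ∀ x, x₀ < x → x < x₀ + ε → r' x = r x) :
    RightPoly g r' x₀ := by
  obtain ⟨δ, P, hδ, hP, h⟩ := h
  refine ⟨min ε δ, P, lt_min hε hδ, hP, fun x h1 h2 => ?_⟩
  have h3 : x < x₀ + ε := lt_of_lt_of_le h2 (by gcongr; exact min_le_left _ _)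
  have h4 : x < x₀ + δ := lt_of_lt_of_le h2 (by gcongr; exact min_le_right _ _)
  rw [hr x h1 h3, h x h1 h4]

theorem RightPoly.add (h : RightPoly g r x₀) (h' : RightPoly g r' x₀) : RightPoly g (fun x => r x + r' x) x₀ := by
  obtain ⟨δ, P, hδ, hP, h⟩ := h
  obtain ⟨δ', P', hδ', hP', h'⟩ := h'
  refine ⟨min δ δ', P + P', lt_min hδ hδ', (natDegree_add_le _ _).trans (max_le hP hP'), fun x h1 h2 => ?_⟩
  change r x + r' x = _
  rw [eval_add, h x h1 (lt_of_lt_of_le h2 (by gcongr; exact min_le_left _ _)),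
    h' x h1 (lt_of_lt_of_le h2 (by gcongr; exact min_le_right _ _))]

theorem RightPoly.smul (h : RightPoly g r x₀) (c : ℚ) : RightPoly g (fun x => c * r x) x₀ := by
  obtain ⟨δ, P, hδ, hP, h⟩ := h
  refine ⟨δ, C c * P, hδ, (natDegree_C_mul_le _ _).trans hP, fun x h1 h2 => ?_⟩
  change c * r x = _
  rw [h x h1 h2]; simp

theorem RightPoly.neg (h : RightPoly g r x₀) : RightPoly g (fun x => - r x) x₀ := by
  obtain ⟨δ, P, hδ, hP, h⟩ := h
  refine ⟨δ, -P, hδ, by rwa [natDegree_neg], fun x h1 h2 => ?_⟩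
  change - r x = _
  rw [h x h1 h2]; simp

theorem rightPoly_zero : RightPoly g (fun _ => 0) x₀ := ⟨1, 0, one_pos, by simp, fun x _ _ => by simp⟩

/-- Reflection. -/
theorem LeftPoly.reflect (h : LeftPoly g r x₀) : RightPoly g (fun x => r (-x)) (-x₀) := by
  obtain ⟨δ, P, hδ, hP, h⟩ := h
  refine ⟨δ, P.comp (C (-1) * X + C 0), hδ, natDegree_comp_affine _ _ _ hP, fun x h1 h2 => ?_⟩
  change r (-x) = _
  rw [h (-x) (by linarith) (by linarith), eval_comp]
  congr 1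
  simp

/-- Affine change of variables. -/
theorem LeftPoly.comp {m c : ℚ} (hm : 0 < m) (h : LeftPoly g r 0) (hr : ∀ y, r' y = c * r (m * (y - x₀))) :
    LeftPoly g r' x₀ := by
  obtain ⟨δ, P, hδ, hP, h⟩ := h
  refine ⟨δ / m, C c * P.comp (C m * X + C (-(m * x₀))), div_pos hδ hm,
    (natDegree_C_mul_le _ _).trans (natDegree_comp_affine _ _ _ hP), fun x h1 h2 => ?_⟩
  have h3 : x₀ * m - δ < x * m := by
    have := mul_lt_mul_of_pos_right h1 hm
    rwa [sub_mul, div_mul_cancel₀ _ hm.ne'] at this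
  rw [hr, h _ (by linarith) (by nlinarith), eval_mul, eval_C, eval_comp]
  congr 2
  simp; ring

theorem RightPoly.comp {m c : ℚ} (hm : 0 < m) (h : RightPoly g r 0) (hr : ∀ y, r' y = c * r (m * (y - x₀))) :
    RightPoly g r' x₀ := by
  obtain ⟨δ, P, hδ, hP, h⟩ := h
  refine ⟨δ / m, C c * P.comp (C m * X + C (-(m * x₀))), div_pos hδ hm,
    (natDegree_C_mul_le _ _).trans (natDegree_comp_affine _ _ _ hP), fun x h1 h2 => ?_⟩
  have h3 : x * m < x₀ * m + δ := by
    have := mul_lt_mul_of_pos_right h2 hm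
    rwa [add_mul, div_mul_cancel₀ _ hm.ne'] at this
  rw [hr, h _ (by nlinarith) (by linarith), eval_mul, eval_C, eval_comp]
  congr 2
  simp; ring

/-- `t^g Q(1/t)` as a polynomial in `t`. -/
theorem exists_poly_reflect (Q : ℚ[X]) (hQ : Q.natDegree ≤ g) :
    ∃ P : ℚ[X], P.natDegree ≤ g ∧ ∀ t : ℚ, t ≠ 0 → P.eval t = t ^ g * Q.eval (1 / t) := by
  refine ⟨∑ j ∈ Finset.range (g + 1), C (Q.coeff j) * X ^ (g - j), ?_, fun t ht => ?_⟩
  · refine natDegree_sum_le_of_forall_le _ _ fun j _ => ?_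
    exact (natDegree_C_mul_X_pow_le _ _).trans (Nat.sub_le _ _)
  · rw [eval_finsetSum, Q.eval_eq_sum_range' (Nat.lt_succ_of_le hQ), Finset.mul_sum]
    refine Finset.sum_congr rfl fun j hj => ?_
    have hj' : j ≤ g := Nat.lt_succ_iff.mp (Finset.mem_range.mp hj)
    have h1 : t ^ g = t ^ (g - j) * t ^ j := by rw [← pow_add, Nat.sub_add_cancel hj']
    simp only [eval_mul, eval_C, eval_pow, eval_X, one_div, inv_pow]
    rw [h1]
    field_simp

/-- The rank function from a Hilbert polynomial: if `r (-t) = c t^g Q(1/t)` for small `t > 0` then `r` is left polynomial at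
`0`. -/
theorem leftPoly_of_hilbert {c ε : ℚ} (Q : ℚ[X]) (hQ : Q.natDegree ≤ g) (hε : 0 < ε)
    (h : ∀ t : ℚ, 0 < t → t < ε → r (-t) = c * (t ^ g * Q.eval (1 / t))) : LeftPoly g r 0 := by
  obtain ⟨P, hP, hP'⟩ := exists_poly_reflect Q hQ
  refine ⟨ε, C c * P.comp (C (-1) * X + C 0), hε,
    (natDegree_C_mul_le _ _).trans (natDegree_comp_affine _ _ _ hP), fun x h1 h2 => ?_⟩
  have h3 := h (-x) (by linarith) (by linarith)
  rw [neg_neg] at h3
  rw [h3, ← hP' (-x) (by linarith), eval_mul, eval_C, eval_comp]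
  congr 2
  simp

end K526.RankPoly
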