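import Groth.Agent.AbVar.K526.Serre
import Groth.Agent.AbVar.K526.RankPoly
/-!
# One-sided polynomiality of rank functions, abstract form

`Ctx2`: the setting `Ctx` with simultaneous generic points, large twists, duality in the top degree, and the comparison formula
for small negative twists.  `Ctx2.left`, `Ctx2.right`: rank functions are one-sided polynomial at every rational point.
-/

set_option autoImplicit false
universe u
open CategoryTheory CategoryTheory.Limits AlgebraicGeometry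
open Groth.Agent Groth.Agent.Fga.PicMon Groth.Agent.Fga Groth.Agent.Pic13.H11.Cls

namespace K526

open Cut RankPoly

variable {k : Type u} [Field k] {X : Scheme.{u}} [X.Over (Spec (CommRingCat.of k))] {g : ℕ} {η : (MC X)ˣ}
  {P0 : Subgroup (MC X)ˣ} {pl : ℕ → MC X →* MC X}

/-- The rank function. -/
noncomputable def rk (k : Type u) [Field k] {X : Scheme.{u}} [X.Over (Spec (CommRingCat.of k))] (g : ℕ) (η : (MC X)ˣ)
    (P0 : Subgroup (MC X)ˣ) (pl : ℕ → MC X →* MC X) (i : ℕ) (c : MC X) : ℚ → ℚ :=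
  RankNum.f g (HH k η P0 pl i c)

/-- The refined setting. -/
structure Ctx2 (k : Type u) [Field k] {X : Scheme.{u}} [X.Over (Spec (CommRingCat.of k))] (g : ℕ) (η : (MC X)ˣ)
    (P0 : Subgroup (MC X)ˣ) (pl : ℕ → MC X →* MC X) : Prop extends Ctx k g η P0 pl where
  one' : ∀ c, pl 1 c = c
  gen : ∀ l : List (ℕ × MC X), (∀ x ∈ l, Co x.2) → ∃ u ∈ P0, ∀ x ∈ l, h k x.1 (u • x.2) = hg k P0 x.1 x.2
  quot' : ∀ c : MC X, Co c → ∃ a₀ : ℕ, ∀ a, a₀ ≤ a → ∃ (r : ℕ) (K : MC X), Ses K (fr X r) (η ^ a • c)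
  dual : ∀ c : MC X, Co c → ∃ d, Co d ∧ ∀ b, 1 ≤ b → ∀ u : (MC X)ˣ, h k g (u • pl b c) = h k 0 (u⁻¹ • pl b d)
  neg : ∀ c : MC X, Co c → ∀ i, ∃ (Q : Polynomial ℚ) (κ ε : ℚ), Q.natDegree ≤ g ∧ 0 < ε ∧
    ∀ a b : ℕ, 1 ≤ a → 1 ≤ b → (a : ℚ) / b < ε →
      (HH k η P0 pl i c b (-((a : ℤ) * b)) : ℚ) / (b : ℚ) ^ (2 * g) =
        κ * (((a : ℚ) / b) ^ g * Q.eval ((b : ℚ) / a))

theorem Ctx.rk_eq (H : Ctx k g η P0 pl) {i : ℕ} {c : MC X} (hc : Co c) (q : ℚ) {B : ℕ} {n : ℤ} (hB : 1 ≤ B)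
    (h : (n : ℚ) = q * (B : ℚ) ^ 2) : rk k g η P0 pl i c q = (HH k η P0 pl i c B n : ℚ) / (B : ℚ) ^ (2 * g) :=
  RankNum.f_eq g _ (fun m B n hm hB => H.hom i hc m B n hm hB) q hB h

theorem Ctx.rk_shift (H : Ctx k g η P0 pl) {i : ℕ} {c : MC X} (hc : Co c) (a : ℤ) {b : ℕ} (hb : 1 ≤ b) (y : ℚ) :
    rk k g η P0 pl i (η ^ (a * b) • pl b c) y = (b : ℚ) ^ (2 * g) * rk k g η P0 pl i c ((a : ℚ) / b + y / (b : ℚ) ^ 2) := by
  have hco : Co (η ^ (a * b) • pl b c) := (H.co b hb c hc).smul _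
  have hb0 : (b : ℚ) ≠ 0 := by positivity
  have hB : 1 ≤ y.den := y.den_pos
  have hd0 : (y.den : ℚ) ≠ 0 := by positivity
  have h1 : ((y.num * y.den : ℤ) : ℚ) = y * (y.den : ℚ) ^ 2 := by
    push_cast
    have : (y.num : ℚ) = y * y.den := (Rat.mul_den_eq_num y).symm
    rw [this]; ring
  rw [H.rk_eq hco y hB h1, H.rk_eq (i := i) hc _ (B := y.den * b) (n := y.num * y.den + (y.den : ℤ) ^ 2 * (a * b))
    (Nat.mul_pos hB hb) (by
      push_cast at h1 ⊢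
      rw [h1]
      field_simp
      ring)]
  have h2 : HH k η P0 pl i (η ^ (a * b) • pl b c) y.den (y.num * y.den) =
      HH k η P0 pl i c (y.den * b) (y.num * y.den + (y.den : ℤ) ^ 2 * (a * b)) := by
    obtain ⟨v, hv, hev⟩ := H.pl_eta hB (a * b)
    rw [HH, HH, pl_smul, hev, H.mul _ _ hB hb, smul_smul, mul_left_comm, ← smul_smul, hg_smul k P0 i _ hv, zpow_add]
  rw [h2]
  push_cast
  rw [mul_pow]
  field_simp

namespace RankPoly

theorem RightPoly.shift {g : ℕ} {r r' : ℚ → ℚ} {x₀ a : ℚ} (h : RightPoly g r' (x₀ - a)) (hr : ∀ x, r x = r' (x - a)) :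
    RightPoly g r x₀ := by
  obtain ⟨ε, P, hε, hP, h⟩ := h
  refine ⟨ε, P.comp (Polynomial.C 1 * Polynomial.X + Polynomial.C (-a)), hε, natDegree_comp_affine _ _ _ hP,
    fun x h1 h2 => ?_⟩
  rw [hr, h (x - a) (by linarith) (by linarith), Polynomial.eval_comp]
  congr 1
  simp
  ring

end RankPoly

variable (H : Ctx2 k g η P0 pl)
include H

theorem Ctx2.left_zero {i : ℕ} {c : MC X} (hc : Co c) : LeftPoly g (rk k g η P0 pl i c) 0 := by
  obtain ⟨Q, κ, ε, hQ, hε, h⟩ := H.neg c hc i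
  refine leftPoly_of_hilbert (c := κ) (ε := ε) Q hQ hε fun t ht1 ht2 => ?_
  have hn : 0 < t.num := Rat.num_pos.mpr ht1
  obtain ⟨a, ha⟩ := Int.eq_ofNat_of_zero_le hn.le
  have ha1 : 1 ≤ a := by omega
  have hb : 1 ≤ t.den := t.den_pos
  have hd0 : (t.den : ℚ) ≠ 0 := by positivity
  have ht0 : t ≠ 0 := ht1.ne'
  have hat : (a : ℚ) = t * t.den := by
    have h1 := Rat.mul_den_eq_num t
    rw [ha] at h1
    push_cast at h1
    exact h1.symm
  have e1 : (a : ℚ) / t.den = t := by rw [hat]; field_simp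
  have e2 : (t.den : ℚ) / a = 1 / t := by rw [hat]; field_simp
  have h2 := h a t.den ha1 hb (by rw [e1]; exact ht2)
  rw [H.toCtx.rk_eq hc (-t) (n := -((a : ℤ) * t.den)) hb (by
    push_cast
    rw [hat]
    ring), h2, e1, e2]

theorem Ctx2.left {i : ℕ} {c : MC X} (hc : Co c) (x₀ : ℚ) : LeftPoly g (rk k g η P0 pl i c) x₀ := by
  have hb : 1 ≤ x₀.den := x₀.den_pos
  have hd0 : (x₀.den : ℚ) ≠ 0 := by positivity
  have h1 := H.left_zero (i := i) (c := η ^ (x₀.num * x₀.den) • pl x₀.den c) ((H.co _ hb c hc).smul _)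
  refine h1.comp (m := (x₀.den : ℚ) ^ 2) (c := 1 / (x₀.den : ℚ) ^ (2 * g)) (by positivity) fun y => ?_
  rw [H.toCtx.rk_shift hc x₀.num hb, Rat.num_div_den, mul_div_cancel_left₀ _ (by positivity)]
  field_simp
  congr 1
  ring

/-- Top degree. -/
theorem Ctx2.right_top {c : MC X} (hc : Co c) (x₀ : ℚ) : RightPoly g (rk k g η P0 pl g c) x₀ := by
  obtain ⟨d, hd, h⟩ := H.dual c hc
  have key : ∀ x : ℚ, rk k g η P0 pl g c x = rk k g η P0 pl 0 d (-x) := by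
    intro x
    have hB : 1 ≤ x.den := x.den_pos
    have h1 : ((x.num * x.den : ℤ) : ℚ) = x * (x.den : ℚ) ^ 2 := by
      push_cast
      have : (x.num : ℚ) = x * x.den := (Rat.mul_den_eq_num x).symm
      rw [this]; ring
    rw [H.toCtx.rk_eq hc x hB h1, H.toCtx.rk_eq (i := 0) hd (-x) (n := -(x.num * x.den)) hB (by
      push_cast at h1 ⊢
      rw [h1]; ring)]
    congr 2
    unfold HH hg
    refine le_antisymm ?_ ?_
    · refine le_ciInf fun u => ?_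
      refine (ciInf_le (OrderBot.bddBelow _) (⟨(u : (MC X)ˣ)⁻¹, P0.inv_mem u.2⟩ : P0)).trans ?_
      rw [smul_smul, h _ hB, smul_smul, mul_inv, inv_inv, zpow_neg]
    · refine le_ciInf fun u => ?_
      refine (ciInf_le (OrderBot.bddBelow _) (⟨(u : (MC X)ˣ)⁻¹, P0.inv_mem u.2⟩ : P0)).trans ?_
      rw [smul_smul, smul_smul, h _ hB, mul_inv, zpow_neg]
  have h2 := (H.left (i := 0) hd (-x₀)).reflect
  rw [neg_neg] at h2
  obtain ⟨ε, P, hε, hP, h3⟩ := h2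
  exact ⟨ε, P, hε, hP, fun x h4 h5 => by rw [key]; exact h3 x h4 h5⟩

end K526
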