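import Groth.Agent.AbVar.K526.RankPoly
import Mathlib.Analysis.Polynomial.Basic
import Mathlib.Analysis.Normed.Field.Lemmas
/-!
# Order of vanishing of a one-sided polynomial function coming from a Hilbert polynomial
-/

set_option autoImplicit false

open Polynomial Filter Topology

namespace K526.RankPoly

/-- A polynomial over `ℚ` with positive leading coefficient, of positive shifted degree, is not bounded by a lower power. -/
theorem degree_add_le_of_bound {g m : ℕ} {Q : ℚ[X]} (hQ : Q ≠ 0) (hlc : 0 < Q.leadingCoeff) {C s₀ : ℚ}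
    (h : ∀ s : ℚ, s₀ < s → s ^ m * Q.eval s ≤ C * s ^ g) : Q.natDegree + m ≤ g := by
  by_contra hlt
  push Not at hlt
  set R : ℚ[X] := X ^ m * Q - Polynomial.C C * X ^ g with hR
  have hd1 : (X ^ m * Q).degree = ((Q.natDegree + m : ℕ) : WithBot ℕ) := by
    rw [degree_mul, degree_X_pow, degree_eq_natDegree hQ]; push_cast; ring
  have hd2 : (Polynomial.C C * X ^ g).degree < (X ^ m * Q).degree := by
    rw [hd1]
    exact lt_of_le_of_lt (degree_C_mul_X_pow_le _ _) (by exact_mod_cast hlt)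
  have hlc' : R.leadingCoeff = Q.leadingCoeff := by
    rw [hR, leadingCoeff_sub_of_degree_lt hd2, leadingCoeff_mul, leadingCoeff_X_pow, one_mul]
  have hdeg : R.degree = ((Q.natDegree + m : ℕ) : WithBot ℕ) := by
    rw [hR, degree_sub_eq_left_of_degree_lt hd2, hd1]
  have hpos : 0 < R.degree := by rw [hdeg]; exact_mod_cast (by omega : 0 < Q.natDegree + m)
  have ht := Polynomial.tendsto_atTop_of_leadingCoeff_nonneg R hpos (by rw [hlc']; exact hlc.le)
  obtain ⟨s, hs1, hs2⟩ := ((ht.eventually (eventually_gt_atTop 0)).and (eventually_gt_atTop s₀)).exists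
  have := h s hs2
  rw [hR] at hs1
  simp only [eval_sub, eval_mul, eval_pow, eval_X, eval_C] at hs1
  linarith

theorem bound_iff {g m : ℕ} {r : ℚ → ℚ} {c ε : ℚ} {Q : ℚ[X]} (hg : Q.natDegree ≤ g) (hlc : Q ≠ 0 → 0 < Q.leadingCoeff)
    (hc : 0 < c) (hε : 0 < ε) (hr : ∀ t : ℚ, 0 < t → t < ε → r (-t) = c * (t ^ g * Q.eval (1 / t))) :
    (∃ C δ : ℚ, 0 < δ ∧ ∀ t : ℚ, 0 < t → t < δ → r (-t) ≤ C * t ^ m) ↔ (Q = 0 ∨ Q.natDegree + m ≤ g) := by
  constructor
  · rintro ⟨C, δ, hδ, h⟩
    rw [or_iff_not_imp_left]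
    intro hQ
    refine degree_add_le_of_bound (g := g) (C := C / c) (s₀ := max (1 / δ) (1 / ε)) hQ (hlc hQ) fun s hs => ?_
    have hs0 : 0 < s := lt_of_lt_of_le (by positivity : (0 : ℚ) < 1 / δ) ((le_max_left _ _).trans hs.le)
    have h1 : 1 / s < δ := by
      rw [div_lt_comm₀ hs0 hδ]; exact lt_of_le_of_lt (le_max_left _ _) hs
    have h2 : 1 / s < ε := by
      rw [div_lt_comm₀ hs0 hε]; exact lt_of_le_of_lt (le_max_right _ _) hs
    have h3 := h (1 / s) (by positivity) h1
    rw [hr _ (by positivity) h2, one_div_one_div] at h3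
    have h4 : c * Q.eval s * s ^ m ≤ C * s ^ g := by
      have h5 := mul_le_mul_of_nonneg_right h3 (by positivity : (0 : ℚ) ≤ s ^ g * s ^ m)
      have e1 : c * ((1 / s) ^ g * Q.eval s) * (s ^ g * s ^ m) = c * Q.eval s * s ^ m := by
        rw [one_div, inv_pow]; field_simp
      have e2 : C * (1 / s) ^ m * (s ^ g * s ^ m) = C * s ^ g := by
        rw [one_div, inv_pow]; field_simp
      rwa [e1, e2] at h5
    rw [div_mul_eq_mul_div, le_div_iff₀ hc]
    linarith
  · intro h
    rcases h with rfl | h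
    · refine ⟨0, ε, hε, fun t h1 h2 => ?_⟩
      rw [hr t h1 h2]; simp
    · refine ⟨c * ∑ j ∈ Finset.range (Q.natDegree + 1), |Q.coeff j|, min ε 1, lt_min hε one_pos, fun t h1 h2 => ?_⟩
      rw [hr t h1 (h2.trans_le (min_le_left _ _)), Q.eval_eq_sum_range, Finset.mul_sum, mul_assoc]
      refine mul_le_mul_of_nonneg_left ?_ hc.le
      rw [Finset.sum_mul]
      refine Finset.sum_le_sum fun j hj => ?_
      have hj' : j ≤ Q.natDegree := Nat.lt_succ_iff.mp (Finset.mem_range.mp hj)
      have e1 : t ^ g * (Q.coeff j * (1 / t) ^ j) = Q.coeff j * t ^ (g - j) := by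
        have h1 : t ^ g = t ^ (g - j) * t ^ j := by rw [← pow_add, Nat.sub_add_cancel (by omega)]
        rw [h1, one_div, inv_pow]; field_simp
      rw [e1]
      have h3 : t ^ (g - j) ≤ t ^ m := pow_le_pow_of_le_one h1.le (h2.le.trans (min_le_right _ _)) (by omega)
      calc Q.coeff j * t ^ (g - j) ≤ |Q.coeff j| * t ^ (g - j) := by gcongr; exact le_abs_self _
        _ ≤ |Q.coeff j| * t ^ m := by gcongr

end K526.RankPoly
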