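import Groth.Agent.AbVar.K526.Neg
import Groth.Agent.AbVar.K526.RankOrd
import Groth.Agent.AbVar.K526.OneSided
import Groth.Agent.Pic13.H11.Amp
/-!
# Growth of rank functions to the left of zero

`hilb_degree`: the Hilbert polynomial of a coherent module has degree the dimension of the support and positive leading
coefficient; `growth_iff`: `h^i_c(-t) = O(t^m)` as `t → 0⁺` iff `dim Supp Φ_i + m ≤ g`.
-/

set_option autoImplicit false
universe u
open CategoryTheory CategoryTheory.Limits MonoidalCategory CartesianMonoidalCategory AlgebraicGeometry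
open Groth.Agent Groth.Agent.Fga.PicMon Groth.Agent.Fga Groth.Agent.Pic13.H11 Groth.Agent.Pic13.H11.Cls
  Groth.Agent.Pic13.H11.NumU Groth.Agent.Grpsch.PicGrp Groth.Agent.Grpsch.Cube

namespace K526.HilbDeg

open Cut

theorem poly_unique {P Q : Polynomial ℚ} {f : ℤ → ℚ} (hP : ∀ n : ℤ, f n = P.eval (n : ℚ)) (hQ : ∀ n : ℤ, f n = Q.eval (n : ℚ)) :
    P = Q := by
  refine Polynomial.eq_of_infinite_eval_eq _ _ ?_
  refine Set.Infinite.mono (s := Set.range (fun a : ℤ => (a : ℚ))) ?_ (Set.infinite_range_of_injective Int.cast_injective)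
  rintro _ ⟨a, rfl⟩
  change P.eval (a : ℚ) = Q.eval (a : ℚ)
  rw [← hP, ← hQ]

theorem dim_eq_bot {Y : Type*} [TopologicalSpace Y] (h : IsEmpty Y) : topologicalKrullDim Y = ⊥ := by
  rw [topologicalKrullDim, Order.krullDim_eq_bot_iff]
  exact ⟨fun Z => h.false Z.isIrreducible.nonempty.some⟩

theorem dim_ne_bot {Y : Type*} [TopologicalSpace Y] (h : Nonempty Y) : topologicalKrullDim Y ≠ ⊥ := by
  rw [topologicalKrullDim, ne_eq, Order.krullDim_eq_bot_iff, not_isEmpty_iff]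
  exact ⟨⟨closure {h.some}, isIrreducible_singleton.closure, isClosed_closure⟩⟩

section
variable (k : Type u) [Field k] {X : Scheme.{u}} [X.Over (Spec (CommRingCat.of k))]
  [IsProper (X ↘ Spec (CommRingCat.of k))] {M : X.Modules} (hM : CohB1.IsAmple M)

include hM in
theorem hilb_degree {d : ℕ} (hd : topologicalKrullDim X ≤ d) {c : MC X} (hc : Co c) {P : Polynomial ℚ}
    (hP : ∀ n : ℤ, (chi k ((unit hM.1) ^ n • c) : ℚ) = P.eval (n : ℚ)) {r : ℕ}
    (hr : topologicalKrullDim (supp c) = (r : WithBot ℕ∞)) : P.natDegree = r ∧ 0 < P.leadingCoeff := by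
  obtain ⟨Q, hQ, hQ'⟩ := Hilb.exists_poly k (unit hM.1) hc hr.le
  obtain rfl := poly_unique hP hQ'
  refine HilbNum.natDegree_eq P
    (fun j p => (Amp.G k (((unit hM.1)⁻¹ : (MC X)ˣ) : MC X) j ((unit hM.1) ^ p • c) : ℚ)) hP ?_ hQ ?_
  · intro j p
    have e : (((unit hM.1)⁻¹ : (MC X)ˣ) : MC X) * ((unit hM.1) ^ p • c) = (unit hM.1) ^ (p - 1) • c := by
      rw [← smul_def, smul_smul, ← zpow_neg_one, ← zpow_add]
      congr 2
      ring
    change ((Amp.G k _ j _ - Amp.G k _ j _ : ℤ) : ℚ) = _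
    rw [e]
    push_cast
    rfl
  · have h1 := Amp.G_pos k hM d hd hc r hr
    change (0 : ℚ) < (Amp.G k (((unit hM.1)⁻¹ : (MC X)ˣ) : MC X) r ((unit hM.1) ^ (0 : ℤ) • c) : ℚ)
    rw [zpow_zero, one_smul]
    exact_mod_cast h1

/-- The Hilbert polynomial and the support. -/
theorem hilb_iff {g : ℕ} (hd : topologicalKrullDim X ≤ g) {c : MC X} (hc : Co c) {P : Polynomial ℚ}
    (hP : ∀ n : ℤ, (chi k ((unit hM.1) ^ n • c) : ℚ) = P.eval (n : ℚ)) (m : ℕ) :
    (P ≠ 0 → 0 < P.leadingCoeff) ∧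
      ((P = 0 ∨ P.natDegree + m ≤ g) ↔ topologicalKrullDim (supp c) + (m : WithBot ℕ∞) ≤ (g : WithBot ℕ∞)) := by
  rcases isEmpty_or_nonempty (supp c) with he | hne
  · have h0 : c = fr X 0 := by
      induction c using MC.ind with | h F => ?_
      rw [PullM.eq_zero_iff rfl]
      exact CohqB.DevSupport.isZero_of_support_eq_empty (Set.isEmpty_coe_sort.mp he)
    have hP0 : P = 0 := by
      refine poly_unique hP fun n => ?_
      rw [h0, Core.smul_fr_zero, chi_eq_h_zero k fun i _ => PullM.V_zero i, h_eq_zero k (PullM.V_zero 0)]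
      simp
    have hbot : topologicalKrullDim (supp c) = ⊥ := dim_eq_bot he
    rw [hbot, WithBot.bot_add]
    exact ⟨fun h => absurd hP0 h, ⟨fun _ => bot_le, fun _ => Or.inl hP0⟩⟩
  · obtain ⟨r, hr⟩ : ∃ r : ℕ, topologicalKrullDim (supp c) = (r : WithBot ℕ∞) := by
      have h1 : topologicalKrullDim (supp c) ≤ (g : WithBot ℕ∞) := (dim_supp_le _).trans hd
      have h2 : topologicalKrullDim (supp c) ≠ ⊥ := dim_ne_bot hne
      obtain ⟨r, hr⟩ := WithBot.ne_bot_iff_exists.mp h2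
      rw [← hr] at h1 ⊢
      have h3 : r ≤ (g : ℕ∞) := by exact_mod_cast h1
      obtain ⟨r', rfl⟩ := ENat.ne_top_iff_exists.mp (ne_top_of_le_ne_top (ENat.natCast_ne_top g) h3)
      exact ⟨r', rfl⟩
    obtain ⟨h1, h2⟩ := hilb_degree k hM hd hc hP hr
    refine ⟨fun _ => h2, ?_⟩
    have hP0 : P ≠ 0 := fun h => by
      rw [h, Polynomial.leadingCoeff_zero] at h2
      exact lt_irrefl _ h2
    rw [hr, h1]
    constructor
    · rintro (h | h)
      · exact absurd h hP0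
      · exact_mod_cast h
    · intro h
      exact Or.inr (by exact_mod_cast h)

end

open PullM K518.Phi _root_.K526.Prod Core Fam Inst _root_.K526.Neg

variable {k : Type u} [Field k] {A : Over (Spec (CommRingCat.of k))} [GrpObj A] [IsProper A.hom]
  [GeometricallyIntegral A.hom] [IsAlgClosed k] {g : ℕ}
  {L : A.left.Modules} (hL : CohB1.IsAmple L)
  (H : Ctx k g (toU (mk L hL.1)) (P0 A) (fun b => pm (nn A b).left))
include H

theorem rk_neg {c : MC A.left} (hc : Co c) (i : ℕ) {Q : Polynomial ℚ}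
    (hQ : ∀ n : ℤ, (chi k (toU (mk L hL.1) ^ n • Ph (mk L hL.1) i c) : ℚ) = Q.eval (n : ℚ)) :
    ∃ ε : ℚ, 0 < ε ∧ ∀ t : ℚ, 0 < t → t < ε → rk k g (toU (mk L hL.1)) (P0 A) (fun b => pm (nn A b).left) i c (-t) =
      1 / (chi k ((toU (mk L hL.1) : (MC A.left)ˣ) : MC A.left) : ℚ) * (t ^ g * Q.eval (1 / t)) := by
  obtain ⟨M, hM⟩ := core_neg hL H hc
  have hco := co_Ph (mk L hL.1) i hc
  have hpos := chi_pos hL H
  have hχ : (chi k ((toU (mk L hL.1) : (MC A.left)ˣ) : MC A.left) : ℚ) ≠ 0 := by exact_mod_cast hpos.ne'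
  refine ⟨1 / (M + 1), by positivity, fun t ht1 ht2 => ?_⟩
  have hn : 0 < t.num := Rat.num_pos.mpr ht1
  obtain ⟨a, ha'⟩ := Int.eq_ofNat_of_zero_le hn.le
  have ha : 1 ≤ a := by omega
  have hb : 1 ≤ t.den := t.den_pos
  set b := t.den with hbdef
  have ha0 : (0 : ℚ) < a := by exact_mod_cast ha
  have hb0 : (0 : ℚ) < b := by exact_mod_cast hb
  have hat : (a : ℚ) = t * b := by
    have h1 := Rat.mul_den_eq_num t
    rw [ha'] at h1
    push_cast at h1
    exact h1.symm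
  have hta : t = (a : ℚ) / b := by rw [hat]; field_simp
  have hMab : M * a ≤ b := by
    rw [hta, div_lt_div_iff₀ hb0 (by positivity)] at ht2
    have : (a : ℚ) * (M + 1) < 1 * b := ht2
    have h1 : (M : ℚ) * a ≤ b := by nlinarith
    exact_mod_cast h1
  have h1 := hM a b ha hb hMab i
  have h2 := H.hilb pm_nn_one hco hQ ha ((a : ℤ) * b)
  have h1' : (chi k ((toU (mk L hL.1) : (MC A.left)ˣ) : MC A.left) : ℚ) * (a : ℚ) ^ g *
      (HH k (toU (mk L hL.1)) (P0 A) (fun b => pm (nn A b).left) i c b (-((a : ℤ) * b)) : ℚ) =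
      (b : ℚ) ^ g * (chi k (toU (mk L hL.1) ^ ((a : ℤ) * b) • pm (nn A a).left (Ph (mk L hL.1) i c)) : ℚ) := by
    exact_mod_cast h1
  rw [h2] at h1'
  have e1 : (((a : ℤ) * b : ℤ) : ℚ) / (a : ℚ) ^ 2 = 1 / t := by
    rw [hta]
    push_cast
    field_simp
  rw [e1] at h1'
  rw [H.rk_eq hc (-t) (n := -((a : ℤ) * b)) hb (by
    push_cast
    rw [hat]
    ring)]
  have hag : (a : ℚ) ^ g ≠ 0 := pow_ne_zero _ ha0.ne'
  have e2 : (HH k (toU (mk L hL.1)) (P0 A) (fun b => pm (nn A b).left) i c b (-((a : ℤ) * b)) : ℚ) =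
      (b : ℚ) ^ g * (a : ℚ) ^ g * Q.eval (1 / t) / (chi k ((toU (mk L hL.1) : (MC A.left)ˣ) : MC A.left) : ℚ) := by
    rw [eq_div_iff hχ]
    refine mul_left_cancel₀ hag ?_
    rw [two_mul, pow_add] at h1'
    linear_combination h1'
  rw [e2, two_mul, pow_add, hta, div_pow]
  field_simp

/-- **Growth of the rank function to the left of zero.** -/
theorem growth_iff {c : MC A.left} (hc : Co c) (i m : ℕ) :
    (∃ C δ : ℚ, 0 < δ ∧ ∀ t : ℚ, 0 < t → t < δ →
      rk k g (toU (mk L hL.1)) (P0 A) (fun b => pm (nn A b).left) i c (-t) ≤ C * t ^ m) ↔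
      topologicalKrullDim (supp (Ph (mk L hL.1) i c)) + (m : WithBot ℕ∞) ≤ (g : WithBot ℕ∞) := by
  have hco := co_Ph (mk L hL.1) i hc
  obtain ⟨Q, hQ, hQ'⟩ := Hilb.exists_poly k (toU (mk L hL.1)) hco ((dim_supp_le _).trans H.dim.le)
  obtain ⟨ε, hε, hr⟩ := rk_neg hL H hc i hQ'
  have hpos := chi_pos hL H
  have hχ : (0 : ℚ) < (chi k ((toU (mk L hL.1) : (MC A.left)ˣ) : MC A.left) : ℚ) := by exact_mod_cast hpos
  obtain ⟨h1, h2⟩ := hilb_iff k hL H.dim.le hco hQ' m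
  rw [← h2]
  exact RankPoly.bound_iff hQ h1 (by positivity) hε hr

end K526.HilbDeg
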