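import Groth.Agent.AbVar.K526.Syzygy
/-!
# Rank functions of the ideal of the unit point and of the kernel of the evaluation map
-/

set_option autoImplicit false
universe u
open CategoryTheory CategoryTheory.Limits MonoidalCategory CartesianMonoidalCategory AlgebraicGeometry
open scoped MonObj
open Groth.Agent Groth.Agent.Fga.PicMon Groth.Agent.Fga Groth.Agent.Pic13.H11.Cls Groth.Agent.Pic13.H11.NumU
  Groth.Agent.Grpsch.PicGrp Groth.Agent.Grpsch.Cube

namespace K526.Syzygy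

open Cut PullM K518.Phi _root_.K526.Prod Core Fam Inst _root_.K526.Neg SyzAbs EvalKer

variable {k : Type u} [Field k] {A : Over (Spec (CommRingCat.of k))} [GrpObj A] [IsProper A.hom]
  [GeometricallyIntegral A.hom] [IsAlgClosed k] {g : ℕ}

/-- **Rank functions of `I_e` and of the syzygy bundle.** -/
theorem rank_eq {N : A.left.Modules} (hN : CohB1.IsAmple N)
    (H : Ctx k g (toU (mk N hN.1)) (P0 A) (fun b => pm (nn A b).left))
    {J : Type u} (ev : fj A.left J ⟶ N) [Epi ev]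
    (hev : Function.Bijective (Sheaf.H.map ((SheafOfModules.toSheaf A.left.ringCatSheaf).map ev) 0))
    (i : ℕ) (a : ℤ) (b c : ℕ) (hb : 0 < b) (hc : 0 < c) (habc : a + (c : ℤ) = (b : ℤ)) :
    chi k ((toU (mk N hN.1) : (MC A.left)ˣ) : MC A.left) * (c : ℤ) ^ g *
        (hg k (P0 A) i (toU (mk N hN.1) ^ (a * b) • pm (nn A b).left (Ie A)) : ℕ) =
      (b : ℤ) ^ g * (hg k (P0 A) i (toU (mk N hN.1) ^ (a * c) • pm (nn A c).left (mc (kernel ev))) : ℕ) := by
  obtain ⟨h0, hz⟩ := main A hN H.dim ev hev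
  have hIe : Co (Ie A) := (ses_ie A).co₁
  have hcb : 1 ≤ c * b := Nat.mul_pos hc hb
  have hv0 : ∀ q, V (q + 1) ((toU (mk N hN.1 ^ (c * b)) : (MC A.left)ˣ) : MC A.left) := fun q =>
    (V_toU _ _).2 ((hasIdx_pow hN H.dim hcb).1 (q + 1) (by omega))
  have h1 := core_zero (mk N hN.1) (a := c) (b := b) hc hb (c := toU (mk N hN.1) • Ie A) (hIe.smul _)
    (fun j => h_eq_zero k (hv0 j)) i (g := g)
    (fun d hd => H.hgmul b hb d hd i) (surj_ample hN) hz
  have hzp : ((toU (mk N hN.1 ^ (c * b)) : (MC A.left)ˣ)) = toU (mk N hN.1) ^ ((c : ℤ) * b) := by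
    rw [map_pow, ← zpow_natCast]
    push_cast
    rfl
  have hone : ∀ c : MC A.left, pm (nn A 1).left c = c := pm_nn_one
  have h4 := chi_zpow H hone ((c : ℤ) * b)
  have h3 := h_zero_eq_chi (k := k) hv0
  rw [hzp] at h3 h1
  obtain ⟨v, hv, hev1⟩ := H.pl_eta hb 1
  obtain ⟨w, hw, hev2⟩ := H.pl_eta hc (-1)
  rw [zpow_one] at hev1
  have e1 : hg k (P0 A) i ((toU (mk N hN.1) ^ ((c : ℤ) * b))⁻¹ • pm (nn A b).left (toU (mk N hN.1) • Ie A)) =
      hg k (P0 A) i (toU (mk N hN.1) ^ (a * b) • pm (nn A b).left (Ie A)) := by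
    rw [pm_smul, hev1, smul_smul, mul_left_comm, ← smul_smul, hg_smul k (P0 A) i _ hv, ← zpow_neg, ← zpow_add]
    congr 3
    rw [← habc]
    ring
  have e2 : hg k (P0 A) i (toU (mk N hN.1) ^ ((c : ℤ) * b) • pm (nn A c).left (Ph (mk N hN.1) 0 (toU (mk N hN.1) • Ie A))) =
      hg k (P0 A) i (toU (mk N hN.1) ^ (a * c) • pm (nn A c).left (mc (kernel ev))) := by
    rw [h0, pm_smul, ← zpow_neg_one, hev2, smul_smul, mul_left_comm, ← smul_smul, hg_smul k (P0 A) i _ hw, ← zpow_add]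
    congr 3
    rw [← habc]
    ring
  rw [e1, e2] at h1
  have h1' : (h k 0 ((toU (mk N hN.1) ^ ((c : ℤ) * b) : (MC A.left)ˣ) : MC A.left) : ℤ) *
      (hg k (P0 A) i (toU (mk N hN.1) ^ (a * b) • pm (nn A b).left (Ie A)) : ℕ) =
      (b : ℤ) ^ (2 * g) * (hg k (P0 A) i (toU (mk N hN.1) ^ (a * c) • pm (nn A c).left (mc (kernel ev))) : ℕ) := by
    exact_mod_cast h1
  have h5 : (h k 0 ((toU (mk N hN.1) ^ ((c : ℤ) * b) : (MC A.left)ˣ) : MC A.left) : ℤ) =
      ((c : ℤ) * b) ^ g * chi k ((toU (mk N hN.1) : (MC A.left)ˣ) : MC A.left) := by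
    rw [h3]
    exact_mod_cast h4
  rw [h5] at h1'
  have hb0 : (b : ℤ) ^ g ≠ 0 := pow_ne_zero _ (by positivity)
  refine mul_left_cancel₀ hb0 ?_
  rw [mul_pow, two_mul, pow_add] at h1'
  linear_combination h1'

end K526.Syzygy
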