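import Groth.Agent.AbVar.K526.Trans2
import Groth.Agent.AbVar.K526.Final
import Groth.Agent.AbVar.K526.SyzRank
import Groth.Agent.AbVar.K526.HilbDeg
/-!
# The rows S18111, S18113 - S18116 from the multiplicativity of generic ranks and top duality
-/

set_option autoImplicit false
universe u
open CategoryTheory CategoryTheory.Limits MonoidalCategory CartesianMonoidalCategory AlgebraicGeometry
open scoped MonObj
open Groth.Agent Groth.Agent.Fga.PicMon Groth.Agent.Fga Groth.Agent.Pic13.H11.Cls Groth.Agent.Pic13.H11.NumU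
  Groth.Agent.Grpsch.PicGrp Groth.Agent.Grpsch.Cube

namespace K526.Rows

open Cut PullM K518.Phi _root_.K526.Prod Core Fam Inst _root_.K526.Neg HilbDeg _root_.K526.Trans Syzygy EvalKer
open K527.Bridge (Phi)

section defs
variable {k : Type u} [Field k] (A : Over (Spec (CommRingCat.of k))) [GrpObj A]

/-- Multiplicativity of generic ranks. -/
def HGM (g : ℕ) : Prop := ∀ b, 1 ≤ b → ∀ c : MC A.left, Co c → ∀ i,
  hg k (P0 A) i (pm (nn A b).left c) = b ^ (2 * g) * hg k (P0 A) i c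

/-- Duality in the top degree. -/
def TD (g : ℕ) : Prop := ∀ c : MC A.left, Co c → ∃ d, Co d ∧ ∀ b, 1 ≤ b → ∀ u : (MC A.left)ˣ,
  h k g (u • pm (nn A b).left c) = h k 0 (u⁻¹ • pm (nn A b).left d)

end defs

variable {k : Type u} [Field k] [IsAlgClosed k] {A At : Over (Spec (CommRingCat.of k))} [GrpObj A]
  [IsProper A.hom] [GeometricallyIntegral A.hom] {g : ℕ} (hdim : topologicalKrullDim A.left = g)

section inst
include hdim

theorem inst2 (hgm : HGM A g) (td : TD A g) {L : A.left.Modules} (hL : CohB1.IsAmple L) :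
    Ctx2 k g (toU (mk L hL.1)) (P0 A) (fun b => pm (nn A b).left) where
  toCtx := inst hL hdim hgm
  one' := pm_nn_one
  gen := exists_gen (surj_ample hL)
  quot' _ hc := quot hL hc
  dual := td
  neg := neg hL (inst hL hdim hgm)

end inst

variable [GrpObj At]
  {φ : ∀ T : Over (Spec (CommRingCat.of k)), PicF.Cl (PicF.XT A.hom T) → (T ⟶ At)}
  (hφ : AbDual.IsDualAV Scheme.fppfPrecoverage A At φ)
  {P : (pullback A.hom At.hom).Modules} (hP : PicF.IsInvertible P)
  (hPξ : AbDual.IsPoincareCl A At φ (PicF.cl P))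
  [IsProper At.hom] [GeometricallyIntegral At.hom]
include hφ hP hPξ

/-- The generic ranks of the rows. -/
theorem hgen_twist {L L' : A.left.Modules} (hL : CohB1.IsAmple L)
    (hLL' : Nonempty (CohB1.tensorMod L L' ≅ Coh.structureModule A.left)) (F : A.left.Modules) (i b : ℕ) (m : ℤ) :
    W4c5cohrankabvar.hgen k P (W4c5cohrankabvar.twist A F L L' b m) i =
      HH k (toU (mk L hL.1)) (P0 A) (fun b => pm (nn A b).left) i (mc F) b m := by
  rw [hgen_eq hφ hP hPξ hL, mc_twist F hL.1 hLL']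
  rfl

include hdim

theorem row16 (hgm : HGM A g) {L L' : A.left.Modules} (hL : CohB1.IsAmple L)
    (hLL' : Nonempty (CohB1.tensorMod L L' ≅ Coh.structureModule A.left)) {F : A.left.Modules} (hF : Coh.IsCoh F)
    (i : ℕ) : ∃ f : ℝ → ℝ, Continuous f ∧ ∀ (a : ℤ) (b : ℕ), 0 < b →
      f ((a : ℝ) / (b : ℝ)) =
        ((W4c5cohrankabvar.hgen k P (W4c5cohrankabvar.twist A F L L' b (a * b)) i : ℕ) : ℝ) / (b : ℝ) ^ (2 * g) := by
  have : IsIntegral A.left := isInt
  have H := inst hL hdim hgm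
  obtain ⟨f, hf, h⟩ := H.exists_continuous i (c := mc F) hF
  refine ⟨f, hf, fun a b hb => ?_⟩
  have h1 := h ((a : ℚ) / (b : ℚ))
  rw [RankNum.f_div g _ (fun m B n hm hB => H.hom i (c := mc F) hF m B n hm hB) a b hb] at h1
  rw [hgen_twist hφ hP hPξ hL hLL']
  push_cast at h1
  exact h1

theorem row15 (hgm : HGM A g) (td : TD A g) {L L' : A.left.Modules} (hL : CohB1.IsAmple L)
    (hLL' : Nonempty (CohB1.tensorMod L L' ≅ Coh.structureModule A.left)) {F : A.left.Modules} (hF : Coh.IsCoh F)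
    (i : ℕ) (x₀ : ℚ) : ∃ (ε : ℚ) (Pm Pp : Polynomial ℚ), 0 < ε ∧ Pm.natDegree ≤ g ∧ Pp.natDegree ≤ g ∧
      (∀ (a : ℤ) (b : ℕ), 0 < b → x₀ - ε < (a : ℚ) / (b : ℚ) → (a : ℚ) / (b : ℚ) ≤ x₀ →
        ((W4c5cohrankabvar.hgen k P (W4c5cohrankabvar.twist A F L L' b (a * b)) i : ℕ) : ℚ) / (b : ℚ) ^ (2 * g) =
          Pm.eval ((a : ℚ) / (b : ℚ))) ∧
      (∀ (a : ℤ) (b : ℕ), 0 < b → x₀ ≤ (a : ℚ) / (b : ℚ) → (a : ℚ) / (b : ℚ) < x₀ + ε →
        ((W4c5cohrankabvar.hgen k P (W4c5cohrankabvar.twist A F L L' b (a * b)) i : ℕ) : ℚ) / (b : ℚ) ^ (2 * g) =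
          Pp.eval ((a : ℚ) / (b : ℚ))) := by
  have : IsIntegral A.left := isInt
  have H := inst2 hdim hgm td hL
  simp only [hgen_twist hφ hP hPξ hL hLL']
  exact H.two_sided (c := mc F) hF i x₀

theorem row11 (hgm : HGM A g) (td : TD A g) {L L' : A.left.Modules} (hL : CohB1.IsAmple L)
    (hLL' : Nonempty (CohB1.tensorMod L L' ≅ Coh.structureModule A.left)) {F : A.left.Modules} (hF : Coh.IsCoh F)
    (i : ℕ) (a : ℤ) (b : ℕ) (hb : 0 < b) (hcop : Nat.Coprime b (Nat.factorial g)) :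
    b ^ g ∣ W4c5cohrankabvar.hgen k P (W4c5cohrankabvar.twist A F L L' b (a * b)) i := by
  have : IsIntegral A.left := isInt
  have H := inst2 hdim hgm td hL
  rw [hgen_twist hφ hP hPξ hL hLL']
  exact H.pow_dvd (c := mc F) hF i a b hb hcop

theorem row13 (hgm : HGM A g) {N N' : A.left.Modules} (hN : CohB1.IsAmple N)
    (hNN' : Nonempty (CohB1.tensorMod N N' ≅ Coh.structureModule A.left))
    {J : Type u} (ev : fj A.left J ⟶ N) [Epi ev]
    (hev : Function.Bijective (Sheaf.H.map ((SheafOfModules.toSheaf A.left.ringCatSheaf).map ev) 0))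
    (i : ℕ) (a : ℤ) (b c : ℕ) (hb : 0 < b) (hc : 0 < c) (habc : a + (c : ℤ) = (b : ℤ)) :
    @Curv2.euler k _ A.left ⟨A.hom⟩ N * (c : ℤ) ^ g *
        ((W4c5cohrankabvar.hgen k P (W4c5cohrankabvar.twist A (kernel (ClSub.unitToPush η[A].left)) N N' b (a * b)) i : ℕ) : ℤ) =
      (b : ℤ) ^ g * ((W4c5cohrankabvar.hgen k P (W4c5cohrankabvar.twist A (kernel ev) N N' c (a * c)) i : ℕ) : ℤ) := by
  have H := inst hN hdim hgm
  rw [hgen_twist hφ hP hPξ hN hNN', hgen_twist hφ hP hPξ hN hNN']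
  exact rank_eq hN H ev hev i a b c hb hc habc

omit [IsAlgClosed k] [IsProper A.hom] [GeometricallyIntegral A.hom] [GrpObj At] [IsProper At.hom]
  [GeometricallyIntegral At.hom] hdim hφ hP hPξ in
theorem phi_eq {L L' : A.left.Modules} (hL : PicF.IsInvertible L)
    (hLL' : Nonempty (CohB1.tensorMod L L' ≅ Coh.structureModule A.left)) (Λ : (PicF.XT A.hom A).Modules)
    (hΛ : Nonempty (Λ ≅ CohB1.tensorMod (CohB1.tensorMod ((Scheme.Modules.pullback μ[A].left).obj L)
      ((Scheme.Modules.pullback (fst A A).left).obj L')) ((Scheme.Modules.pullback (snd A A).left).obj L'))) :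
    φ A (PicF.cl Λ) = Phi φ (mk L hL) := by
  have h0 : mc L' = K527.Cls.ic A.left (mk L hL)⁻¹ := K527.Rows.mc_inv (c := mk L hL) rfl hLL'
  have h1 : (mc Λ : MC (A ⊗ A).left) = K527.Cls.ic (A ⊗ A).left (D (mk L hL) (fst A A) (snd A A)) := by
    have h2 : (μ[A] : A ⊗ A ⟶ A) = fst A A * snd A A := by
      change _ = lift (fst A A) (snd A A) ≫ μ[A]
      rw [lift_fst_snd, Category.id_comp]
    have e1 : ∀ f : A ⊗ A ⟶ A, (mc ((Scheme.Modules.pullback f.left).obj L') : MC (A ⊗ A).left) =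
        K527.Cls.ic (A ⊗ A).left (pl f (mk L hL))⁻¹ := by
      intro f
      change K527.Cls.pm f.left (mc L') = _
      rw [h0, K527.Cls.pm_ic, map_inv]
    have e2 : ∀ f : A ⊗ A ⟶ A, (mc ((Scheme.Modules.pullback f.left).obj L) : MC (A ⊗ A).left) =
        K527.Cls.ic (A ⊗ A).left (pl f (mk L hL)) := by
      intro f
      change K527.Cls.pm f.left (K527.Cls.ic A.left (mk L hL)) = _
      rw [K527.Cls.pm_ic]
    refine (mc_eq hΛ.some).trans ?_
    refine (mc_tensor (X := (A ⊗ A).left) _ _).trans ?_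
    rw [e1 (snd A A)]
    refine (congrArg (· * K527.Cls.ic (A ⊗ A).left (pl (snd A A) (mk L hL))⁻¹)
      ((mc_tensor (X := (A ⊗ A).left) _ _).trans (congrArg₂ (· * ·) (e2 μ[A]) (e1 (fst A A))))).trans ?_
    rw [← map_mul, ← map_mul, D, ← h2]
  obtain ⟨M, hM, hM'⟩ := exists_mk (X := (A ⊗ A).left) (D (mk L hL) (fst A A) (snd A A))
  rw [hM', K527.Cls.ic_mk, mc_eq_iff] at h1
  have h2 : PicF.cl Λ = PicF.cl (Y := PicF.XT A.hom A) M := (Fga.RigGrp.cl_eq_iff Λ M).2 h1
  rw [h2]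
  change _ = φ A (Fga.RigGrp.toCl (D (mk L hL) (fst A A) (snd A A)))
  rw [hM']
  rfl

/-- Row S18114. -/
theorem row14 (hgm : HGM A g) {L L' : A.left.Modules} (hL : CohB1.IsAmple L)
    (hLL' : Nonempty (CohB1.tensorMod L L' ≅ Coh.structureModule A.left))
    (Λ : (PicF.XT A.hom A).Modules)
    (hΛ : Nonempty (Λ ≅ CohB1.tensorMod (CohB1.tensorMod ((Scheme.Modules.pullback μ[A].left).obj L)
      ((Scheme.Modules.pullback (fst A A).left).obj L')) ((Scheme.Modules.pullback (snd A A).left).obj L')))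
    {F : A.left.Modules} (hF : Coh.IsCoh F) (i : ℕ) :
    ∃ ε : ℚ, 0 < ε ∧ ∀ (a b : ℕ), 0 < a → 0 < b → (a : ℚ) / (b : ℚ) < ε →
      @Curv2.euler k _ A.left ⟨A.hom⟩ L * (a : ℤ) ^ g *
          ((W4c5cohrankabvar.hgen k P (W4c5cohrankabvar.twist A F L L' b (-((a : ℤ) * (b : ℤ)))) i : ℕ) : ℤ) =
        (b : ℤ) ^ g * @Curv2.euler k _ A.left ⟨A.hom⟩
          (W4c5cohrankabvar.twist A
            ((Scheme.Modules.pullback (φ A (PicF.cl Λ)).left).obj
              ((Coh.Rpush (pullback.snd A.hom At.hom) i).obj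
                (CohB1.tensorMod ((Scheme.Modules.pullback (pullback.fst A.hom At.hom)).obj F) P)))
            L L' a ((a : ℤ) * (b : ℤ))) := by
  have H := inst hL hdim hgm
  obtain ⟨M, hM⟩ := core_neg hL H (c := mc F) hF
  refine ⟨1 / (M + 1), by positivity, fun a b ha hb hab => ?_⟩
  have ha0 : (0 : ℚ) < a := by exact_mod_cast ha
  have hb0 : (0 : ℚ) < b := by exact_mod_cast hb
  have hMab : M * a ≤ b := by
    rw [div_lt_div_iff₀ hb0 (by positivity)] at hab
    have : (a : ℚ) * (M + 1) < 1 * b := hab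
    have h1 : (M : ℚ) * a ≤ b := by nlinarith
    exact_mod_cast h1
  have h1 := hM a b ha hb hMab i
  rw [hgen_twist hφ hP hPξ hL hLL', phi_eq (φ := φ) hL.1 hLL' Λ hΛ]
  have h2 := mc_twist ((Scheme.Modules.pullback (Phi φ (mk L hL.1)).left).obj
              ((Coh.Rpush (pullback.snd A.hom At.hom) i).obj
                (CohB1.tensorMod ((Scheme.Modules.pullback (pullback.fst A.hom At.hom)).obj F) P)))
                hL.1 hLL' a ((a : ℤ) * (b : ℤ))
  rw [← pm_mc, ← Ph_eq hφ hP hPξ hL hF] at h2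
  have h3 := congrArg (chi k) h2
  rw [chi_mc] at h3
  refine h1.trans ?_
  rw [← h3]

end K526.Rows
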