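import Groth.Agent.AbVar.K526.FrMul
import Groth.Agent.PerfA.TildeRes
import Groth.Agent.CurvesC.CurveNum
import Groth.Agent.S0458
import Mathlib.RingTheory.KrullDimension.Field
/-!
# Coherent modules on the spectrum of a field; cohomology as the higher direct image to the base
-/

set_option autoImplicit false
universe u
open CategoryTheory CategoryTheory.Limits AlgebraicGeometry
open Groth.Agent Groth.Agent.Fga.PicMon Groth.Agent.Fga Groth.Agent.Pic13.H11.Cls

namespace K526.PullM

open Cut

variable (k : Type u) [Field k]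

theorem finrank_unit :
    Module.finrank k (Coh.HH (Spec (CommRingCat.of k)) (Coh.structureModule (Spec (CommRingCat.of k))) 0) = 1 := by
  let _ := CurvesC.CurveNum.topMod k (Spec (CommRingCat.of k))
  rw [(CurvesC.CurveNum.hZeroTop k (Spec (CommRingCat.of k))).finrank_eq]
  let φ : k →+* Coh.Γtop (Spec (CommRingCat.of k)) :=
    Coh.toGlobal (Spec (CommRingCat.of k) ↘ Spec (CommRingCat.of k))
  have hφ : Function.Bijective φ := by
    have h1 : φ = (Scheme.ΓSpecIso (CommRingCat.of k)).inv.hom := by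
      change ((𝟙 (Spec (CommRingCat.of k)) : Spec (CommRingCat.of k) ⟶ _).appTop).hom.comp _ = _
      rw [Scheme.Hom.id_appTop]
      rfl
    rw [h1]
    exact ConcreteCategory.bijective_of_isIso (Scheme.ΓSpecIso (CommRingCat.of k)).inv
  let e : k ≃ₗ[k] Coh.Γtop (Spec (CommRingCat.of k)) :=
    LinearEquiv.ofBijective
      { toFun := φ
        map_add' := map_add φ
        map_smul' := fun a b => map_mul φ a b } hφ
  rw [← e.finrank_eq, Module.finrank_self]

instance : IsProper (Spec (CommRingCat.of k) ↘ Spec (CommRingCat.of k)) :=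
  inferInstanceAs (IsProper (𝟙 (Spec (CommRingCat.of k))))

theorem h_fr_spec (n : ℕ) : h k 0 (fr (Spec (CommRingCat.of k)) n) = n := by
  have h1 := h_fr_mul k (X := Spec (CommRingCat.of k)) (c := 1) co_one n 0
  have h2 : h k 0 (1 : MC (Spec (CommRingCat.of k))) = 1 := finrank_unit k
  rw [mul_one, h2, mul_one] at h1
  exact h1

theorem V_spec (c : MC (Spec (CommRingCat.of k))) (q : ℕ) : V (q + 1) c := by
  induction c using MC.ind with | h F => ?_
  have : TopologicalSpace.NoetherianSpace ((Spec (CommRingCat.of k)).toTopCat) :=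
    inferInstanceAs (TopologicalSpace.NoetherianSpace (Spec (CommRingCat.of k)))
  have h1 : topologicalKrullDim ↥(Spec (CommRingCat.of k)) ≤ ((0 : ℕ) : WithBot ℕ∞) := by
    have h1 : topologicalKrullDim ↥(Spec (CommRingCat.of k)) = ringKrullDim k :=
      PrimeSpectrum.topologicalKrullDim_eq_ringKrullDim k
    rw [h1, ringKrullDim_eq_zero_of_field]
    simp
  exact S0458.result (X := (Spec (CommRingCat.of k)).toTopCat) 0 h1 (Coh.toAb F) (q + 1) (by omega)

omit k [Field k] in
theorem exists_iso_free {R : CommRingCat.{u}} (hR : IsField R) (M : (Spec R).Modules) [hM : M.IsQuasicoherent]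
    (h : CohqB.FiniteType.IsFT M) : ∃ n : ℕ, Nonempty (M ≅ FlatMod.freeMod (Spec R) n) := by
  let _ : Field R := hR.toField
  have h1 : IsIso M.fromTildeΓ := inferInstance
  have : Coh.IsQCoh M := hM
  have h2 : Module.Finite R Γ(M, ⊤) := CohqB.FiniteType2.finite_of_isFT M h
  have h3 : Module.Finite R (moduleSpecΓFunctor.obj M) := h2
  have h4 : Module.Free R (moduleSpecΓFunctor.obj M) :=
    Module.Free.of_divisionRing R (moduleSpecΓFunctor.obj M)
  obtain ⟨n, ⟨e⟩⟩ := PerfA.TildeRes.exists_iso_freeMod (moduleSpecΓFunctor.obj M)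
  exact ⟨n, ⟨(asIso M.fromTildeΓ).symm ≪≫ e⟩⟩

theorem exists_fr {c : MC (Spec (CommRingCat.of k))} (hc : Co c) : ∃ n, c = fr (Spec (CommRingCat.of k)) n := by
  induction c using MC.ind with | h F => ?_
  have : F.IsQuasicoherent := hc.1
  obtain ⟨n, ⟨e⟩⟩ := exists_iso_free (R := CommRingCat.of k) (Field.toIsField k) F hc.2
  exact ⟨n, mc_eq e⟩

/-- `R^j (X → Spec k)_* c` is free of rank `h^j(c)`. -/
theorem R_spec {X : Scheme.{u}} [X.Over (Spec (CommRingCat.of k))] [IsProper (X ↘ Spec (CommRingCat.of k))]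
    (p : X ⟶ Spec (CommRingCat.of k)) (hp : p = X ↘ Spec (CommRingCat.of k)) {c : MC X} (hc : Co c) (j : ℕ) :
    R p j c = fr (Spec (CommRingCat.of k)) (h k j c) := by
  subst hp
  have h1 : Co (R (X ↘ Spec (CommRingCat.of k)) j c) := co_R _ j hc
  obtain ⟨n, hn⟩ := exists_fr k h1
  have h2 : h k j c = h k 0 (R (X ↘ Spec (CommRingCat.of k)) j c) :=
    h_R k (X ↘ Spec (CommRingCat.of k)) (Category.comp_id _) (fun j q => V_spec k _ q) j
  rw [h2, hn, h_fr_spec]

end K526.PullM
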