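import Groth.Agent.VarietyB.HHPush
import Groth.Agent.Etcore.DerLES
/-!
# The degenerate Leray spectral sequences, linear over the base ring

`f : X ⟶ Y` over `Spec A`.
* `exists_equiv_zero`: if `H^q(Y, R^j f_* M) = 0` for all `q ≥ 1` and all `j` then `H^n(X, M) ≃ₗ[A] H^0(Y, R^n f_* M)`.
-/

set_option autoImplicit false
universe u
open CategoryTheory CategoryTheory.Limits AlgebraicGeometry Opposite TopologicalSpace

namespace K526.Leray

open Groth.Agent Groth.Agent.VarietyB.HHPush Groth.Agent.VarietyB.HHLes Groth.Agent.CohqB Groth.Agent.CohqA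

variable {X Y : Scheme.{u}} (f : X ⟶ Y) (A : Type u) [CommRing A] [X.Over (Spec (CommRingCat.of A))]
  [Y.Over (Spec (CommRingCat.of A))]

/-- Higher cohomology vanishes. -/
def HV (M : Y.Modules) : Prop := ∀ (q : ℕ) (x : Hn A Y M (q + 1)), x = 0

omit [X.Over (Spec (CommRingCat.of A))] in
theorem HV.of_iso {M N : Y.Modules} (e : M ≅ N) (h : HV A M) : HV A N := fun q x => by
  have h1 := h q ((isoEquiv A e (q + 1)).symm x)
  rw [← (isoEquiv A e (q + 1)).apply_symm_apply x, h1, map_zero]

section
variable {S : ShortComplex X.Modules} (hS : S.ShortExact)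

/-- The image of `f_* S₂ → f_* S₃`. -/
noncomputable abbrev B (S : ShortComplex X.Modules) : Y.Modules :=
  Abelian.image ((Scheme.Modules.pushforward f).map S.g)

/-- `f_* S₁ → f_* S₂ → B`. -/
noncomputable abbrev oneSC (S : ShortComplex X.Modules) : ShortComplex Y.Modules :=
  ShortComplex.mk ((Scheme.Modules.pushforward f).map S.f)
    (Abelian.factorThruImage ((Scheme.Modules.pushforward f).map S.g)) (by
      rw [← cancel_mono (Abelian.image.ι ((Scheme.Modules.pushforward f).map S.g)), Category.assoc,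
        Abelian.image.fac, zero_comp, ← Functor.map_comp, S.zero, Functor.map_zero])

include hS in
/-- `0 → f_* S₁ → f_* S₂ → B → 0`. -/
theorem shortExact_one : (oneSC f S).ShortExact := by
  have hm : Mono S.f := hS.mono_f
  have h1 : (S.map (Scheme.Modules.pushforward f)).Exact :=
    hS.exact.map_of_mono_of_preservesKernel _ hS.mono_f inferInstance
  let φ : oneSC f S ⟶ S.map (Scheme.Modules.pushforward f) :=
    { τ₁ := 𝟙 _
      τ₂ := 𝟙 _
      τ₃ := Abelian.image.ι _
      comm₁₂ := (Category.id_comp _).trans (Category.comp_id _).symm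
      comm₂₃ := (Category.id_comp _).trans (Abelian.image.fac ((Scheme.Modules.pushforward f).map S.g)).symm }
  have e1 : Epi φ.τ₁ := inferInstanceAs (Epi (𝟙 _))
  have e2 : IsIso φ.τ₂ := inferInstanceAs (IsIso (𝟙 _))
  have e3 : Mono φ.τ₃ := inferInstanceAs (Mono (Abelian.image.ι _))
  exact
    { exact := (ShortComplex.exact_iff_of_epi_of_isIso_of_mono φ).mpr h1
      mono_f := inferInstanceAs (Mono ((Scheme.Modules.pushforward f).map S.f))
      epi_g := inferInstanceAs (Epi (Abelian.factorThruImage _)) }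

/-- `0 → B → f_* S₃ → coker → 0`. -/
theorem shortExact_two (S : ShortComplex X.Modules) : (ShortComplex.mk (Abelian.image.ι ((Scheme.Modules.pushforward f).map S.g))
    (cokernel.π ((Scheme.Modules.pushforward f).map S.g)) (kernel.condition _)).ShortExact :=
  { exact := ShortComplex.exact_of_f_is_kernel _ (kernelIsKernel _)
    mono_f := inferInstanceAs (Mono (kernel.ι _))
    epi_g := inferInstanceAs (Epi (cokernel.π _)) }

end

/-- `H^0(S₂) / H^0(S₁) ≃ H^0(S₃)` if `H^1(S₁) = 0`. -/
noncomputable def quotEquiv {T : ShortComplex Y.Modules} (hT : T.ShortExact) (h : ∀ x : Hn A Y T.X₁ 1, x = 0) :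
    (Hn A Y T.X₂ 0 ⧸ LinearMap.range (Hmap A T.f 0)) ≃ₗ[A] Hn A Y T.X₃ 0 :=
  (Submodule.quotEquivOfEq _ _ (by
    ext x
    constructor
    · rintro ⟨y, rfl⟩
      exact Hmap_f_g A 0 y
    · intro hx
      exact exact₂ A hT 0 x hx)).trans
    ((Hmap A T.g 0).quotKerEquivOfSurjective fun x => exact₃ A hT 0 x (h _))

variable (hf : f ≫ (Y ↘ Spec (CommRingCat.of A)) = X ↘ Spec (CommRingCat.of A))

instance (X : Scheme.{u}) : EnoughInjectives X.Modules := enoughInjectives X

include hf in
/-- The Leray spectral sequence when all `R^j f_* M` are acyclic. -/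
theorem exists_equiv_zero (n : ℕ) : ∀ (M : X.Modules), (∀ j, HV A ((Coh.Rpush f j).obj M)) →
    Nonempty (Hn A X M n ≃ₗ[A] Hn A Y ((Coh.Rpush f n).obj M) 0) := by
  induction n with
  | zero =>
    intro M _
    exact ⟨(zeroEquiv f A hf M).symm.trans
      (isoEquiv A (((Scheme.Modules.pushforward f).rightDerivedZeroIsoSelf).symm.app M) 0)⟩
  | succ n ih =>
    intro M hM
    obtain ⟨S, hS, hI, rfl⟩ := SheafH.exists_injective_shortExact M
    have hfl : TopCat.Sheaf.IsFlasque (X := X.toTopCat) (Coh.toAb S.X₂) :=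
      Ega3B.InjMod.isFlasque_of_injective S.X₂
    have hfl' := isFlasque_push f S.X₂ hfl
    have hT1 := shortExact_one f hS
    have hT2 := shortExact_two f S
    obtain ⟨e1⟩ := Etcore.DerLES.nonempty_iso_one_of_injective (Scheme.Modules.pushforward f) hS
    have eq : ∀ q : ℕ, Nonempty ((Coh.Rpush f (q + 2)).obj S.X₁ ≅ (Coh.Rpush f (q + 1)).obj S.X₃) := fun q =>
      Etcore.DerLES.nonempty_iso_of_injective (Scheme.Modules.pushforward f) hS q
    -- vanishing
    have v0 : HV A ((Scheme.Modules.pushforward f).obj S.X₁) :=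
      (hM 0).of_iso A ((Scheme.Modules.pushforward f).rightDerivedZeroIsoSelf.app S.X₁)
    have vI : HV A ((Scheme.Modules.pushforward f).obj S.X₂) := fun q x => Hn_eq_zero_of_flasque A _ hfl' q x
    have vB : HV A (B f S) := by
      intro q x
      obtain ⟨y, rfl⟩ := exact₃ A hT1 (q + 1) x (v0 (q + 1) _)
      rw [vI q y]
      exact map_zero _
    have vR : HV A (cokernel ((Scheme.Modules.pushforward f).map S.g)) := (hM 1).of_iso A e1
    have vQ0 : HV A ((Scheme.Modules.pushforward f).obj S.X₃) := by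
      intro q x
      obtain ⟨y, rfl⟩ := exact₂ A hT2 (q + 1) x (vR q _)
      rw [vB q y]
      exact map_zero _
    have vQ : ∀ j, HV A ((Coh.Rpush f j).obj S.X₃) := by
      intro j
      rcases j with _ | j
      · exact vQ0.of_iso A ((Scheme.Modules.pushforward f).rightDerivedZeroIsoSelf.symm.app S.X₃)
      · exact (hM (j + 2)).of_iso A (eq j).some
    have h1 := cokEquiv A hS n (Hn_eq_zero_of_flasque A S.X₂ hfl n)
    rcases n with _ | n
    · -- degree one
      have hmap : (LinearMap.range (Hmap A ((Scheme.Modules.pushforward f).map S.g) 0)).map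
          (zeroEquiv f A hf S.X₃).toLinearMap = LinearMap.range (Hmap A S.g 0) := by
        ext z
        constructor
        · rintro ⟨y, ⟨x, rfl⟩, rfl⟩
          exact ⟨zeroEquiv f A hf S.X₂ x, (zeroEquiv_naturality f A hf S.g x).symm⟩
        · rintro ⟨x, rfl⟩
          refine ⟨Hmap A ((Scheme.Modules.pushforward f).map S.g) 0
            ((zeroEquiv f A hf S.X₂).symm x), ⟨_, rfl⟩, ?_⟩
          refine (zeroEquiv_naturality f A hf S.g _).trans ?_
          rw [LinearEquiv.apply_symm_apply]
      have e0 : (Hn A Y ((Scheme.Modules.pushforward f).obj S.X₃) 0 ⧸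
          LinearMap.range (Hmap A ((Scheme.Modules.pushforward f).map S.g) 0)) ≃ₗ[A]
          (Hn A X S.X₃ 0 ⧸ LinearMap.range (Hmap A S.g 0)) :=
        Submodule.Quotient.equiv _ _ (zeroEquiv f A hf S.X₃) hmap
      have hr : LinearMap.range (Hmap A ((Scheme.Modules.pushforward f).map S.g) 0) =
          LinearMap.range (Hmap A (Abelian.image.ι ((Scheme.Modules.pushforward f).map S.g)) 0) := by
        ext z
        constructor
        · rintro ⟨x, rfl⟩
          refine ⟨Hmap A (Abelian.factorThruImage ((Scheme.Modules.pushforward f).map S.g)) 0 x, ?_⟩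
          rw [← LinearMap.comp_apply, ← Hmap_comp, Abelian.image.fac]
        · rintro ⟨x, rfl⟩
          obtain ⟨y, rfl⟩ := exact₃ A hT1 0 x (v0 0 _)
          refine ⟨y, ?_⟩
          change _ = Hmap A (Abelian.image.ι _) 0 (Hmap A (Abelian.factorThruImage _) 0 y)
          rw [← LinearMap.comp_apply (Hmap A (Abelian.image.ι _) 0), ← Hmap_comp, Abelian.image.fac]
      have e2 : Hn A Y (cokernel ((Scheme.Modules.pushforward f).map S.g)) 0 ≃ₗ[A]
          (Hn A Y ((Scheme.Modules.pushforward f).obj S.X₃) 0 ⧸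
            LinearMap.range (Hmap A ((Scheme.Modules.pushforward f).map S.g) 0)) :=
        (quotEquiv A hT2 (vB 0)).symm.trans (Submodule.quotEquivOfEq _ _ hr.symm)
      exact ⟨h1.symm.trans (e0.symm.trans (e2.symm.trans (isoEquiv A e1.symm 0)))⟩
    · obtain ⟨e⟩ := ih S.X₃ vQ
      exact ⟨(shiftEquiv A hS (n + 1) (Hn_eq_zero_of_flasque A _ hfl n)
        (Hn_eq_zero_of_flasque A _ hfl (n + 1))).symm.trans (e.trans (isoEquiv A (eq n).some.symm 0))⟩

end K526.Leray
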