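import Groth.Agent.AbVar.K526.Core
/-!
# Generic cohomology of small negative twists

`core`: `h⁰(ℓ^{ab}) h^i_gen(ℓ^{-ab} ⊗ b^*c) = b^{2g} χ(ℓ^{ab} ⊗ a^*Φ_i)` if `ℓ^{ab} ⊗ a^*Φ_j` is acyclic after all twists by `Pic⁰`;
`core_zero`: `h⁰(ℓ^{ab}) h^i_gen(ℓ^{-ab} ⊗ b^*c) = b^{2g} h^i_gen(ℓ^{ab} ⊗ a^*Φ_0)` if `Φ_j = 0` for `j ≥ 1`.
-/

set_option autoImplicit false
universe u
open CategoryTheory CategoryTheory.Limits MonoidalCategory CartesianMonoidalCategory AlgebraicGeometry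
open scoped MonObj
open Groth.Agent Groth.Agent.Fga.PicMon Groth.Agent.Fga Groth.Agent.Pic13.H11.Cls Groth.Agent.Pic13.H11.NumU
  Groth.Agent.Grpsch.PicGrp Groth.Agent.Grpsch.Cube

namespace K526.Core

open Cut PullM K518.Phi _root_.K526.Prod

variable {k : Type u} [Field k] {A : Over (Spec (CommRingCat.of k))} [GrpObj A]

/-- The group of the classes `[P_α]`. -/
noncomputable def P0 (A : Over (Spec (CommRingCat.of k))) [GrpObj A] : Subgroup (MC A.left)ˣ := (Inv A).map toU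

theorem toU_mem_P0 {α : Pic A.left} (h : α ∈ Inv A) : toU α ∈ P0 A := ⟨α, h, rfl⟩

variable (ℓ : Pic A.left)

/-- The direct image of `W`. -/
noncomputable def QQ (a b : ℕ) (c : MC A.left) : MC A.left := R (fst A A).left 0 (WW ℓ a (a * b) c)

variable [IsProper A.hom] [GeometricallyIntegral A.hom]

theorem co_WW (a n : ℕ) {c : MC A.left} (hc : Co c) : Co (WW ℓ a n c) := (co_pm _ hc).smul _

theorem co_QQ (a b : ℕ) {c : MC A.left} (hc : Co c) : Co (QQ ℓ a b c) := co_R _ 0 (co_WW ℓ a (a * b) hc)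

theorem co_Ph (j : ℕ) {c : MC A.left} (hc : Co c) : Co (Ph ℓ j c) := co_R _ j ((co_pm _ hc).smul _)

theorem R_fst_succ (a : ℕ) {b : ℕ} (hb : 1 ≤ b) {c : MC A.left} (hc : Co c)
    (hv : ∀ j, h k (j + 1) ((toU (ℓ ^ (a * b)) : (MC A.left)ˣ) : MC A.left) = 0) (j : ℕ) :
    R (fst A A).left (j + 1) (WW ℓ a (a * b) c) = fr A.left 0 := by
  have := flat_nn (A := A) hb
  have := surj_nn (A := A) hb
  refine eq_zero_of_pm (nn A b).left ?_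
  rw [pm_R_fst_WW ℓ a hb hc, hv, fr_zero_mul]

/-- `h^i(p^*α ⊗ W) = h^i(α ⊗ Q)`. -/
theorem h_fst_WW (a : ℕ) {b : ℕ} (hb : 1 ≤ b) {c : MC A.left} (hc : Co c)
    (hv : ∀ j, h k (j + 1) ((toU (ℓ ^ (a * b)) : (MC A.left)ˣ) : MC A.left) = 0) (α : Pic A.left) (i : ℕ) :
    h k i (toU (pl (fst A A) α) • WW ℓ a (a * b) c) = h k i (toU α • QQ ℓ a b c) := by
  have e1 : ∀ j, R (fst A A).left j (toU (pl (fst A A) α) • WW ℓ a (a * b) c) =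
      toU α • R (fst A A).left j (WW ℓ a (a * b) c) := by
    intro j
    have h1 := R_proj (fst A A).left j (toU α) (WW ℓ a (a * b) c)
    rw [um_toU] at h1
    exact h1
  rw [h_R0 k (fst A A).left (Over.w (fst A A)) ((co_WW ℓ a (a * b) hc).smul _) (fun j => by
    rw [e1, R_fst_succ ℓ a hb hc hv, smul_fr_zero]) i, e1]
  rfl

/-- `h^i(φ(y)^a ⊗ Q) = h^i(q^*φ(y)^{-ab} ⊗ W)`. -/
theorem h_QQ (a : ℕ) {b : ℕ} (hb : 1 ≤ b) {c : MC A.left} (hc : Co c)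
    (hv : ∀ j, h k (j + 1) ((toU (ℓ ^ (a * b)) : (MC A.left)ˣ) : MC A.left) = 0) (y : Pt A) (i : ℕ) :
    h k i (toU (phi ℓ y ^ a) • QQ ℓ a b c) =
      h k i (toU (pl (snd A A) ((phi ℓ y ^ (a * b))⁻¹)) • WW ℓ a (a * b) c) := by
  rw [← h_fst_WW ℓ a hb hc hv, map_pow, h_transl ℓ a (a * b) y hc]

theorem pl_QQ (a : ℕ) {b : ℕ} (hb : 1 ≤ b) {c : MC A.left} (hc : Co c) :
    pm (nn A b).left (QQ ℓ a b c) = fr A.left (h k 0 ((toU (ℓ ^ (a * b)) : (MC A.left)ˣ) : MC A.left)) *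
        ((toU (ℓ ^ (a * b)))⁻¹ • pm (nn A b).left c) := pm_R_fst_WW ℓ a hb hc 0

theorem hg_QQ (a : ℕ) {b : ℕ} (hb : 1 ≤ b) {c : MC A.left} (hc : Co c) (i : ℕ) {g : ℕ}
    (hgm : ∀ d : MC A.left, Co d → hg k (P0 A) i (pm (nn A b).left d) = b ^ (2 * g) * hg k (P0 A) i d) :
    h k 0 ((toU (ℓ ^ (a * b)) : (MC A.left)ˣ) : MC A.left) *
        hg k (P0 A) i ((toU (ℓ ^ (a * b)))⁻¹ • pm (nn A b).left c) = b ^ (2 * g) * hg k (P0 A) i (QQ ℓ a b c) := by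
  rw [← hgm _ (co_QQ ℓ a b hc), pl_QQ ℓ a hb hc, hg_fr_mul k _ ((co_pm _ hc).smul _)]

/-- Cohomology concentrated in degree zero. -/
theorem h_zero_eq_chi {X : Scheme.{u}} [X.Over (Spec (CommRingCat.of k))] {c : MC X} (hV : ∀ q, V (q + 1) c) :
    (h k 0 c : ℤ) = chi k c := by
  rw [chi_eq_sum k c 0 fun i hi => by
    obtain ⟨q, rfl⟩ := Nat.exists_eq_succ_of_ne_zero (Nat.pos_iff_ne_zero.mp hi)
    exact hV q]
  simp

/-- The comparison. -/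
theorem core {a b : ℕ} (ha : 1 ≤ a) (hb : 1 ≤ b) {c : MC A.left} (hc : Co c)
    (hv : ∀ j, h k (j + 1) ((toU (ℓ ^ (a * b)) : (MC A.left)ˣ) : MC A.left) = 0) (i : ℕ) {g : ℕ}
    (hgm : ∀ d : MC A.left, Co d → hg k (P0 A) i (pm (nn A b).left d) = b ^ (2 * g) * hg k (P0 A) i d)
    (hsurj : ∀ α ∈ Inv A, ∃ y : Pt A, phi ℓ y ^ a = α)
    (hchi : ∀ u ∈ P0 A, ∀ d : MC A.left, Co d → chi k (u • d) = chi k d)
    (hV : ∀ u ∈ P0 A, ∀ j q, V (q + 1) (u • toU (ℓ ^ (a * b)) • pm (nn A a).left (Ph ℓ j c))) :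
    (h k 0 ((toU (ℓ ^ (a * b)) : (MC A.left)ˣ) : MC A.left) : ℤ) *
        (hg k (P0 A) i ((toU (ℓ ^ (a * b)))⁻¹ • pm (nn A b).left c) : ℕ) =
      (b : ℤ) ^ (2 * g) * chi k (toU (ℓ ^ (a * b)) • pm (nn A a).left (Ph ℓ i c)) := by
  have key : ∀ α ∈ Inv A, (h k i (toU α • QQ ℓ a b c) : ℤ) =
      chi k (toU (ℓ ^ (a * b)) • pm (nn A a).left (Ph ℓ i c)) := by
    intro α hα
    obtain ⟨y, rfl⟩ := hsurj α hα
    set β : Pic A.left := (phi ℓ y ^ (a * b))⁻¹ with hβ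
    have hβ' : β ∈ Inv A := Subgroup.inv_mem _ (Subgroup.pow_mem _ (phi_mem_Inv ℓ y) _)
    have e1 : ∀ j, R (snd A A).left j (toU (pl (snd A A) β) • WW ℓ a (a * b) c) =
        toU β • toU (ℓ ^ (a * b)) • pm (nn A a).left (Ph ℓ j c) := by
      intro j
      rw [R_snd_WW ℓ ha (a * b) β hc, map_mul, smul_smul]
    rw [h_QQ ℓ a hb hc hv, h_R k (snd A A).left (Over.w (snd A A)) (fun j q => by
      rw [e1]
      exact hV _ (toU_mem_P0 hβ') j q), e1, h_zero_eq_chi fun q => hV _ (toU_mem_P0 hβ') i q]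
    exact hchi _ (toU_mem_P0 hβ') _ ((co_pm _ (co_Ph ℓ i hc)).smul _)
  have h1 := hg_QQ ℓ a hb hc i hgm
  obtain ⟨u, ⟨α, hα, rfl⟩, hu⟩ := exists_hg k (P0 A) i (QQ ℓ a b c)
  rw [← key α hα, hu]
  exact_mod_cast h1

/-- The comparison when the higher transforms vanish. -/
theorem core_zero {a b : ℕ} (ha : 1 ≤ a) (hb : 1 ≤ b) {c : MC A.left} (hc : Co c)
    (hv : ∀ j, h k (j + 1) ((toU (ℓ ^ (a * b)) : (MC A.left)ˣ) : MC A.left) = 0) (i : ℕ) {g : ℕ}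
    (hgm : ∀ d : MC A.left, Co d → hg k (P0 A) i (pm (nn A b).left d) = b ^ (2 * g) * hg k (P0 A) i d)
    (hsurj : ∀ n, 1 ≤ n → ∀ α ∈ Inv A, ∃ y : Pt A, phi ℓ y ^ n = α)
    (hz : ∀ j, Ph ℓ (j + 1) c = fr A.left 0) :
    h k 0 ((toU (ℓ ^ (a * b)) : (MC A.left)ˣ) : MC A.left) *
        hg k (P0 A) i ((toU (ℓ ^ (a * b)))⁻¹ • pm (nn A b).left c) =
      b ^ (2 * g) * hg k (P0 A) i (toU (ℓ ^ (a * b)) • pm (nn A a).left (Ph ℓ 0 c)) := by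
  have key : ∀ y : Pt A, h k i (toU (phi ℓ y ^ a) • QQ ℓ a b c) =
      h k i (toU ((phi ℓ y ^ (a * b))⁻¹) • toU (ℓ ^ (a * b)) • pm (nn A a).left (Ph ℓ 0 c)) := by
    intro y
    have e1 : ∀ j, R (snd A A).left j (toU (pl (snd A A) (phi ℓ y ^ (a * b))⁻¹) • WW ℓ a (a * b) c) =
        toU ((phi ℓ y ^ (a * b))⁻¹) • toU (ℓ ^ (a * b)) • pm (nn A a).left (Ph ℓ j c) := by
      intro j
      rw [R_snd_WW ℓ ha (a * b) _ hc, map_mul, smul_smul]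
    rw [h_QQ ℓ a hb hc hv, h_R0 k (snd A A).left (Over.w (snd A A)) ((co_WW ℓ a (a * b) hc).smul _) (fun j => by
      rw [e1, hz, pm_fr, smul_fr_zero, smul_fr_zero]), e1]
  rw [hg_QQ ℓ a hb hc i hgm]
  congr 1
  refine le_antisymm ?_ ?_
  · obtain ⟨u, ⟨α, hα, rfl⟩, hu⟩ := exists_hg k (P0 A) i (toU (ℓ ^ (a * b)) • pm (nn A a).left (Ph ℓ 0 c))
    obtain ⟨y, hy⟩ := hsurj (a * b) (Nat.mul_pos ha hb) α⁻¹ (Subgroup.inv_mem _ hα)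
    have h1 := key y
    rw [hy, inv_inv, hu] at h1
    rw [← h1]
    exact hg_le k _ i _ (toU_mem_P0 (Subgroup.pow_mem _ (phi_mem_Inv ℓ y) a))
  · obtain ⟨u, ⟨α, hα, rfl⟩, hu⟩ := exists_hg k (P0 A) i (QQ ℓ a b c)
    obtain ⟨y, hy⟩ := hsurj a ha α hα
    have h1 := key y
    rw [hy, hu] at h1
    rw [h1]
    exact hg_le k _ i _ (toU_mem_P0 (Subgroup.inv_mem _ (Subgroup.pow_mem _ (phi_mem_Inv ℓ y) _)))

end K526.Core
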