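import Groth.Agent.AbVar.K526.Free
/-!
# The abstract setting of cohomological rank functions

`Ctx k g hL P0 pl` collects the facts about an abelian variety `X` of dimension `g` over `k` which are used: `MC X` is the monoid of
isomorphism classes of modules, `η` the class of an ample module, `P0` the group of the classes `[P_α]`, `pl b` the pullback along
multiplication by `b`.  `hg k P0 i c` is the generic value of `h^i(c ⊗ P_α)`.
-/

set_option autoImplicit false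
universe u
open CategoryTheory CategoryTheory.Limits AlgebraicGeometry
open Groth.Agent Groth.Agent.Fga.PicMon Groth.Agent.Fga Groth.Agent.Pic13.H11.Cls

namespace K526

open Cut

section
variable (k : Type u) [Field k] {X : Scheme.{u}} [X.Over (Spec (CommRingCat.of k))] (P0 : Subgroup (MC X)ˣ)

/-- The generic value of `h^i`. -/
noncomputable def hg (i : ℕ) (c : MC X) : ℕ := ⨅ u : P0, h k i ((u : (MC X)ˣ) • c)

theorem hg_le (i : ℕ) (c : MC X) {u : (MC X)ˣ} (hu : u ∈ P0) : hg k P0 i c ≤ h k i (u • c) :=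
  ciInf_le (OrderBot.bddBelow _) (⟨u, hu⟩ : P0)

theorem hg_smul (i : ℕ) (c : MC X) {u : (MC X)ˣ} (hu : u ∈ P0) : hg k P0 i (u • c) = hg k P0 i c := by
  refine le_antisymm ?_ ?_
  · refine le_ciInf fun v => ?_
    have h1 : (v : (MC X)ˣ) • c = ((v : (MC X)ˣ) * u⁻¹) • (u • c) := by rw [smul_smul]; simp
    rw [h1]
    exact hg_le k P0 i (u • c) (P0.mul_mem v.2 (P0.inv_mem hu))
  · refine le_ciInf fun v => ?_
    rw [smul_smul]
    exact hg_le k P0 i c (P0.mul_mem v.2 hu)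

theorem exists_hg (i : ℕ) (c : MC X) : ∃ u ∈ P0, h k i (u • c) = hg k P0 i c := by
  obtain ⟨u, hu⟩ := Nat.sInf_mem (Set.range_nonempty (fun u : P0 => h k i ((u : (MC X)ˣ) • c)))
  exact ⟨u, u.2, hu⟩

end

/-- The data and facts from which the theory of rank functions is developed. -/
structure Ctx (k : Type u) [Field k] {X : Scheme.{u}} [X.Over (Spec (CommRingCat.of k))] (g : ℕ) (η : (MC X)ˣ)
    (P0 : Subgroup (MC X)ˣ) (pl : ℕ → MC X →* MC X) : Prop where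
  dim : topologicalKrullDim X = g
  co : ∀ b, 1 ≤ b → ∀ c, Co c → Co (pl b c)
  ses : ∀ b, 1 ≤ b → ∀ x y z, Ses x y z → Ses (pl b x) (pl b y) (pl b z)
  mul : ∀ a b, 1 ≤ a → 1 ≤ b → ∀ c, pl a (pl b c) = pl (a * b) c
  free : ∀ b, 1 ≤ b → ∀ r, pl b (fr X r) = fr X r
  P0_mem : ∀ b, 1 ≤ b → ∀ u ∈ P0, Units.map (pl b) u ∈ P0
  eta : ∀ b : ℕ, 1 ≤ b → ∃ u ∈ P0, Units.map (pl b) η = u * η ^ (b ^ 2)
  van : ∀ u ∈ P0, ∀ n : ℤ, 1 ≤ n → ∀ i, 1 ≤ i → V i ((u * η ^ n : (MC X)ˣ) : MC X)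
  van' : ∀ u ∈ P0, ∀ n : ℤ, n ≤ -1 → ∀ i, i ≠ g → V i ((u * η ^ n : (MC X)ˣ) : MC X)
  chi_smul : ∀ u ∈ P0, ∀ c : MC X, Co c → chi k (u • c) = chi k c
  bdd : ∃ C : ℕ, ∀ u ∈ P0, ∀ i, h k i (u : MC X) ≤ C
  quot : ∀ c : MC X, Co c → ∃ (a r : ℕ) (K : MC X), Ses K (fr X r) (η ^ a • c)
  gg : ∃ (M : ℕ) (N : X.Modules), 1 ≤ M ∧ PicF.IsInvertible N ∧ mc N = ((η ^ M : (MC X)ˣ) : MC X) ∧
    Curv2.IsGloballyGenerated N
  hgmul : ∀ b, 1 ≤ b → ∀ c, Co c → ∀ i, hg k P0 i (pl b c) = b ^ (2 * g) * hg k P0 i c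

end K526
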