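import Groth.Agent.Pic13.H11.Cls
import Groth.Agent.Fga.RegSec
import Groth.Agent.Fga.TwistCoh
import Mathlib.Algebra.Homology.ShortComplex.SnakeLemma
/-!
# Cutting coherent modules by a section of an invertible module, on classes

For `s : O_X ⟶ N`: `Reg s c` says that multiplication by `s` is injective on a module of class `c`, and `cutC s c` is the class of its
cokernel in `N ⊗ c`.
* `cutC_smul`, `reg_smul`: compatibility with twists by units;
* `ses_cut`: `0 → c → N ⊗ c → cut c → 0`;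
* `ses_cutC`: a short exact sequence `0 → a → b → c → 0` with `s` regular on `b`, `c` gives `0 → cut a → cut b → cut c → 0`
  (and `s` is regular on `a`).
-/

set_option autoImplicit false
universe u
open CategoryTheory CategoryTheory.Limits AlgebraicGeometry
open Groth.Agent Groth.Agent.Fga.PicMon Groth.Agent.Fga Groth.Agent.Pic13.H11.Cls Groth.Agent.Fga.RegSec
open Groth.Agent.Ega2 Groth.Agent.Fdesc Groth.Agent.Fdesc.LocGen

namespace K526.Cut

section cat
variable {C : Type*} [Category C] [Abelian C]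

/-- The snake input of a morphism of short exact sequences. -/
noncomputable def snake {S T : ShortComplex C} (hS : S.ShortExact) (hT : T.ShortExact) (φ : S ⟶ T) :
    ShortComplex.SnakeInput C where
  L₀ := kernel φ
  L₁ := S
  L₂ := T
  L₃ := cokernel φ
  v₀₁ := kernel.ι _
  v₁₂ := φ
  v₂₃ := cokernel.π _
  w₀₂ := kernel.condition _
  w₁₃ := cokernel.condition _
  h₀ := kernelIsKernel _
  h₃ := cokernelIsCokernel _
  L₁_exact := hS.exact
  epi_L₁_g := hS.epi_g
  L₂_exact := hT.exact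
  mono_L₂_f := hT.mono_f

/-- The cokernels of a morphism of short exact sequences which is a monomorphism on the third term form a short exact
sequence. -/
theorem exists_shortExact_cokernel {S T : ShortComplex C} (hS : S.ShortExact) (hT : T.ShortExact) (φ : S ⟶ T)
    [Mono φ.τ₃] : ∃ U : ShortComplex C, U.ShortExact ∧ Nonempty (U.X₁ ≅ cokernel φ.τ₁) ∧
      Nonempty (U.X₂ ≅ cokernel φ.τ₂) ∧ Nonempty (U.X₃ ≅ cokernel φ.τ₃) := by
  have := hT.epi_g
  have := hS.mono_f
  let E := snake hS hT φ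
  have m1 : Mono E.L₁.f := hS.mono_f
  have m2 : Epi E.L₂.g := hT.epi_g
  let k3 : E.L₀.X₃ ≅ kernel φ.τ₃ := (E.h₀τ₃).conePointUniqueUpToIso (limit.isLimit _)
  let c1 : E.L₃.X₁ ≅ cokernel φ.τ₁ := (E.h₃τ₁).coconePointUniqueUpToIso (colimit.isColimit _)
  let c2 : E.L₃.X₂ ≅ cokernel φ.τ₂ := (E.h₃τ₂).coconePointUniqueUpToIso (colimit.isColimit _)
  let c3 : E.L₃.X₃ ≅ cokernel φ.τ₃ := (E.h₃τ₃).coconePointUniqueUpToIso (colimit.isColimit _)
  have hz : IsZero E.L₀.X₃ := (isZero_kernel_of_mono φ.τ₃).of_iso k3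
  have hmono : Mono E.L₃.f := by
    refine E.L₂'_exact.mono_g ?_
    exact hz.eq_of_src _ _
  exact ⟨E.L₃, { exact := E.L₃_exact, mono_f := hmono, epi_g := inferInstance }, ⟨c1⟩, ⟨c2⟩, ⟨c3⟩⟩

end cat

variable {X : Scheme.{u}} {N : X.Modules} (s : Coh.structureModule X ⟶ N)

/-- `M ⊗ φ`. -/
noncomputable def tm (M : X.Modules) {F G : X.Modules} (φ : F ⟶ G) : CohB1.tensorMod M F ⟶ CohB1.tensorMod M G :=
  (DCoh.tensorBi.obj M).map φ

theorem tm_eq (M : X.Modules) {F G : X.Modules} (φ : F ⟶ G) : tm M φ = Tens.mapT (𝟙 M) φ :=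
  Tens.hom_ext _ _ fun _ m n =>
    (VarietyB.TensLoc.tensorBi_map_app_tmul M φ m n).trans (Tens.mapT_tmul (𝟙 M) φ m n).symm

theorem lunit_nat {F G : X.Modules} (φ : F ⟶ G) : φ ≫ (Tens.lunit G).inv = (Tens.lunit F).inv ≫ Tens.mapT (𝟙 _) φ := by
  rw [Iso.eq_inv_comp, ← Category.assoc, Iso.comp_inv_eq]
  refine Tens.hom_ext _ _ fun U m n => ?_
  obtain ⟨r, hr⟩ := Tens.exists_sm m
  rw [hr]
  change φ.app U ((Tens.lunit F).hom.app U (Tens.tmul (Tens.sm r) n)) =
    (Tens.lunit G).hom.app U ((Tens.mapT (𝟙 _) φ).app U (Tens.tmul (Tens.sm r) n))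
  rw [Tens.mapT_tmul, Tens.lunit_hom_tmul]
  refine Eq.trans ?_ (Tens.lunit_hom_tmul r (φ.app U n)).symm
  exact φ.app_smul r n

/-- Multiplication by a section is natural. -/
theorem mulS_nat {F G : X.Modules} (φ : F ⟶ G) : mulS s F ≫ tm N φ = φ ≫ mulS s G := by
  rw [tm_eq, mulS, mulS, Category.assoc, ← Tens.mapT_comp, Category.comp_id, Category.id_comp,
    ← Category.assoc, lunit_nat, Category.assoc, ← Tens.mapT_comp, Category.comp_id, Category.id_comp]

/-- Multiplication by a section as a morphism of short complexes. -/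
noncomputable def mulSC (S : ShortComplex X.Modules) : S ⟶ S.map (DCoh.tensorBi.obj N) where
  τ₁ := mulS s S.X₁
  τ₂ := mulS s S.X₂
  τ₃ := mulS s S.X₃
  comm₁₂ := mulS_nat s S.f
  comm₂₃ := mulS_nat s S.g

theorem mono_mulS_of_mono {F G : X.Modules} (i : F ⟶ G) [Mono i] (hG : Mono (mulS s G)) : Mono (mulS s F) := by
  have h : Mono (mulS s F ≫ tm N i) := by
    rw [mulS_nat]
    exact mono_comp' inferInstance hG
  exact mono_of_mono _ (tm N i)

theorem mono_mulS_of_iso {F G : X.Modules} (e : F ≅ G) (h : Mono (mulS s F)) : Mono (mulS s G) :=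
  mono_mulS_of_mono s e.inv h

/-- `s` is regular on a module of class `c`. -/
def Reg : MC X → Prop :=
  Quot.lift (fun F => Mono (mulS s F)) fun _ _ ⟨e⟩ =>
    propext ⟨fun h => mono_mulS_of_iso s e h, fun h => mono_mulS_of_iso s e.symm h⟩

theorem reg_mc (F : X.Modules) : Reg s (mc F) = Mono (mulS s F) := rfl

/-- The cokernels of multiplication by `s` on isomorphic modules are isomorphic. -/
noncomputable def cokIso {F G : X.Modules} (e : F ≅ G) : cokernel (mulS s F) ≅ cokernel (mulS s G) :=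
  cokernel.mapIso _ _ e ((DCoh.tensorBi.obj N).mapIso e) (mulS_nat s e.hom)

/-- The class of the cokernel of multiplication by `s`. -/
noncomputable def cutC : MC X → MC X :=
  Quot.lift (fun F => mc (cokernel (mulS s F))) fun _ _ ⟨e⟩ => mc_eq (cokIso s e)

theorem cutC_mc (F : X.Modules) : cutC s (mc F) = mc (cokernel (mulS s F)) := rfl

section twist
variable {L : X.Modules}

/-- Multiplication by `s` commutes with twisting. -/
noncomputable def twIso (L F : X.Modules) :
    CohB1.tensorMod L (CohB1.tensorMod N F) ≅ CohB1.tensorMod N (CohB1.tensorMod L F) :=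
  (Tens.assoc L N F).symm ≪≫ Tens.mapTIso (Tens.swap L N) (Iso.refl F) ≪≫ Tens.assoc N L F

theorem mulS_twist (F : X.Modules) :
    tm L (mulS s F) ≫ (twIso (N := N) L F).hom = mulS s (CohB1.tensorMod L F) := by
  rw [tm_eq]
  refine Tens.hom_ext _ _ fun U l f => ?_
  change (Tens.assocHom N L F).app U ((Tens.mapT (Tens.swapHom L N) (𝟙 F)).app U
    ((Tens.assocInv L N F).app U ((Tens.mapT (𝟙 L) (mulS s F)).app U (Tens.tmul l f)))) =
      (mulS s (CohB1.tensorMod L F)).app U (Tens.tmul l f)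
  rw [Tens.mapT_tmul, mulS_app, mulS_app]
  change (Tens.assocHom N L F).app U ((Tens.mapT (Tens.swapHom L N) (𝟙 F)).app U
    ((Tens.assocInv L N F).app U (Tens.tmul l (Tens.tmul (sec s U) f)))) = Tens.tmul (sec s U) (Tens.tmul l f)
  rw [Tens.assocInv_tmul, Tens.mapT_tmul, Tens.swapHom_tmul]
  exact Tens.assocHom_tmul _ _ _

variable (hL : PicF.IsInvertible L)

/-- Twists of regular multiplications. -/
theorem mono_cok_twist (hL : PicF.IsInvertible L) (F : X.Modules) (h : Mono (mulS s F)) :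
    Mono (mulS s (CohB1.tensorMod L F)) ∧
    Nonempty (cokernel (mulS s (CohB1.tensorMod L F)) ≅ CohB1.tensorMod L (cokernel (mulS s F))) := by
  let S := ShortComplex.mk (mulS s F) (cokernel.π (mulS s F)) (cokernel.condition _)
  have hS : S.ShortExact :=
    { exact := ShortComplex.exact_of_g_is_cokernel _ (cokernelIsCokernel _)
      mono_f := h
      epi_g := inferInstanceAs (Epi (cokernel.π (mulS s F))) }
  have hT : (S.map (DCoh.tensorBi.obj L)).ShortExact := TwistCoh.shortExact_tensorBi hL S hS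
  have m1 : Mono (tm L (mulS s F)) := hT.mono_f
  constructor
  · rw [← mulS_twist]
    exact mono_comp' m1 inferInstance
  · have := hT.epi_g
    let e1 : cokernel (tm L (mulS s F)) ≅ (S.map (DCoh.tensorBi.obj L)).X₃ :=
      (cokernelIsCokernel _).coconePointUniqueUpToIso hT.gIsCokernel
    let e2 : cokernel (tm L (mulS s F)) ≅ cokernel (mulS s (CohB1.tensorMod L F)) :=
      cokernel.mapIso _ _ (Iso.refl _) (twIso (N := N) L F) (by rw [mulS_twist]; exact (Category.id_comp _).symm)
    exact ⟨e2.symm ≪≫ e1⟩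

end twist

theorem reg_smul {c : MC X} (h : Reg s c) (u : (MC X)ˣ) : Reg s (u • c) := by
  obtain ⟨L, hL, hu⟩ := exists_invertible u
  rw [smul_def, ← hu]
  induction c using MC.ind with | h F => ?_
  rw [← mc_tensor]
  exact (mono_cok_twist s hL F h).1

theorem cutC_smul {c : MC X} (h : Reg s c) (u : (MC X)ˣ) : cutC s (u • c) = u • cutC s c := by
  obtain ⟨L, hL, hu⟩ := exists_invertible u
  rw [smul_def, smul_def, ← hu]
  induction c using MC.ind with | h F => ?_
  rw [← mc_tensor, cutC_mc, cutC_mc, ← mc_tensor]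
  exact mc_eq (mono_cok_twist s hL F h).2.some

/-- The defining sequence of the cut. -/
theorem ses_cut [IsLocallyNoetherian X] (hN : PicF.IsInvertible N) {c : MC X} (hc : Co c) (h : Reg s c) :
    Ses c (unit hN • c) (cutC s c) := by
  induction c using MC.ind with | h F => ?_
  have : Mono (mulS s F) := h
  rw [unit_smul, cutC_mc]
  exact Ses.of_mono (mulS s F) hc (SnapperTwist.isCoh_tensor' hN hc)

/-- Cutting a short exact sequence. -/
theorem ses_cutC [IsLocallyNoetherian X] (hN : PicF.IsInvertible N) {a b c : MC X} (hs : Ses a b c) (hb : Reg s b)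
    (hc : Reg s c) : Reg s a ∧ Ses (cutC s a) (cutC s b) (cutC s c) := by
  obtain ⟨S, hS, h1, h2, h3, rfl, rfl, rfl⟩ := hs
  have m2 : Mono (mulS s S.X₂) := hb
  have m3 : Mono (mulS s S.X₃) := hc
  have := hS.mono_f
  have m1 : Mono (mulS s S.X₁) := mono_mulS_of_mono s S.f m2
  refine ⟨m1, ?_⟩
  have hT : (S.map (DCoh.tensorBi.obj N)).ShortExact := TwistCoh.shortExact_tensorBi hN S hS
  have m3' : Mono (mulSC s S).τ₃ := m3
  obtain ⟨U, hU, ⟨e1⟩, ⟨e2⟩, ⟨e3⟩⟩ := exists_shortExact_cokernel hS hT (mulSC s S)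
  have c1 : Coh.IsCoh (cokernel (mulS s S.X₁)) :=
    Sga67.CohBasic.isCoh_cokernel _ h1.1 (SnapperTwist.isCoh_tensor' hN h1)
  have c2 : Coh.IsCoh (cokernel (mulS s S.X₂)) :=
    Sga67.CohBasic.isCoh_cokernel _ h2.1 (SnapperTwist.isCoh_tensor' hN h2)
  have c3 : Coh.IsCoh (cokernel (mulS s S.X₃)) :=
    Sga67.CohBasic.isCoh_cokernel _ h3.1 (SnapperTwist.isCoh_tensor' hN h3)
  exact ⟨U, hU, Sga67.CohBasic.isCoh_of_iso e1.symm c1, Sga67.CohBasic.isCoh_of_iso e2.symm c2,
    Sga67.CohBasic.isCoh_of_iso e3.symm c3, mc_eq e1, mc_eq e2, mc_eq e3⟩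

/-- Coherence of the cut. -/
theorem co_cutC [IsLocallyNoetherian X] (hN : PicF.IsInvertible N) {c : MC X} (hc : Co c) : Co (cutC s c) := by
  induction c using MC.ind with | h F => ?_
  exact Sga67.CohBasic.isCoh_cokernel _ hc.1 (SnapperTwist.isCoh_tensor' hN hc)

/-- The support of the cut. -/
theorem supp_cutC (hN : PicF.IsInvertible N) {c : MC X} (hc : Co c) :
    supp (cutC s c) = supp c \ CohB1.genLocus N s := by
  induction c using MC.ind with | h F => ?_
  exact support_cokernel_mulS s F hN hc.2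

/-- Regularity from associated points. -/
theorem reg_of_ass [IsLocallyNoetherian X] (hN : PicF.IsInvertible N) {F : X.Modules} (hF : Coh.IsCoh F)
    (h : AssSch.Ass F ⊆ CohB1.genLocus N s) : Reg s (mc F) :=
  mulS_mono s F hF (Sga67.CohBasic.isCoh_kernel _ hF (SnapperTwist.isCoh_tensor' hN hF).1).1 h

end K526.Cut
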