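import Groth.Agent.Dcoh.FreeSec
import Groth.Agent.CurvesB.HZero
import Groth.Agent.Fga.PicMon
import Groth.Prelude.Def_FlatMod2
/-!
# The kernel of the evaluation map

Two maps from free modules to `N` which are bijective on global sections differ by an isomorphism of the sources.
-/

set_option autoImplicit false
universe u
open CategoryTheory CategoryTheory.Limits AlgebraicGeometry
open Groth.Agent Groth.Agent.Fga.PicMon

namespace K526.EvalKer

open Groth.Agent.Dcoh.FreeSec Groth.Agent.CurvesB.HZero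

variable {X : Scheme.{u}}

/-- The free module. -/
noncomputable abbrev fj (X : Scheme.{u}) (J : Type u) : X.Modules := SheafOfModules.free J

/-- The basis sections. -/
noncomputable def bs {J : Type u} (j : J) : Γ(fj X J, ⊤) :=
  (Scheme.Modules.Hom.app (M := Coh.structureModule X) (N := fj X J)
    (SheafOfModules.ιFree j) ⊤) (one X)

theorem free_hom_ext {J : Type u} {M : X.Modules} (f g : fj X J ⟶ M)
    (h : ∀ j, f.app ⊤ (bs j) = g.app ⊤ (bs j)) : f = g := by
  refine Cofan.IsColimit.hom_ext (SheafOfModules.isColimitFreeCofan J) _ _ fun j => ?_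
  exact hom_unit_ext _ _ (h j)

theorem exists_free_hom {J : Type u} {M : X.Modules} (m : J → Γ(M, ⊤)) :
    ∃ f : fj X J ⟶ M, ∀ j, f.app ⊤ (bs j) = m j := by
  let f : fj X J ⟶ M :=
    Cofan.IsColimit.desc (SheafOfModules.isColimitFreeCofan J) (fun j => ofSec M (m j))
  refine ⟨f, fun j => ?_⟩
  have h1 : (SheafOfModules.freeCofan J).inj j ≫ f = ofSec M (m j) :=
    Cofan.IsColimit.fac (SheafOfModules.isColimitFreeCofan J) (fun j => ofSec M (m j)) j
  have h2 := congrArg (fun φ => Scheme.Modules.Hom.app (M := Coh.structureModule X) (N := M) φ ⊤ (one X)) h1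
  exact h2.trans (ofSec_app_one M (m j))

variable {N : X.Modules}

theorem exists_iso {J J' : Type u} (ev : fj X J ⟶ N)
    (ev' : fj X J' ⟶ N) (h : Function.Bijective (ev.app ⊤))
    (h' : Function.Bijective (ev'.app ⊤)) :
    ∃ e : fj X J ≅ fj X J', e.hom ≫ ev' = ev := by
  choose s hs using fun j : J => h'.2 (ev.app ⊤ (bs j))
  choose s' hs' using fun j : J' => h.2 (ev'.app ⊤ (bs j))
  obtain ⟨f, hf⟩ := exists_free_hom s
  obtain ⟨f', hf'⟩ := exists_free_hom s'
  have e1 : f ≫ ev' = ev := free_hom_ext _ _ fun j => by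
    change ev'.app ⊤ (f.app ⊤ (bs j)) = _
    rw [hf, hs]
  have e2 : f' ≫ ev = ev' := free_hom_ext _ _ fun j => by
    change ev.app ⊤ (f'.app ⊤ (bs j)) = _
    rw [hf', hs']
  refine ⟨⟨f, f', free_hom_ext _ _ fun j => h.1 ?_, free_hom_ext _ _ fun j => h'.1 ?_⟩, e1⟩
  · change ((f ≫ f') ≫ ev).app ⊤ (bs j) = _
    rw [Category.assoc, e2, e1]
    rfl
  · change ((f' ≫ f) ≫ ev').app ⊤ (bs j) = _
    rw [Category.assoc, e1, e2]
    rfl

/-- `freeMod X r` is free on a set of `r` elements. -/
noncomputable def freeIso (X : Scheme.{u}) (r : ℕ) :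
    FlatMod.freeMod X r ≅ fj X (ULift.{u} (Fin r)) :=
  Limits.Sigma.whiskerEquiv (C := X.Modules) (f := fun _ : Fin r => Coh.structureModule X)
    (g := fun _ : ULift.{u} (Fin r) => Coh.structureModule X) Equiv.ulift.symm (fun _ => Iso.refl _)

/-- **Comparison with the evaluation map.** -/
theorem main {J : Type u} (ev : fj X J ⟶ N) [Epi ev]
    (hev : Function.Bijective (Sheaf.H.map ((SheafOfModules.toSheaf X.ringCatSheaf).map ev) 0))
    {F : X.Modules} {r : ℕ} (e : F ≅ FlatMod.freeMod X r) (π : F ⟶ N)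
    (hπ : Function.Bijective (π.app ⊤)) : Epi π ∧ mc (kernel π) = mc (kernel ev) := by
  have h : Function.Bijective (ev.app ⊤) := by
    have h1 : ∀ x, ev.app ⊤ (equivAdd _ x) = equivAdd _ (Sheaf.H.map ((SheafOfModules.toSheaf X.ringCatSheaf).map ev) 0 x) :=
      fun x => (equivAdd_map (X := X) ev x).symm
    constructor
    · intro a b hab
      obtain ⟨x, rfl⟩ := (equivAdd _).surjective a
      obtain ⟨y, rfl⟩ := (equivAdd _).surjective b
      rw [h1, h1] at hab
      rw [hev.1 ((equivAdd _).injective hab)]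
    · intro a
      obtain ⟨x, rfl⟩ := (equivAdd _).surjective a
      obtain ⟨y, rfl⟩ := hev.2 x
      exact ⟨equivAdd _ y, h1 y⟩
  let e2 : F ≅ fj X (ULift.{u} (Fin r)) := e ≪≫ freeIso X r
  have h2 : Function.Bijective ((e2.inv ≫ π).app ⊤) := by
    have h3 : Function.Bijective (e2.inv.app ⊤) := by
      rw [← ConcreteCategory.isIso_iff_bijective]
      infer_instance
    exact hπ.comp h3
  obtain ⟨e3, he3⟩ := exists_iso ev (e2.inv ≫ π) h h2
  have h4 : (e3.hom ≫ e2.inv) ≫ π = ev := by rw [Category.assoc, he3]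
  have h5 : Epi ((e3.hom ≫ e2.inv) ≫ π) := by rw [h4]; infer_instance
  refine ⟨epi_of_epi (e3.hom ≫ e2.inv) π, mc_eq ?_⟩
  let i : F ≅ fj X J := (e3 ≪≫ e2.symm).symm
  have h6 : π = i.hom ≫ ev := by
    change π = (e2.hom ≫ e3.inv) ≫ ev
    rw [← h4]
    simp
  rw [h6]
  exact kernelIsIsoComp i.hom ev

end K526.EvalKer
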