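import Groth.Agent.AbVar.K526.PullM
import Groth.Agent.AbVar.K526.Ctx
import Groth.Agent.FormalB.HMod
/-!
# Cohomology of direct sums: `h^i(O^r ⊗ c) = r h^i(c)`
-/

set_option autoImplicit false
universe u
open CategoryTheory CategoryTheory.Limits AlgebraicGeometry
open Groth.Agent Groth.Agent.Fga.PicMon Groth.Agent.Fga Groth.Agent.Pic13.H11.Cls

namespace K526.PullM

open Cut

variable (k : Type u) [Field k] {X : Scheme.{u}} [X.Over (Spec (CommRingCat.of k))] [IsProper (X ↘ Spec (CommRingCat.of k))]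

theorem h_biprod {F G : X.Modules} (hF : Coh.IsCoh F) (hG : Coh.IsCoh G) (i : ℕ) :
    h k i (mc (F ⊞ G)) = h k i (mc F) + h k i (mc G) := by
  let T := FormalB.HMod.HM k X i
  have : PreservesBinaryBiproducts T := preservesBinaryBiproducts_of_preservesBiproducts T
  let e : T.obj (F ⊞ G) ≅ ModuleCat.of k (T.obj F × T.obj G) := T.mapBiprod F G ≪≫ ModuleCat.biprodIsoProd _ _
  have f1 : Module.Finite k (T.obj F) := HodgeSec.finite_HH' k hF i
  have f2 : Module.Finite k (T.obj G) := HodgeSec.finite_HH' k hG i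
  have h1 : Module.finrank k (T.obj (F ⊞ G)) = Module.finrank k (T.obj F × T.obj G) := e.toLinearEquiv.finrank_eq
  rw [Module.finrank_prod] at h1
  exact h1

omit [X.Over (Spec (CommRingCat.of k))] [IsProper (X ↘ Spec (CommRingCat.of k))] in
theorem mc_fr_succ_mul {X : Scheme.{u}} (r : ℕ) (F : X.Modules) :
    fr X (r + 1) * mc F = mc (CohB1.tensorMod (FlatMod.freeMod X r) F ⊞ F) := by
  have hadd : (DCoh.tensorBi.flip.obj F).Additive := ⟨fun {A B f g} => by
    change ((DCoh.tensorBi.map (f + g)).app F) = _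
    rw [Functor.map_add]
    rfl⟩
  have : PreservesBinaryBiproducts (DCoh.tensorBi.flip.obj F) := preservesBinaryBiproducts_of_preservesBiproducts _
  rw [fr, ← mc_tensor]
  have e1 : CohB1.tensorMod (FlatMod.freeMod X (r + 1)) F ≅
      CohB1.tensorMod (FlatMod.freeMod X r ⊞ FlatMod.freeMod X 1) F :=
    Ega2.Tens.mapTIso (Dcoh.ResFree.freeModAdd r 1).symm (Iso.refl F)
  have e2 : CohB1.tensorMod (FlatMod.freeMod X r ⊞ FlatMod.freeMod X 1) F ≅
      CohB1.tensorMod (FlatMod.freeMod X r) F ⊞ CohB1.tensorMod (FlatMod.freeMod X 1) F :=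
    (DCoh.tensorBi.flip.obj F).mapBiprod _ _
  have e3 : CohB1.tensorMod (FlatMod.freeMod X 1) F ≅ F :=
    Ega2.Tens.mapTIso (Ega2.QCohLocal.freeModOneIso X).symm (Iso.refl F) ≪≫ Ega2.Tens.lunit F
  exact mc_eq (e1 ≪≫ e2 ≪≫ biprod.mapIso (Iso.refl _) e3)

omit [X.Over (Spec (CommRingCat.of k))] [IsProper (X ↘ Spec (CommRingCat.of k))] in
theorem fr_zero_mul {X : Scheme.{u}} (c : MC X) : fr X 0 * c = fr X 0 := by
  induction c using MC.ind with | h F => ?_
  have hadd : (DCoh.tensorBi.flip.obj F).Additive := ⟨fun {A B f g} => by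
    change ((DCoh.tensorBi.map (f + g)).app F) = _
    rw [Functor.map_add]
    rfl⟩
  have h1 : fr X 0 * mc F = mc (CohB1.tensorMod (FlatMod.freeMod X 0) F) := (mc_tensor _ _).symm
  rw [eq_zero_iff h1]
  exact (DCoh.tensorBi.flip.obj F).map_isZero Dcoh.ResFree.freeMod_zero_isZero

omit [X.Over (Spec (CommRingCat.of k))] [IsProper (X ↘ Spec (CommRingCat.of k))] in
theorem co_fr_mul {X : Scheme.{u}} [IsLocallyNoetherian X] {c : MC X} (hc : Co c) (r : ℕ) : Co (fr X r * c) := by
  induction c using MC.ind with | h F => ?_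
  induction r with
  | zero => rw [fr_zero_mul]; exact co_fr 0
  | succ r ih =>
    rw [mc_fr_succ_mul]
    exact Sga67.CohBasic.isCoh_biprod ih hc

/-- `h^i(O^r ⊗ c) = r h^i(c)`. -/
theorem h_fr_mul {c : MC X} (hc : Co c) (r i : ℕ) : h k i (fr X r * c) = r * h k i c := by
  have := IntAdd.isNoetherian k X
  induction c using MC.ind with | h F => ?_
  induction r with
  | zero => rw [fr_zero_mul, zero_mul, h_eq_zero k (V_zero i)]
  | succ r ih =>
    have h1 : Coh.IsCoh (CohB1.tensorMod (FlatMod.freeMod X r) F) := co_fr_mul (c := mc F) hc r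
    rw [mc_fr_succ_mul, h_biprod k h1 hc, mc_tensor]
    change h k i (fr X r * mc F) + _ = _
    rw [ih]
    ring

variable (P0 : Subgroup (MC X)ˣ)

/-- `hgen^i(O^r ⊗ c) = r hgen^i(c)`. -/
theorem hg_fr_mul {c : MC X} (hc : Co c) (r i : ℕ) : hg k P0 i (fr X r * c) = r * hg k P0 i c := by
  have key : ∀ u : (MC X)ˣ, h k i (u • (fr X r * c)) = r * h k i (u • c) := by
    intro u
    rw [smul_def, mul_left_comm, ← smul_def, h_fr_mul k (hc.smul u)]
  refine le_antisymm ?_ ?_
  · obtain ⟨u, hu, h1⟩ := exists_hg k P0 i c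
    rw [← h1, ← key]
    exact hg_le k P0 i _ hu
  · obtain ⟨u, hu, h1⟩ := exists_hg k P0 i (fr X r * c)
    rw [← h1, key]
    exact Nat.mul_le_mul_left _ (hg_le k P0 i _ hu)

end K526.PullM
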