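import Groth.Agent.AbVar.K526.Cut
import Groth.Agent.Dcoh.ResFree
import Groth.Agent.Ega2.QCohLocal
import Groth.Agent.CurvesC.UnitCoh
import Groth.Agent.Fga.IntNum0
/-!
# Free modules and their cuts, on classes
-/

set_option autoImplicit false
universe u
open CategoryTheory CategoryTheory.Limits AlgebraicGeometry
open Groth.Agent Groth.Agent.Fga.PicMon Groth.Agent.Fga Groth.Agent.Pic13.H11.Cls Groth.Agent.Fga.RegSec

namespace K526.Cut

variable {X : Scheme.{u}} {N : X.Modules} (s : Coh.structureModule X ⟶ N)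

/-- The class of a free module. -/
noncomputable def fr (X : Scheme.{u}) (r : ℕ) : MC X := mc (FlatMod.freeMod X r)

theorem co_one [IsLocallyNoetherian X] : Co (1 : MC X) := by
  rw [← mc_one]
  exact CurvesC.UnitCoh.isCoh_unit X

theorem co_fr [IsLocallyNoetherian X] (r : ℕ) : Co (fr X r) := PerfA.CohSerre.isCoh_freeMod r

theorem ses_fr [IsLocallyNoetherian X] (r : ℕ) : Ses (fr X r) (fr X (r + 1)) 1 := by
  let S : ShortComplex X.Modules := ShortComplex.mk (biprod.inl : FlatMod.freeMod X r ⟶ FlatMod.freeMod X r ⊞ FlatMod.freeMod X 1)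
    biprod.snd biprod.inl_snd
  have hS : S.ShortExact := (ShortComplex.Splitting.ofHasBinaryBiproduct (FlatMod.freeMod X r) (FlatMod.freeMod X 1)).shortExact
  refine ⟨S, hS, co_fr r, ?_, co_fr 1, rfl, ?_, ?_⟩
  · exact Sga67.CohBasic.isCoh_of_iso (Dcoh.ResFree.freeModAdd r 1).symm (co_fr (r + 1))
  · exact mc_eq (Dcoh.ResFree.freeModAdd r 1)
  · rw [← mc_one]
    exact mc_eq (Ega2.QCohLocal.freeModOneIso X).symm

/-- Regularity in the middle of a short exact sequence. -/
theorem reg_mid (hN : PicF.IsInvertible N) {a b c : MC X} (hs : Ses a b c) (ha : Reg s a) (hc : Reg s c) : Reg s b := by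
  obtain ⟨S, hS, -, -, -, rfl, rfl, rfl⟩ := hs
  have m1 : Mono (mulSC s S).τ₁ := ha
  have m3 : Mono (mulSC s S).τ₃ := hc
  have := hS.mono_f
  have hT : (S.map (DCoh.tensorBi.obj N)).ShortExact := TwistCoh.shortExact_tensorBi hN S hS
  have := hT.mono_f
  exact ShortComplex.mono_τ₂_of_exact_of_mono (mulSC s S) hS.exact

theorem reg_fr [IsLocallyNoetherian X] (hN : PicF.IsInvertible N) (h : Reg s 1) (r : ℕ) : Reg s (fr X r) := by
  induction r with
  | zero =>
    have hz : IsZero (FlatMod.freeMod X 0) := Dcoh.ResFree.freeMod_zero_isZero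
    exact ⟨fun a b _ => hz.eq_of_tgt _ _⟩
  | succ r ih => exact reg_mid s hN (ses_fr r) ih h

theorem ses_smul_fr [IsLocallyNoetherian X] (w : (MC X)ˣ) (r : ℕ) : Ses (w • fr X r) (w • fr X (r + 1)) w := by
  have := (ses_fr (X := X) r).smul w
  rwa [smul_one'] at this

variable (k : Type u) [Field k] [X.Over (Spec (CommRingCat.of k))] [IsProper (X ↘ Spec (CommRingCat.of k))]

/-- Cohomology of the cut of a twist of a free module. -/
theorem h_cut_fr [IsLocallyNoetherian X] (hN : PicF.IsInvertible N) (h1 : Reg s 1) (w : (MC X)ˣ) (j r : ℕ) :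
    h k j (cutC s (w • fr X r)) ≤ r * h k j (cutC s (w : MC X)) := by
  have hw : Reg s (w : MC X) := by
    have := reg_smul s h1 w
    rwa [smul_one'] at this
  induction r with
  | zero =>
    have hz : IsZero (FlatMod.freeMod X 0) := Dcoh.ResFree.freeMod_zero_isZero
    have hz' : cutC s (w • fr X 0) = mc (FlatMod.freeMod X 0) := by
      rw [cutC_smul s (reg_fr s hN h1 0), fr, cutC_mc]
      obtain ⟨L, hL, hu⟩ := exists_invertible w
      rw [smul_def, ← hu, ← mc_tensor]
      refine mc_eq (IsZero.iso ?_ hz)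
      have h2 : IsZero (CohB1.tensorMod N (FlatMod.freeMod X 0)) := Functor.map_isZero (DCoh.tensorBi.obj N) hz
      have h3 : IsZero (cokernel (mulS s (FlatMod.freeMod X 0))) :=
        IsZero.of_epi_eq_zero (cokernel.π _) (h2.eq_of_src _ _)
      exact Functor.map_isZero (DCoh.tensorBi.obj L) h3
    have : Subsingleton (Coh.HH X (FlatMod.freeMod X 0) j) := IntNum0.HH_subsingleton_of_isZero hz j
    rw [hz', h_mc, zero_mul]
    exact (Module.finrank_zero_of_subsingleton).le
  | succ r ih =>
    have h2 := (ses_cutC s hN (ses_smul_fr w r) (reg_smul s (reg_fr s hN h1 (r + 1)) w) hw).2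
    have h3 := h2.h_le k j
    calc _ ≤ _ := h3
      _ ≤ r * h k j (cutC s (w : MC X)) + h k j (cutC s (w : MC X)) := by gcongr
      _ = _ := by ring

end K526.Cut
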