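import Groth.Agent.Coherent.K54.CxAlg
import Groth.Agent.Ega3B.Package
import Groth.Agent.Ega3B.SpecPoint
import Groth.Agent.Dcoh.DerSch
import Groth.Agent.CohqB.DevSupport
/-!
# Vanishing of the cohomology of the fibre from the vanishing of the higher direct images above a degree

`fiberRank_eq_zero`: `f : X ⟶ Y` proper, `F` coherent and flat over `Y`, `y` outside the supports of `R^j f_* F` for all
`j ≥ i`, and `R^j f_* F = 0` for large `j`.  Then `H^j(X_y, F_y) = 0` for `j ≥ i`.
-/

set_option autoImplicit false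
universe u
open CategoryTheory CategoryTheory.Limits AlgebraicGeometry TopologicalSpace
open Groth.Agent Groth.Agent.Ega3A.FiberRank Groth.Agent.Ega3A.DRank Groth.Agent.Ega3A.TFunFlat
open Groth.Agent.Ega3A.FlatSES Groth.Agent.Ega3B.SpecPoint

namespace K526.TopBC

section alg

variable {A : Type u} [CommRing A] (P : ChainComplex (ModuleCat.{u} A) ℤ)
  (hP : ∀ i, Module.Finite A (P.X i) ∧ Module.Projective A (P.X i))

include hP in
theorem projective_step (i j : ℤ) (hij : j + 1 = i) (h0 : IsZero (P.homology i))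
    (h : Module.Projective A (P.opcycles j)) : Module.Projective A (P.opcycles i) := by
  have hrel : (ComplexShape.down ℤ).Rel i j := hij
  have hPj := (hP j).2
  have h4 := exact_homologyι_fromOpcycles P i j ((ComplexShape.down ℤ).next_eq' hrel)
  have hsub : Subsingleton (P.homology i) := ModuleCat.subsingleton_of_isZero h0
  have hinj : Function.Injective (P.fromOpcycles i j).hom := by
    rw [injective_iff_map_eq_zero]
    intro x hx
    obtain ⟨y, rfl⟩ := (h4 x).mp hx
    rw [Subsingleton.elim y 0, map_zero]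
  have hex2 := exact_fromOpcycles_pOpcycles P i j ((ComplexShape.down ℤ).prev_eq' hrel)
  obtain ⟨s, hs⟩ := Module.projective_lifting_property (P.pOpcycles j).hom LinearMap.id
    (pOpcycles_surjective P j)
  have hs' : ∀ x, (P.pOpcycles j).hom (s x) = x := fun x => LinearMap.congr_fun hs x
  let e := LinearEquiv.ofInjective (P.fromOpcycles i j).hom hinj
  let q : P.X j →ₗ[A] LinearMap.range (P.fromOpcycles i j).hom :=
    LinearMap.codRestrict _ (LinearMap.id - s ∘ₗ (P.pOpcycles j).hom) fun x => by
      refine (hex2 _).mp ?_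
      change (P.pOpcycles j).hom (x - s ((P.pOpcycles j).hom x)) = 0
      rw [map_sub, hs', sub_self]
  refine Module.Projective.of_split (P.fromOpcycles i j).hom (e.symm.toLinearMap ∘ₗ q) ?_
  ext x
  apply e.injective
  change e (e.symm (q ((P.fromOpcycles i j).hom x))) = e x
  rw [e.apply_symm_apply]
  apply Subtype.ext
  change (P.fromOpcycles i j).hom x - s ((P.pOpcycles j).hom ((P.fromOpcycles i j).hom x)) = (P.fromOpcycles i j).hom x
  rw [(hex2 _).mpr ⟨x, rfl⟩, map_zero, sub_zero]

include hP in
/-- A complex of finite projective modules which is exact in degrees `≤ m` is exact there on the fibres. -/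
theorem dRank_eq_zero (b : ℤ) (hb : ∀ i, i < b → IsZero (P.X i)) (m : ℤ) (hH : ∀ n, n ≤ m → IsZero (P.homology n))
    (n : ℤ) (hn : n ≤ m) (x : PrimeSpectrum A) : CohIII.dRank P n x = 0 := by
  have hlow : ∀ n, n < b → Module.Projective A (P.opcycles n) := by
    intro n hn
    have h1 : IsZero (P.opcycles n) := by
      rw [IsZero.iff_id_eq_zero, ← cancel_epi (P.pOpcycles n)]
      exact (hb n hn).eq_of_src _ _
    have : Subsingleton (P.opcycles n) := ModuleCat.subsingleton_of_isZero h1
    infer_instance
  have key : ∀ t : ℕ, ∀ n, n < b + t → n ≤ m → Module.Projective A (P.opcycles n) := by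
    intro t
    induction t with
    | zero => exact fun n hn _ => hlow n (by simpa using hn)
    | succ t ih =>
      intro n hn hm
      exact projective_step P hP n (n - 1) (by ring) (hH n hm) (ih (n - 1) (by push_cast at hn; omega) (by omega))
  have hpr : ∀ n, n ≤ m → Module.Projective A (P.opcycles n) := fun n hn =>
    key (n - b + 1).toNat n (by have := Int.self_le_toNat (n - b + 1); omega) hn
  obtain ⟨-, -, h3⟩ := K54.CxAlg.finite_projective_homology P hP n (n - 1) (by ring) (hpr n hn) (hpr (n - 1) (by omega))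
  have hsub : Subsingleton (P.homology n) := ModuleCat.subsingleton_of_isZero (hH n hn)
  rw [← h3 x]
  have h5 : Module.rankAtStalk (R := A) (P.homology n) = 0 := Module.rankAtStalk_eq_zero_of_subsingleton
  rw [h5]
  rfl

end alg

/-- Sections over an open set disjoint from the support vanish. -/
theorem subsingleton_sections {X : Scheme.{u}} {M : X.Modules} {V : X.Opens}
    (h : ∀ x ∈ V, x ∉ CohB1.support M) : Subsingleton Γ(M, V) := by
  refine subsingleton_of_forall_eq 0 fun s => ?_
  refine TopCat.Presheaf.section_ext (Coh.toAb M) V s 0 fun y hy => ?_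
  have h1 : Subsingleton (M.presheaf.stalk y) := not_not.mp (h y hy)
  exact @Subsingleton.elim _ h1 _ _

/-- **Vanishing on the fibre from vanishing of the direct images above a degree.** -/
theorem fiberRank_eq_zero {X Y : Scheme.{u}} (f : X ⟶ Y) [IsProper f] [IsLocallyNoetherian Y]
    [HasInjectiveResolutions X.Modules] (F : X.Modules)
    (hF : Coh.IsCoh F) (hfl : FlatMod.IsFlatOver f F) (i N : ℕ) (hN : ∀ j, N < j → IsZero ((Coh.Rpush f j).obj F))
    (hcl : ∀ j, IsClosed (CohB1.support ((Coh.Rpush f j).obj F))) (y : Y)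
    (hy : ∀ j, i ≤ j → y ∉ CohB1.support ((Coh.Rpush f j).obj F)) (j : ℕ) (hj : i ≤ j) :
    CohIII.fiberRank f F j y = 0 := by
  let U : Y.Opens := ⟨⋂ j ∈ Finset.Icc i N, (CohB1.support ((Coh.Rpush f j).obj F))ᶜ,
    isOpen_biInter_finset fun j _ => isOpen_compl_iff.mpr (hcl j)⟩
  have hyU : y ∈ U := by
    change y ∈ ⋂ j ∈ Finset.Icc i N, (CohB1.support ((Coh.Rpush f j).obj F))ᶜ
    simp only [Set.mem_iInter, Set.mem_compl_iff]
    exact fun j hj => hy j (Finset.mem_Icc.mp hj).1
  obtain ⟨V, hV, hyV, hVU⟩ := exists_isAffineOpen_mem_and_subset (X := Y) (x := y) (U := U) hyU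
  have hNo := isNoetherianRing hV
  obtain ⟨P, hP, ⟨b, hb⟩, hH, hr⟩ := Ega3B.Package.package f F hF hfl V hV
  have hP' : ∀ i, Module.Finite Γ(Y, V) (P.X i) ∧ Module.Projective Γ(Y, V) (P.X i) := fun i => by
    have h1 := (hP i).1
    have h2 := (hP i).2
    have : Module.FinitePresentation Γ(Y, V) (P.X i) := Module.finitePresentation_of_finite _ _
    exact ⟨h1, Module.Flat.projective_of_finitePresentation⟩
  have hsub : ∀ p : ℕ, i ≤ p → IsZero (P.homology (-(p : ℤ))) := by
    intro p hp
    obtain ⟨e⟩ := hH p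
    have h1 : Subsingleton Γ((Coh.Rpush f p).obj F, V) := by
      refine subsingleton_sections fun x hx hxs => ?_
      by_cases hpN : p ≤ N
      · have h2 : x ∈ U := hVU hx
        change x ∈ ⋂ j ∈ Finset.Icc i N, (CohB1.support ((Coh.Rpush f j).obj F))ᶜ at h2
        simp only [Set.mem_iInter, Set.mem_compl_iff] at h2
        exact h2 p (Finset.mem_Icc.mpr ⟨hp, hpN⟩) hxs
      · have h3 := CohqB.DevSupport.support_eq_empty_of_isZero (hN p (by omega))
        rw [h3] at hxs
        exact hxs
    have h4 : Subsingleton (P.homology (-(p : ℤ))) := e.symm.toEquiv.subsingleton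
    exact ModuleCat.isZero_of_subsingleton _
  rw [(hr ⟨y, hyV⟩ j).2]
  refine dRank_eq_zero P hP' b (fun n hn => hb n (Or.inl hn)) (-(i : ℤ)) (fun n hn => ?_) _ (by omega) _
  obtain ⟨p, rfl⟩ : ∃ p : ℕ, n = -(p : ℤ) := ⟨(-n).toNat, by omega⟩
  exact hsub p (by omega)

end K526.TopBC
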