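import Groth.Agent.AbVar.K526.Rows
import Groth.Agent.AbVar.K526.TopBC
import Groth.Agent.CycA.IntLocal
/-!
# Growth of rank functions to the left of a rational point, and supports of transforms
-/

set_option autoImplicit false
universe u
open CategoryTheory CategoryTheory.Limits MonoidalCategory CartesianMonoidalCategory AlgebraicGeometry
open scoped MonObj
open Groth.Agent Groth.Agent.Fga.PicMon Groth.Agent.Fga Groth.Agent.Pic13.H11.Cls Groth.Agent.Pic13.H11.NumU
  Groth.Agent.Grpsch.PicGrp Groth.Agent.Grpsch.Cube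

namespace K526.GVGrow

open Cut PullM K518.Phi _root_.K526.Prod Core Fam Inst _root_.K526.Neg HilbDeg _root_.K526.Trans K526.Rows
open K527.Bridge (Phi)

/-- The codimension of a closed set through the dimensions of the local rings. -/
theorem stalk_iff {k : Type u} [Field k] {X : Scheme.{u}} [IsIntegral X] (f : X ⟶ Spec (CommRingCat.of k))
    [LocallyOfFiniteType f] {g : ℕ} (hg : topologicalKrullDim X = g) {S : Set X} (hS : IsClosed S) (m : ℕ) :
    (∀ y ∈ S, (m : WithBot ℕ∞) ≤ ringKrullDim (X.presheaf.stalk y)) ↔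
      topologicalKrullDim S + (m : WithBot ℕ∞) ≤ (g : WithBot ℕ∞) := by
  have key : ∀ y : X, ∃ a t : ℕ, ringKrullDim (X.presheaf.stalk y) = a ∧
      topologicalKrullDim (closure {y} : Set X) = t ∧ a + t = g := by
    intro y
    obtain ⟨a, t, n, h1, -, h3, h4, h5⟩ := CycA.IntLocal.exists_dims f y
    rw [hg] at h4
    exact ⟨a, t, h1, h3, h5.trans (by exact_mod_cast h4.symm)⟩
  constructor
  · intro h
    rcases isEmpty_or_nonempty S with he | hne
    · rw [dim_eq_bot he, WithBot.bot_add]
      exact bot_le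
    · have hmg : m ≤ g := by
        obtain ⟨a, t, h1, h2, h3⟩ := key hne.some.1
        have h4 := h _ hne.some.2
        rw [h1] at h4
        have h5 : m ≤ a := by exact_mod_cast h4
        omega
      have h1 : topologicalKrullDim S ≤ ((g - m : ℕ) : WithBot ℕ∞) := by
        refine K284.TopDim.dim_le_of_forall _ fun p => ?_
        have hcl : IsClosed (Subtype.val '' (p.last : Set S)) :=
          hS.isClosedEmbedding_subtypeVal.isClosedMap _ p.last.isClosed
        have hir : IsIrreducible (Subtype.val '' (p.last : Set S)) :=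
          p.last.isIrreducible.image _ continuous_subtype_val.continuousOn
        obtain ⟨y, hy⟩ := QuasiSober.sober hir hcl
        have hy' : closure {y} = Subtype.val '' (p.last : Set S) := hy
        have hyS : y ∈ S := by
          have : y ∈ Subtype.val '' (p.last : Set S) := hy' ▸ subset_closure (Set.mem_singleton y)
          obtain ⟨z, -, rfl⟩ := this
          exact z.2
        obtain ⟨a, t, h1, h2, h3⟩ := key y
        have h4 := h y hyS
        rw [h1] at h4
        have h5 : m ≤ a := by exact_mod_cast h4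
        have h6 := K284.TopDim.length_le_of_last_subset p (p.last : Set S) le_rfl
        have h7 : (p.last : Set S) = Subtype.val ⁻¹' (Subtype.val '' (p.last : Set S)) :=
          (Set.preimage_image_eq _ Subtype.val_injective).symm
        have h8 : topologicalKrullDim (p.last : Set S) = t := by
          rw [h7, K284.TopDim.dim_preimage_val, ← hy', ← h2]
          have : closure {y} ∩ S = closure {y} :=
            Set.inter_eq_left.mpr (hS.closure_subset_iff.mpr (Set.singleton_subset_iff.mpr hyS))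
          rw [this]
        rw [h8] at h6
        have h9 : p.length ≤ t := by exact_mod_cast h6
        have h10 : p.length ≤ g - m := by omega
        exact_mod_cast h10
      calc topologicalKrullDim S + (m : WithBot ℕ∞) ≤ ((g - m : ℕ) : WithBot ℕ∞) + (m : WithBot ℕ∞) :=
            add_le_add_left h1 _
        _ = (g : WithBot ℕ∞) := by
            have : ((g - m : ℕ) : WithBot ℕ∞) + (m : WithBot ℕ∞) = ((g - m + m : ℕ) : WithBot ℕ∞) := by push_cast; rfl
            rw [this, Nat.sub_add_cancel hmg]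
  · intro h y hy
    obtain ⟨a, t, h1, h2, h3⟩ := key y
    have h4 : topologicalKrullDim (closure {y} : Set X) ≤ topologicalKrullDim S :=
      K284.TopDim.dim_mono (hS.closure_subset_iff.mpr (Set.singleton_subset_iff.mpr hy))
    have h5 := (add_le_add_left h4 (m : WithBot ℕ∞)).trans h
    rw [h2] at h5
    have h6 : t + m ≤ g := by exact_mod_cast h5
    rw [h1]
    exact_mod_cast (by omega : m ≤ a)

variable {k : Type u} [Field k] {A : Over (Spec (CommRingCat.of k))} [GrpObj A] [IsProper A.hom]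
  [GeometricallyIntegral A.hom] [IsAlgClosed k] {g : ℕ}
  {L : A.left.Modules} (hL : CohB1.IsAmple L)
  (H : Ctx k g (toU (mk L hL.1)) (P0 A) (fun b => pm (nn A b).left))
include H

/-- **Growth of the rank function to the left of a rational point.** -/
theorem growth_at {c : MC A.left} (hc : Co c) (i m : ℕ) (a : ℤ) {b : ℕ} (hb : 0 < b) :
    (∃ C ε : ℚ, 0 < ε ∧ ∀ (c' : ℤ) (d : ℕ), 0 < d →
      (a : ℚ) / (b : ℚ) - ε < (c' : ℚ) / (d : ℚ) → (c' : ℚ) / (d : ℚ) < (a : ℚ) / (b : ℚ) →
      (HH k (toU (mk L hL.1)) (P0 A) (fun b => pm (nn A b).left) i c d (c' * d) : ℚ) / (d : ℚ) ^ (2 * g) ≤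
        C * ((a : ℚ) / (b : ℚ) - (c' : ℚ) / (d : ℚ)) ^ m) ↔
      topologicalKrullDim (supp (Ph (mk L hL.1) i (toU (mk L hL.1) ^ (a * b) • pm (nn A b).left c))) +
        (m : WithBot ℕ∞) ≤ (g : WithBot ℕ∞) := by
  have hco : Co (toU (mk L hL.1) ^ (a * b) • pm (nn A b).left c) := (co_pm _ hc).smul _
  rw [← growth_iff hL H hco i m]
  have hb0 : (0 : ℚ) < b := by exact_mod_cast hb
  have hsh := fun y => H.rk_shift (i := i) hc a (b := b) hb y
  have hdiv : ∀ (a : ℤ) (b : ℕ), 0 < b →
      (HH k (toU (mk L hL.1)) (P0 A) (fun b => pm (nn A b).left) i c b (a * b) : ℚ) / (b : ℚ) ^ (2 * g) =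
        rk k g (toU (mk L hL.1)) (P0 A) (fun b => pm (nn A b).left) i c ((a : ℚ) / (b : ℚ)) := fun a b hb =>
    (RankNum.f_div g _ (fun m B n hm hB => H.hom i hc m B n hm hB) a b hb).symm
  constructor
  · rintro ⟨C, ε, hε, h⟩
    refine ⟨C * (b : ℚ) ^ (2 * g) / ((b : ℚ) ^ 2) ^ m, ε * (b : ℚ) ^ 2, by positivity, fun t ht1 ht2 => ?_⟩
    rw [hsh]
    set x : ℚ := (a : ℚ) / b + -t / (b : ℚ) ^ 2 with hx
    have hxd : (0 : ℕ) < x.den := x.den_pos
    have hxe : (x.num : ℚ) / (x.den : ℚ) = x := Rat.num_div_den x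
    have h3 : t / (b : ℚ) ^ 2 < ε := by rw [div_lt_iff₀ (by positivity)]; exact ht2
    have h4 : 0 < t / (b : ℚ) ^ 2 := by positivity
    have h5 : -t / (b : ℚ) ^ 2 = -(t / (b : ℚ) ^ 2) := neg_div _ _
    have h1 := h x.num x.den hxd (by rw [hxe, hx, h5]; linarith) (by rw [hxe, hx, h5]; linarith)
    rw [hdiv _ _ hxd, hxe] at h1
    have h6 : (a : ℚ) / b - x = t / (b : ℚ) ^ 2 := by rw [hx, h5]; ring
    rw [h6, div_pow] at h1
    calc (b : ℚ) ^ (2 * g) * rk k g (toU (mk L hL.1)) (P0 A) (fun b => pm (nn A b).left) i c x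
        ≤ (b : ℚ) ^ (2 * g) * (C * (t ^ m / ((b : ℚ) ^ 2) ^ m)) := mul_le_mul_of_nonneg_left h1 (by positivity)
      _ = C * (b : ℚ) ^ (2 * g) / ((b : ℚ) ^ 2) ^ m * t ^ m := by ring
  · rintro ⟨C, δ, hδ, h⟩
    refine ⟨C * ((b : ℚ) ^ 2) ^ m / (b : ℚ) ^ (2 * g), δ / (b : ℚ) ^ 2, by positivity, fun c' d hd h1 h2 => ?_⟩
    rw [hdiv _ _ hd]
    set x : ℚ := (c' : ℚ) / (d : ℚ) with hx
    have h3 := h ((b : ℚ) ^ 2 * ((a : ℚ) / b - x)) (by
      have : 0 < (a : ℚ) / b - x := by linarith
      positivity) (by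
      have : (a : ℚ) / b - x < δ / (b : ℚ) ^ 2 := by linarith
      rwa [lt_div_iff₀ (by positivity), mul_comm] at this)
    rw [hsh] at h3
    have h4 : (a : ℚ) / b + -((b : ℚ) ^ 2 * ((a : ℚ) / b - x)) / (b : ℚ) ^ 2 = x := by
      field_simp
      ring
    rw [h4, mul_pow] at h3
    have h5 : rk k g (toU (mk L hL.1)) (P0 A) (fun b => pm (nn A b).left) i c x ≤
        C * (((b : ℚ) ^ 2) ^ m * ((a : ℚ) / b - x) ^ m) / (b : ℚ) ^ (2 * g) := by
      rw [le_div_iff₀ (by positivity)]
      linarith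
    refine h5.trans (le_of_eq ?_)
    ring

end K526.GVGrow
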