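import Groth.Agent.AbVar.K526.Rows
/-!
# Multiplicativity of generic ranks from the decomposition of `b_*O`
-/

set_option autoImplicit false
universe u
open CategoryTheory CategoryTheory.Limits MonoidalCategory CartesianMonoidalCategory AlgebraicGeometry
open scoped MonObj
open Groth.Agent Groth.Agent.Fga.PicMon Groth.Agent.Fga Groth.Agent.Pic13.H11.Cls Groth.Agent.Pic13.H11.NumU
  Groth.Agent.Grpsch.PicGrp Groth.Agent.Grpsch.Cube

namespace K526.HgmSplit

open Cut PullM K518.Phi _root_.K526.Prod Core Fam Inst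

variable {k : Type u} [Field k] [IsAlgClosed k] {A : Over (Spec (CommRingCat.of k))} [GrpObj A]
  [IsProper A.hom] [GeometricallyIntegral A.hom]

/-- `hgen(b^*c) = N hgen(c)` if `h^i(b^*d) = ∑_{j ∈ J} h^i(M_j ⊗ d)`, `M_j ∈ Pic⁰`, `|J| = N`. -/
theorem hgen_of_split {ℓ : Pic A.left} (hs : Surj ℓ) {b : ℕ} (hb : 1 ≤ b) {J : Type} [Fintype J]
    (M : J → (MC A.left)ˣ) (hM : ∀ j, M j ∈ P0 A) {i : ℕ}
    (h1 : ∀ c : MC A.left, Co c → h k i (pm (nn A b).left c) = ∑ j, h k i (M j • c)) {c : MC A.left} (hc : Co c) :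
    hg k (P0 A) i (pm (nn A b).left c) = Fintype.card J * hg k (P0 A) i c := by
  have key : ∀ {u : (MC A.left)ˣ}, u ∈ P0 A → h k i (Units.map (pm (nn A b).left) u • pm (nn A b).left c) =
      ∑ j, h k i (u • M j • c) := by
    intro u hu
    rw [← pm_smul, h1 _ (hc.smul u)]
    refine Finset.sum_congr rfl fun j _ => ?_
    rw [smul_smul, smul_smul, mul_comm]
  have mem : ∀ {u : (MC A.left)ˣ}, u ∈ P0 A → Units.map (pm (nn A b).left) u ∈ P0 A := by
    rintro _ ⟨α, hα, rfl⟩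
    have h2 := um_toU (nn A b).left α
    have h3 : pull (nn A b).left α = α ^ b := pl_nn_inv hα b
    rw [h3] at h2
    exact h2 ▸ toU_mem_P0 (Subgroup.pow_mem _ hα b)
  refine le_antisymm ?_ ?_
  · obtain ⟨u, hu, hu'⟩ := exists_gen (k := k) hs (Finset.univ.toList.map fun j => (i, M j • c)) (by
      intro x hx
      obtain ⟨j, -, rfl⟩ := List.mem_map.mp hx
      exact hc.smul _)
    refine (hg_le k (P0 A) i _ (mem hu)).trans ?_
    rw [key hu]
    have h4 : ∀ j, h k i (u • M j • c) = hg k (P0 A) i c := by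
      intro j
      have := hu' (i, M j • c) (List.mem_map.mpr ⟨j, Finset.mem_toList.mpr (Finset.mem_univ j), rfl⟩)
      exact this.trans (hg_smul k (P0 A) i c (hM j))
    rw [Finset.sum_congr rfl fun j _ => h4 j, Finset.sum_const, Finset.card_univ, smul_eq_mul]
  · obtain ⟨u, ⟨α, hα, rfl⟩, hu⟩ := exists_hg k (P0 A) i (pm (nn A b).left c)
    obtain ⟨y, hy⟩ := hs b hb α hα
    have h2 := um_toU (nn A b).left (phi ℓ y)
    have h3 : pull (nn A b).left (phi ℓ y) = phi ℓ y ^ b := pl_nn_inv (phi_mem_Inv ℓ y) b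
    rw [h3, hy] at h2
    rw [← hu, ← h2, key (toU_mem_P0 (phi_mem_Inv ℓ y)), ← smul_eq_mul, ← Finset.card_univ, ← Finset.sum_const]
    refine Finset.sum_le_sum fun j _ => ?_
    rw [smul_smul]
    exact hg_le k (P0 A) i c (mul_mem (toU_mem_P0 (phi_mem_Inv ℓ y)) (hM j))

theorem hgm_of_split {L : A.left.Modules} (hL : CohB1.IsAmple L) {g : ℕ}
    (H : ∀ b, 1 ≤ b → ∃ (J : Type) (_ : Fintype J) (M : J → (MC A.left)ˣ), Fintype.card J = b ^ (2 * g) ∧
      (∀ j, M j ∈ P0 A) ∧ ∀ c : MC A.left, Co c → ∀ i, h k i (pm (nn A b).left c) = ∑ j, h k i (M j • c)) :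
    Rows.HGM A g := by
  intro b hb c hc i
  obtain ⟨J, _, M, hJ, hM, h1⟩ := H b hb
  rw [hgen_of_split (surj_ample hL) hb M hM (fun c hc => h1 c hc i) hc, hJ]

theorem hgm_of_exists_split {L : A.left.Modules} (hL : CohB1.IsAmple L) {g : ℕ}
    (H : ∀ b, 1 ≤ b → ∃ M : Fin (b ^ (2 * g)) → (MC A.left)ˣ, (∀ j, M j ∈ P0 A) ∧
      ∀ c : MC A.left, Co c → ∀ i, h k i (pm (nn A b).left c) = ∑ j, h k i (M j • c)) : Rows.HGM A g :=
  hgm_of_split hL fun b hb => by
    obtain ⟨M, hM, h⟩ := H b hb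
    exact ⟨_, inferInstance, M, Fintype.card_fin _, hM, h⟩

end K526.HgmSplit
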