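import Groth.Agent.AbVar.K504.Inv
import Groth.Agent.S5023
import Groth.Agent.S5005
import Groth.Agent.OmegaSh.K583.DerFunct
import Groth.Agent.Fdesc.LocGen

/-!
# Derivations of the structure sheaf of a product

`p, q : Y ⟶ X` the projections of `Y = X ×_S X`:
* `der_ext`: a derivation of `O_Y` is determined by its values on `p^#`, `q^#` functions;
* `dd D`: the derivation of `O_Y` which is `D` on `p^#` functions and zero on `q^#` functions;
* `dd_mu`: for `μ : Y ⟶ X` with a common section `i` of `p` and `μ` such that `i ≫ q` is constant, and `O(Y) ⟶ O(X)` injective: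
  `dd D ∘ μ^# = μ^# ∘ D`.
-/

set_option autoImplicit false
universe u
open CategoryTheory CategoryTheory.Limits Opposite TopologicalSpace AlgebraicGeometry

namespace K526.InvD

open OmegaSh K583.DerFunct K583.DerAffine Groth.Agent Groth.Agent.Fdesc.LocGen

variable {S X Y : Scheme.{u}}

section um

/-- `O_X ⟶ q_* O_Y` -/
noncomputable def um (q : Y ⟶ X) :
    Coh.structureModule X ⟶ (Scheme.Modules.pushforward q).obj (Coh.structureModule Y) :=
  mkHom (M := Coh.structureModule X) (N := (Scheme.Modules.pushforward q).obj (Coh.structureModule Y))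
    (fun U => (q.app U).hom.toAddMonoidHom)
    (fun U a m => map_mul (q.app U).hom a m)
    (fun _ _ h m => (congrArg (fun φ => φ.hom m) (q.naturality (homOfLE h).op)))

theorem um_app (q : Y ⟶ X) (U : X.Opens) (a : Γ(X, U)) :
    fnSect Y (q ⁻¹ᵁ U) ((um q).app U (strSect X U a)) = q.app U a := rfl

end um

section fd

variable {f : X ⟶ S}

/-- A derivation as an operator on functions. -/
noncomputable def fd (D : Der f (Coh.structureModule X)) (U : X.Opens) : Γ(X, U) →+ Γ(X, U) :=
  (fnSect X U).comp (D.app U)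

theorem fd_mul (D : Der f (Coh.structureModule X)) (U : X.Opens) (a b : Γ(X, U)) :
    fd D U (a * b) = a * fd D U b + b * fd D U a := app_mul D U a b

theorem fd_map (D : Der f (Coh.structureModule X)) {U V : X.Opens} (h : V ≤ U) (a : Γ(X, U)) :
    fd D V (X.presheaf.map (homOfLE h).op a) = X.presheaf.map (homOfLE h).op (fd D U a) := app_map D h a

theorem fd_appLE (D : Der f (Coh.structureModule X)) (U : X.Opens) (V : S.Opens) (e : U ≤ f ⁻¹ᵁ V) (c : Γ(S, V)) :
    fd D U (f.appLE V U e c) = 0 := app_appLE D U V e c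

theorem fd_app (D : Der f (Coh.structureModule X)) (V : S.Opens) (c : Γ(S, V)) :
    fd D (f ⁻¹ᵁ V) (f.app V c) = 0 := app_base D V c

theorem ext_fd {D E : Der f (Coh.structureModule X)} (h : ∀ U a, fd D U a = fd E U a) : D = E :=
  ext_of_app h

/-- The bracket. -/
noncomputable def brk (D E : Der f (Coh.structureModule X)) : Der f (Coh.structureModule X) :=
  mkDer f _ (fun U => (strSect X U).comp ((fd D U).comp (fd E U) - (fd E U).comp (fd D U)))
    (fun U a b => by
      change fd D U (fd E U (a * b)) - fd E U (fd D U (a * b)) =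
        a * (fd D U (fd E U b) - fd E U (fd D U b)) + b * (fd D U (fd E U a) - fd E U (fd D U a))
      rw [fd_mul, fd_mul, map_add, map_add, fd_mul, fd_mul, fd_mul, fd_mul]
      ring)
    (fun U V h a => by
      change fd D V (fd E V (X.presheaf.map (homOfLE h).op a)) - fd E V (fd D V (X.presheaf.map (homOfLE h).op a)) =
        X.presheaf.map (homOfLE h).op (fd D U (fd E U a) - fd E U (fd D U a))
      rw [fd_map, fd_map, fd_map, fd_map, map_sub])
    (fun V c => by
      change fd D _ (fd E _ (f.app V c)) - fd E _ (fd D _ (f.app V c)) = 0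
      rw [fd_app, fd_app, map_zero, map_zero, sub_zero])

theorem fd_brk (D E : Der f (Coh.structureModule X)) (U : X.Opens) (a : Γ(X, U)) :
    fd (brk D E) U a = fd D U (fd E U a) - fd E U (fd D U a) := rfl

/-- The zero derivation. -/
noncomputable def zD (f : X ⟶ S) : Der f (Coh.structureModule X) :=
  mkDer f _ (fun _ => 0) (fun U a b => by simp) (fun U V h a => by simp) (fun V c => by simp)

theorem fd_zD (U : X.Opens) (a : Γ(X, U)) : fd (zD f) U a = 0 := rfl

end fd

section section_lemmas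

theorem app_id' {i : X ⟶ Y} {p : Y ⟶ X} (hip : i ≫ p = 𝟙 X) (U : X.Opens) (x : Γ(X, U)) :
    i.app (p ⁻¹ᵁ U) (p.app U x) =
      X.presheaf.map (homOfLE (by rw [← Scheme.Hom.comp_preimage, hip]; exact le_rfl : i ⁻¹ᵁ p ⁻¹ᵁ U ≤ U)).op x := by
  have key : ∀ (r : X ⟶ X) (hr : r = 𝟙 X), r.app U =
      X.presheaf.map (homOfLE (by rw [hr]; exact le_rfl : r ⁻¹ᵁ U ≤ U)).op := by
    rintro r rfl
    rw [Scheme.Hom.id_app]
    exact (X.presheaf.map_id _).symm
  have h1 := key (i ≫ p) hip
  rw [Scheme.Hom.comp_app] at h1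
  exact ConcreteCategory.congr_hom h1 x

theorem app_const {i : X ⟶ Y} {q : Y ⟶ X} {f : X ⟶ S} {e : S ⟶ X} (hiq : i ≫ q = f ≫ e) (U : X.Opens)
    (x : Γ(X, U)) :
    i.app (q ⁻¹ᵁ U) (q.app U x) =
      f.appLE (e ⁻¹ᵁ U) (i ⁻¹ᵁ q ⁻¹ᵁ U) (by rw [← Scheme.Hom.comp_preimage, ← Scheme.Hom.comp_preimage, hiq])
        (e.app U x) := by
  have h1 : q.app U ≫ i.app (q ⁻¹ᵁ U) = e.app U ≫ f.appLE (e ⁻¹ᵁ U) (i ⁻¹ᵁ q ⁻¹ᵁ U)
      (by rw [← Scheme.Hom.comp_preimage, ← Scheme.Hom.comp_preimage, hiq]) := by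
    simp only [Scheme.Hom.app_eq_appLE, Scheme.Hom.appLE_comp_appLE, hiq]
  exact ConcreteCategory.congr_hom h1 x

end section_lemmas

section prod

variable {f : X ⟶ S} {h : Y ⟶ S} [QuasiSeparated f] [QuasiSeparated h]

/-- The canonical map `p^* Ω_X ⟶ Ω_Y`. -/
noncomputable def cm (p : Y ⟶ X) (wp : p ≫ f = h) :
    (Scheme.Modules.pullback p).obj (Omega.sheaf f) ⟶ Omega.sheaf h :=
  diffMap (f := f) (f' := h) (h := p) (b := 𝟙 S) (by rw [Category.comp_id, wp]) (S5005.result f) (dOmega h)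

theorem cm_compat (p : Y ⟶ X) (wp : p ≫ f = h) : IsDiffCompat p (dOmega f) (dOmega h) (cm p wp) :=
  isDiffCompat_diffMap (f := f) (f' := h) (h := p) (b := 𝟙 S) (by rw [Category.comp_id, wp]) (S5005.result f) (dOmega h)

variable {p q : Y ⟶ X} (wp : p ≫ f = h) (wq : q ≫ f = h) (hZ : IsPullback p q f f)
include hZ

theorem isIso_cm : IsIso (coprod.desc (cm p wp) (cm q wq)) :=
  S5023.result f f p q h wp wq hZ _ _ (S5005.result f) _ _ (S5005.result f) _ _ (S5005.result h) _ (cm_compat p wp)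
    _ (cm_compat q wq)

include wp wq in
/-- A derivation on a product is determined by its values on functions from the factors. -/
theorem der_ext {M : Y.Modules} {D D' : Der h M}
    (h1 : ∀ (U : X.Opens) (s : Γ(X, U)), D.app (p ⁻¹ᵁ U) (p.app U s) = D'.app (p ⁻¹ᵁ U) (p.app U s))
    (h2 : ∀ (U : X.Opens) (s : Γ(X, U)), D.app (q ⁻¹ᵁ U) (q.app U s) = D'.app (q ⁻¹ᵁ U) (q.app U s)) : D = D' := by
  have hY := S5005.result h
  have key : ∀ (r : Y ⟶ X) (wr : r ≫ f = h)
      (_ : ∀ (U : X.Opens) (s : Γ(X, U)), D.app (r ⁻¹ᵁ U) (r.app U s) = D'.app (r ⁻¹ᵁ U) (r.app U s)),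
      cm r wr ≫ univLift hY D = cm r wr ≫ univLift hY D' := by
    intro r wr hr
    refine eq_of_isDiffCompat (d' := D) (S5005.result f) ?_ ?_
    · intro U s
      refine (congrArg ((univLift hY D).app _) (cm_compat r wr U s)).trans ?_
      exact univLift_app hY D _ _
    · intro U s
      refine (congrArg ((univLift hY D').app _) (cm_compat r wr U s)).trans ?_
      exact (univLift_app hY D' _ _).trans (hr U s).symm
  have hA : univLift hY D = univLift hY D' := by
    have := isIso_cm wp wq hZ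
    rw [← cancel_epi (coprod.desc (cm p wp) (cm q wq))]
    refine coprod.hom_ext ?_ ?_
    · rw [coprod.inl_desc_assoc, coprod.inl_desc_assoc]
      exact key p wp h1
    · rw [coprod.inr_desc_assoc, coprod.inr_desc_assoc]
      exact key q wq h2
  refine ext_of_app fun V x => ?_
  rw [← univLift_app hY D, ← univLift_app hY D', hA]

/-- The form on `Ω_Y` which is `p^* D` on `p^* Ω_X` and zero on `q^* Ω_X`. -/
noncomputable def ef (D : Omega.sheaf f ⟶ Coh.structureModule X) : Omega.sheaf h ⟶ Coh.structureModule Y :=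
  haveI := isIso_cm wp wq hZ
  inv (coprod.desc (cm p wp) (cm q wq)) ≫ coprod.desc (adj p (D ≫ um p)) 0

theorem cm_ef (D : Omega.sheaf f ⟶ Coh.structureModule X) : cm p wp ≫ ef wp wq hZ D = adj p (D ≫ um p) := by
  have := isIso_cm wp wq hZ
  have h1 : cm p wp = coprod.inl ≫ coprod.desc (cm p wp) (cm q wq) := (coprod.inl_desc _ _).symm
  refine (congrArg (fun t => t ≫ ef wp wq hZ D) h1).trans ?_
  rw [ef, Category.assoc, IsIso.hom_inv_id_assoc, coprod.inl_desc]

theorem cm_ef' (D : Omega.sheaf f ⟶ Coh.structureModule X) : cm q wq ≫ ef wp wq hZ D = 0 := by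
  have := isIso_cm wp wq hZ
  have h1 : cm q wq = coprod.inr ≫ coprod.desc (cm p wp) (cm q wq) := (coprod.inr_desc _ _).symm
  refine (congrArg (fun t => t ≫ ef wp wq hZ D) h1).trans ?_
  rw [ef, Category.assoc, IsIso.hom_inv_id_assoc, coprod.inr_desc]

/-- The derivation of `O_Y` along the first factor. -/
noncomputable def dd (D : Omega.sheaf f ⟶ Coh.structureModule X) : Der h (Coh.structureModule Y) :=
  (dOmega h).postcomp (ef wp wq hZ D).val

/-- The derivation of `O_X` defined by a form. -/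
noncomputable def dX (D : Omega.sheaf f ⟶ Coh.structureModule X) : Der f (Coh.structureModule X) :=
  (dOmega f).postcomp D.val

theorem fd_dd_p (D : Omega.sheaf f ⟶ Coh.structureModule X) (U : X.Opens) (s : Γ(X, U)) :
    fd (dd wp wq hZ D) (p ⁻¹ᵁ U) (p.app U s) = p.app U (fd (dX D) U s) := by
  have h1 := cm_compat p wp U s
  have h2 : (ef wp wq hZ D).app (p ⁻¹ᵁ U) ((cm p wp).app (p ⁻¹ᵁ U) (pullSect p (Omega.sheaf f) U ((dOmega f).app U s))) =
      (adj p (D ≫ um p)).app (p ⁻¹ᵁ U) (pullSect p (Omega.sheaf f) U ((dOmega f).app U s)) :=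
    congr(Scheme.Modules.Hom.app $(cm_ef wp wq hZ D) (p ⁻¹ᵁ U) (pullSect p (Omega.sheaf f) U ((dOmega f).app U s)))
  rw [h1, adj_pullSect] at h2
  exact h2

theorem fd_dd_q (D : Omega.sheaf f ⟶ Coh.structureModule X) (U : X.Opens) (s : Γ(X, U)) :
    fd (dd wp wq hZ D) (q ⁻¹ᵁ U) (q.app U s) = 0 := by
  have h1 := cm_compat q wq U s
  have h2 : (ef wp wq hZ D).app (q ⁻¹ᵁ U) ((cm q wq).app (q ⁻¹ᵁ U) (pullSect q (Omega.sheaf f) U ((dOmega f).app U s))) =
      0 :=
    congr(Scheme.Modules.Hom.app $(cm_ef' wp wq hZ D) (q ⁻¹ᵁ U) (pullSect q (Omega.sheaf f) U ((dOmega f).app U s)))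
  rw [h1] at h2
  exact h2

end prod

end K526.InvD
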