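import Groth.Agent.AbVar.K526.InvDA

/-!
# Invariant derivations, abstract form

`invData`: `K504.Inv.InvData` for `Y = X ×_S X`, from a frame of `Ω_X`, sections `i₁ = (id, e)`, `i₂ = (e, id)` with
`i ≫ μ = id` and `O(Y) ⟶ O(X)` injective.
-/

set_option autoImplicit false
universe u
open CategoryTheory CategoryTheory.Limits Opposite TopologicalSpace AlgebraicGeometry

namespace K526.InvD

open OmegaSh K583.DerFunct K583.DerAffine Groth.Agent Groth.Agent.Fdesc.LocGen K504.Inv

variable {S X Y : Scheme.{u}} {f : X ⟶ S} {h : Y ⟶ S} [QuasiSeparated f] [QuasiSeparated h]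
  {p q : Y ⟶ X} (wp : p ≫ f = h) (wq : q ≫ f = h) (hZ : IsPullback p q f f)

include hZ

/-- Restriction to `X × {e}`. -/
theorem app_dd {i : X ⟶ Y} (hip : i ≫ p = 𝟙 X) {e : S ⟶ X} (hiq : i ≫ q = f ≫ e)
    (D : Omega.sheaf f ⟶ Coh.structureModule X) (V : Y.Opens) (x : Γ(Y, V)) :
    i.app V (fd (dd wp wq hZ D) V x) = fd (dX D) (i ⁻¹ᵁ V) (i.app V x) := by
  have wi : f ≫ 𝟙 S = i ≫ h := by rw [Category.comp_id, ← wp, ← Category.assoc, hip, Category.id_comp]
  have key : (dd wp wq hZ D).postcomp (um i).val =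
      pushDer (f := h) (f' := f) (h := i) (b := 𝟙 S) (F' := Coh.structureModule X) wi (dX D) := by
    refine der_ext (M := (Scheme.Modules.pushforward i).obj (Coh.structureModule X)) wp wq hZ ?_ ?_
    · intro U s
      change i.app (p ⁻¹ᵁ U) (fd (dd wp wq hZ D) (p ⁻¹ᵁ U) (p.app U s)) =
        fd (dX D) (i ⁻¹ᵁ p ⁻¹ᵁ U) (i.app (p ⁻¹ᵁ U) (p.app U s))
      rw [fd_dd_p, app_id' hip, app_id' hip, fd_map]
    · intro U s
      change i.app (q ⁻¹ᵁ U) (fd (dd wp wq hZ D) (q ⁻¹ᵁ U) (q.app U s)) =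
        fd (dX D) (i ⁻¹ᵁ q ⁻¹ᵁ U) (i.app (q ⁻¹ᵁ U) (q.app U s))
      rw [fd_dd_q, map_zero, app_const hiq, fd_appLE]
  exact congr(Der.app $key V x)

variable {g : ℕ}

omit hZ in
omit [QuasiSeparated h] in
/-- Morphisms `Ω_X ⟶ M` are determined by their values on global sections. -/
theorem frame_ext (F : Frame f g) {M : X.Modules} {α β : Omega.sheaf f ⟶ M}
    (H : ∀ m : Γ(Omega.sheaf f, (⊤ : X.Opens)), α.app ⊤ m = β.app ⊤ m) : α = β := by
  classical
  choose b hb using (F.bij ⊤).2
  apply Scheme.Modules.hom_ext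
  intro U
  ext m
  have hm : m = ∑ j, fnSect X U ((F.D j).app U m) •
      (Omega.sheaf f).presheaf.map (homOfLE le_top).op (b (Pi.single j (1 : Γ(X, (⊤ : X.Opens))))) := by
    refine (F.bij U).1 ?_
    funext l
    change fnSect X U ((F.D l).app U m) = fnSect X U ((F.D l).app U _)
    rw [map_sum, map_sum, Finset.sum_eq_single l]
    · rw [Scheme.Modules.Hom.app_smul]
      have h2 : fnSect X U ((F.D l).app U ((Omega.sheaf f).presheaf.map (homOfLE le_top).op
          (b (Pi.single l (1 : Γ(X, (⊤ : X.Opens))))))) = 1 := by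
        have h3 := congrFun (hb (Pi.single l (1 : Γ(X, (⊤ : X.Opens))))) l
        have h4 : (F.D l).app U ((Omega.sheaf f).presheaf.map (homOfLE (le_top : U ≤ ⊤)).op
            (b (Pi.single l (1 : Γ(X, (⊤ : X.Opens)))))) =
            (Coh.structureModule X).presheaf.map (homOfLE le_top).op
              ((F.D l).app ⊤ (b (Pi.single l (1 : Γ(X, (⊤ : X.Opens)))))) :=
          congr($((Scheme.Modules.Hom.mapPresheaf (F.D l)).naturality (homOfLE (le_top : U ≤ ⊤)).op) _)
        rw [h4]
        rw [Pi.single_eq_same] at h3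
        refine (congrArg (fun t => X.presheaf.map (homOfLE (le_top : U ≤ ⊤)).op t) h3).trans ?_
        exact map_one _
      exact (mul_one _).symm.trans (congrArg (fun t => fnSect X U ((F.D l).app U m) * t) h2).symm
    · intro j _ hj
      rw [Scheme.Modules.Hom.app_smul]
      have h2 : fnSect X U ((F.D l).app U ((Omega.sheaf f).presheaf.map (homOfLE le_top).op
          (b (Pi.single j (1 : Γ(X, (⊤ : X.Opens))))))) = 0 := by
        have h3 := congrFun (hb (Pi.single j (1 : Γ(X, (⊤ : X.Opens))))) l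
        have h4 : (F.D l).app U ((Omega.sheaf f).presheaf.map (homOfLE (le_top : U ≤ ⊤)).op
            (b (Pi.single j (1 : Γ(X, (⊤ : X.Opens)))))) =
            (Coh.structureModule X).presheaf.map (homOfLE le_top).op
              ((F.D l).app ⊤ (b (Pi.single j (1 : Γ(X, (⊤ : X.Opens)))))) :=
          congr($((Scheme.Modules.Hom.mapPresheaf (F.D l)).naturality (homOfLE (le_top : U ≤ ⊤)).op) _)
        rw [h4]
        rw [Pi.single_eq_of_ne (Ne.symm hj)] at h3
        refine (congrArg (fun t => X.presheaf.map (homOfLE (le_top : U ≤ ⊤)).op t) h3).trans ?_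
        exact map_zero _
      exact (congrArg (fun t => fnSect X U ((F.D j).app U m) * t) h2).trans (mul_zero _)
    · exact fun hl => absurd (Finset.mem_univ l) hl
  have key : ∀ γ : Omega.sheaf f ⟶ M, γ.app U m = ∑ j, fnSect X U ((F.D j).app U m) •
      M.presheaf.map (homOfLE le_top).op (γ.app ⊤ (b (Pi.single j (1 : Γ(X, (⊤ : X.Opens)))))) := by
    intro γ
    conv_lhs => rw [hm]
    rw [map_sum]
    refine Finset.sum_congr rfl fun j _ => ?_
    rw [Scheme.Modules.Hom.app_smul]
    congr 1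
    exact congr($((Scheme.Modules.Hom.mapPresheaf γ).naturality (homOfLE (le_top : U ≤ ⊤)).op) _)
  rw [key α, key β]
  exact Finset.sum_congr rfl fun j _ => by rw [H]

/-- Invariance: `dd D ∘ μ^# = μ^# ∘ D`. -/
theorem dd_mu {μ : Y ⟶ X} (wμ : μ ≫ f = h) {i : X ⟶ Y} (hip : i ≫ p = 𝟙 X) {e : S ⟶ X} (hiq : i ≫ q = f ≫ e)
    (hiμ : i ≫ μ = 𝟙 X) (hinj : Function.Injective (i.app ⊤)) (F : Frame f g)
    (D : Omega.sheaf f ⟶ Coh.structureModule X) (U : X.Opens) (a : Γ(X, U)) :
    fd (dd wp wq hZ D) (μ ⁻¹ᵁ U) (μ.app U a) = μ.app U (fd (dX D) U a) := by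
  have hX := S5005.result f
  let E : Der f ((Scheme.Modules.pushforward μ).obj (Coh.structureModule Y)) :=
    pushDer (f := f) (f' := h) (h := μ) (b := 𝟙 S) (F' := Coh.structureModule Y)
      (by rw [Category.comp_id, wμ]) (dd wp wq hZ D)
  have key : univLift hX E = D ≫ um μ := by
    refine frame_ext F fun m => ?_
    have h1 : univLift hX E ≫ (Scheme.Modules.pushforward μ).map (um i) =
        (D ≫ um μ) ≫ (Scheme.Modules.pushforward μ).map (um i) := by
      refine univ_hom_ext hX fun U a => ?_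
      have h2 : (univLift hX E).app U ((dOmega f).app U a) = E.app U a := univLift_app hX E U a
      have h3 := app_dd wp wq hZ hip hiq D (μ ⁻¹ᵁ U) (μ.app U a)
      rw [app_id' hiμ, fd_map, ← app_id' hiμ] at h3
      refine (congrArg (fun t => ((Scheme.Modules.pushforward μ).map (um i)).app U t) h2).trans ?_
      exact h3
    have h2 := congr(Scheme.Modules.Hom.app $h1 ⊤ m)
    exact hinj h2
  have h4 := congr(Scheme.Modules.Hom.app $key U ((dOmega f).app U a))
  rw [univLift_app] at h4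
  exact h4

end K526.InvD
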