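import Groth.Agent.AbVar.K526.InvDB

/-!
# Invariant derivations: the data `K504.Inv.InvData`
-/

set_option autoImplicit false
universe u
open CategoryTheory CategoryTheory.Limits Opposite TopologicalSpace AlgebraicGeometry

namespace K526.InvD

open OmegaSh K583.DerFunct K583.DerAffine Groth.Agent Groth.Agent.Fdesc.LocGen K504.Inv K504.Star K504.GDMap K504.AltSh

section gen

variable {S X Y : Scheme.{u}} {f : X ⟶ S} {h : Y ⟶ S}

theorem ap_dv' (D : Der f (Coh.structureModule X)) (V : X.Opens) (x : Γ(X, V)) :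
    ap (dv D) (op V) x = fd D V x := rfl

/-- compatibility with `r^#` -/
theorem co_dv (r : Y ⟶ X) (D : Der f (Coh.structureModule X)) (E : Der h (Coh.structureModule Y))
    (H : ∀ (U : X.Opens) (s : Γ(X, U)), fd E (r ⁻¹ᵁ U) (r.app U s) = r.app U (fd D U s)) :
    co r ≫ (CohTop.push (X := Y.toTopCat) (Y := X.toTopCat) r.base).map (dv E) = dv D ≫ co r :=
  hom_ext' fun V x => H V.unop x

theorem co_dv_zero (r : Y ⟶ X) (E : Der h (Coh.structureModule Y))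
    (H : ∀ (U : X.Opens) (s : Γ(X, U)), fd E (r ⁻¹ᵁ U) (r.app U s) = 0) :
    co r ≫ (CohTop.push (X := Y.toTopCat) (Y := X.toTopCat) r.base).map (dv E) = 0 :=
  hom_ext' fun V x => H V.unop x

theorem pLin_dv (r : Y ⟶ X) (E : Der h (Coh.structureModule Y))
    (H : ∀ (U : X.Opens) (s : Γ(X, U)), fd E (r ⁻¹ᵁ U) (r.app U s) = 0) : PLin r (dv E) := by
  intro U V hV b x
  change fd E V (r.appLE U V hV b * x) = r.appLE U V hV b * fd E V x
  have h1 : r.appLE U V hV b = Y.presheaf.map (homOfLE hV).op (r.app U b) := rfl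
  rw [fd_mul, h1, fd_map, H, map_zero, mul_zero, add_zero]

theorem comm_of_brk {D E : Der f (Coh.structureModule X)} (H : brk D E = zD f) : dv D ≫ dv E = dv E ≫ dv D := by
  refine hom_ext' fun V x => ?_
  have h1 : fd (brk D E) V.unop x = 0 := by rw [H, fd_zD]
  rw [fd_brk, sub_eq_zero] at h1
  exact h1.symm

end gen

section prod

variable {S X Y : Scheme.{u}} {f : X ⟶ S} {h : Y ⟶ S} [QuasiSeparated f] [QuasiSeparated h]
  {p q : Y ⟶ X} (wp : p ≫ f = h) (wq : q ≫ f = h) (hZ : IsPullback p q f f)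

include wp wq hZ in
theorem brk_eq_zero {D E : Der h (Coh.structureModule Y)}
    (h1 : ∀ (U : X.Opens) (s : Γ(X, U)), fd D _ (fd E (p ⁻¹ᵁ U) (p.app U s)) = fd E _ (fd D (p ⁻¹ᵁ U) (p.app U s)))
    (h2 : ∀ (U : X.Opens) (s : Γ(X, U)), fd D _ (fd E (q ⁻¹ᵁ U) (q.app U s)) = fd E _ (fd D (q ⁻¹ᵁ U) (q.app U s))) :
    brk D E = zD h := by
  refine der_ext wp wq hZ ?_ ?_
  · intro U s
    exact sub_eq_zero.2 (h1 U s)
  · intro U s
    exact sub_eq_zero.2 (h2 U s)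

theorem brk12 (D D' : Omega.sheaf f ⟶ Coh.structureModule X) :
    brk (dd wp wq hZ D) (dd wq wp hZ.flip D') = zD h := by
  refine brk_eq_zero wp wq hZ ?_ ?_
  · intro U s
    rw [fd_dd_p, fd_dd_q, map_zero, fd_dd_q]
  · intro U s
    rw [fd_dd_p, fd_dd_q, fd_dd_q, map_zero]

include wp wq hZ in
/-- Commutativity of invariant derivations. -/
theorem brkX {μ : Y ⟶ X} (wμ : μ ≫ f = h) {e : S ⟶ X} {i : X ⟶ Y} (hip : i ≫ p = 𝟙 X) (hiq : i ≫ q = f ≫ e)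
    (hiμ : i ≫ μ = 𝟙 X) (hinj : Function.Injective (i.app ⊤)) {i' : X ⟶ Y} (hip' : i' ≫ p = f ≫ e)
    (hiq' : i' ≫ q = 𝟙 X) (hiμ' : i' ≫ μ = 𝟙 X) (hinj' : Function.Injective (i'.app ⊤)) {g : ℕ} (F : Frame f g)
    (D D' : Omega.sheaf f ⟶ Coh.structureModule X) : brk (dX D) (dX D') = zD f := by
  refine ext_fd fun U a => ?_
  rw [fd_brk, fd_zD, sub_eq_zero]
  have h1 : fd (dd wp wq hZ D) _ (fd (dd wq wp hZ.flip D') _ (μ.app U a)) =
      fd (dd wq wp hZ.flip D') _ (fd (dd wp wq hZ D) (μ ⁻¹ᵁ U) (μ.app U a)) := by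
    have h2 : fd (brk (dd wp wq hZ D) (dd wq wp hZ.flip D')) (μ ⁻¹ᵁ U) (μ.app U a) = 0 := by rw [brk12, fd_zD]
    rwa [fd_brk, sub_eq_zero] at h2
  rw [dd_mu wp wq hZ wμ hip hiq hiμ hinj F, dd_mu wq wp hZ.flip wμ hiq' hip' hiμ' hinj' F,
    dd_mu wp wq hZ wμ hip hiq hiμ hinj F, dd_mu wq wp hZ.flip wμ hiq' hip' hiμ' hinj' F] at h1
  have h3 := congrArg (i.app (μ ⁻¹ᵁ U)) h1
  rw [app_id' hiμ, app_id' hiμ] at h3
  have h4 : U ≤ i ⁻¹ᵁ μ ⁻¹ᵁ U := by rw [← Scheme.Hom.comp_preimage, hiμ]; exact le_rfl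
  have h5 : ∀ y : Γ(X, U), X.presheaf.map (homOfLE h4).op (X.presheaf.map (homOfLE
      (by rw [← Scheme.Hom.comp_preimage, hiμ]; exact le_rfl : i ⁻¹ᵁ μ ⁻¹ᵁ U ≤ U)).op y) = y := by
    intro y
    rw [← ConcreteCategory.comp_apply, ← Functor.map_comp]
    exact ConcreteCategory.congr_hom (X.presheaf.map_id _) y
  have h6 := congrArg (X.presheaf.map (homOfLE h4).op) h3
  rwa [h5, h5] at h6

theorem brk11 {D D' : Omega.sheaf f ⟶ Coh.structureModule X} (H : brk (dX D) (dX D') = zD f) :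
    brk (dd wp wq hZ D) (dd wp wq hZ D') = zD h := by
  have h1 : ∀ (U : X.Opens) (a : Γ(X, U)), fd (dX D) U (fd (dX D') U a) = fd (dX D') U (fd (dX D) U a) := by
    intro U a
    have h2 : fd (brk (dX D) (dX D')) U a = 0 := by rw [H, fd_zD]
    rwa [fd_brk, sub_eq_zero] at h2
  refine brk_eq_zero wp wq hZ ?_ ?_
  · intro U s
    rw [fd_dd_p, fd_dd_p, fd_dd_p, fd_dd_p, h1]
  · intro U s
    rw [fd_dd_q, fd_dd_q, map_zero, map_zero]

end prod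

section data

variable {k : Type u} [Field k] {X Y : Scheme.{u}} {f : X ⟶ Spec (CommRingCat.of k)} {h : Y ⟶ Spec (CommRingCat.of k)}
  [QuasiSeparated f] [QuasiSeparated h] {p q : Y ⟶ X}

/-- **Invariant derivations.** -/
noncomputable def invData (wp : p ≫ f = h) (wq : q ≫ f = h) (hZ : IsPullback p q f f) {μ : Y ⟶ X} (wμ : μ ≫ f = h)
    {e : Spec (CommRingCat.of k) ⟶ X} {i : X ⟶ Y} (hip : i ≫ p = 𝟙 X) (hiq : i ≫ q = f ≫ e)
    (hiμ : i ≫ μ = 𝟙 X) (hinj : Function.Injective (i.app ⊤)) {i' : X ⟶ Y} (hip' : i' ≫ p = f ≫ e)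
    (hiq' : i' ≫ q = 𝟙 X) (hiμ' : i' ≫ μ = 𝟙 X) (hinj' : Function.Injective (i'.app ⊤)) {g : ℕ} (F : Frame f g) :
    InvData f p q μ g where
  F := F
  comm i₁ j₁ := comm_of_brk (brkX wp wq hZ wμ hip hiq hiμ hinj hip' hiq' hiμ' hinj' F (F.D i₁) (F.D j₁))
  u1 j := dv (dd wp wq hZ (F.D j))
  u2 j := dv (dd wq wp hZ.flip (F.D j))
  u1_p1 j := co_dv p (dX (F.D j)) _ fun U s => fd_dd_p wp wq hZ _ U s
  u1_μ j := co_dv μ (dX (F.D j)) _ fun U s => dd_mu wp wq hZ wμ hip hiq hiμ hinj F _ U s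
  u1_lin j := pLin_dv q _ fun U s => fd_dd_q wp wq hZ _ U s
  u2_p1 j := co_dv_zero p _ fun U s => fd_dd_q wq wp hZ.flip _ U s
  u2_μ j := co_dv μ (dX (F.D j)) _ fun U s => dd_mu wq wp hZ.flip wμ hiq' hip' hiμ' hinj' F _ U s
  comm11 i₁ j₁ := comm_of_brk (brk11 wp wq hZ
    (brkX wp wq hZ wμ hip hiq hiμ hinj hip' hiq' hiμ' hinj' F (F.D i₁) (F.D j₁)))
  comm12 i₁ j₁ := comm_of_brk (brk12 wp wq hZ (F.D i₁) (F.D j₁))

end data

end K526.InvD
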