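import Groth.Agent.AbVar.K526.InvDC
import Groth.Agent.AbVar.K504.AnyField
import Groth.Agent.AbVar.K520.Prod
import Groth.Agent.AbVar.K81.Maschke
import Groth.Agent.Grpsch.CubePush

/-!
# Invariant derivations on an abelian variety over any field

`nonempty_invData`: `K504.Inv.InvData` for a proper geometrically integral `k`-group scheme of dimension `g`.
-/

set_option autoImplicit false
universe u
open CategoryTheory CategoryTheory.Limits Opposite TopologicalSpace AlgebraicGeometry MonoidalCategory
  CartesianMonoidalCategory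
open scoped MonObj

namespace K526.InvD

open OmegaSh K583.DerFunct K583.DerAffine Groth.Agent Groth.Agent.Fdesc.LocGen K504.Inv

section frame

variable {S X : Scheme.{u}} {f : X ⟶ S} [QuasiSeparated f]

/-- A frame from a decomposition of `Ω`. -/
theorem nonempty_frame_of_dec {g : ℕ}
    (d : K81.Maschke.Dec (fun _ : Fin g => Coh.structureModule X) (Omega.sheaf f)) : Nonempty (Frame f g) := by
  have hs : ∀ (U : X.Opens) (m : Γ(Omega.sheaf f, U)), m = ∑ j, (d.ι j).app U ((d.π j).app U m) := by
    intro U m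
    have h1 := congr(Scheme.Modules.Hom.app $(d.sum) U m)
    have h2 : ∀ (s : Finset (Fin g)), (∑ j ∈ s, d.π j ≫ d.ι j).app U m = ∑ j ∈ s, (d.ι j).app U ((d.π j).app U m) := by
      classical
      intro s
      induction s using Finset.induction_on with
      | empty => rfl
      | insert a s ha ih =>
        rw [Finset.sum_insert ha, Finset.sum_insert ha, ← ih]
        rfl
    rw [h2] at h1
    exact h1.symm
  refine ⟨⟨d.π, fun U => ⟨fun m m' h => ?_, fun y => ⟨∑ j, (d.ι j).app U (strSect X U (y j)), ?_⟩⟩⟩⟩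
  · rw [hs U m, hs U m']
    refine Finset.sum_congr rfl fun j _ => ?_
    exact congrArg ((d.ι j).app U) (congrFun h j)
  · funext l
    change fnSect X U ((d.π l).app U _) = y l
    rw [map_sum, map_sum, Finset.sum_eq_single l]
    · exact congr(Scheme.Modules.Hom.app $(d.ι_π_self l) U (strSect X U (y l)))
    · intro j _ hj
      exact congr(Scheme.Modules.Hom.app $(d.ι_π_ne j l hj) U (strSect X U (y j)))
    · exact fun hl => absurd (Finset.mem_univ l) hl

theorem nonempty_frame {g : ℕ} (e : Omega.sheaf f ≅ FlatMod.freeMod X g) : Nonempty (Frame f g) := by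
  have hbi : HasFiniteBiproducts X.Modules := Abelian.hasFiniteBiproducts
  obtain ⟨ε, ⟨d⟩⟩ := K81.Maschke.exists_dec_coproduct (fun _ : Fin g => Coh.structureModule X)
    (n := g) (by simp)
  exact nonempty_frame_of_dec (d.congr e.symm)

end frame

section AV

variable (k : Type u) [Field k] (A : Over (Spec (CommRingCat.of k))) [GrpObj A] [IsProper A.hom]
  [GeometricallyIntegral A.hom]

omit [GrpObj A] in
theorem app_injective (B : Over (Spec (CommRingCat.of k))) [IsProper B.hom] [GeometricallyIntegral B.hom] (i : A ⟶ B) :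
    Function.Injective (i.left.app ⊤) := by
  have hA : Function.Bijective (A.hom.app ⊤) := by
    have := Grpsch.CubeData.isIso_app A.hom ⊤
    exact ConcreteCategory.bijective_of_isIso _
  have hB : Function.Bijective (B.hom.app ⊤) := by
    have := Grpsch.CubeData.isIso_app B.hom ⊤
    exact ConcreteCategory.bijective_of_isIso _
  have h1 : ∀ c, i.left.app ⊤ (B.hom.app ⊤ c) = A.hom.app ⊤ c := by
    intro c
    have h2 : ∀ (r : A.left ⟶ Spec (CommRingCat.of k)), r = A.hom → r.app ⊤ = A.hom.app ⊤ := by
      rintro r rfl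
      rfl
    have h3 := h2 _ (Over.w i)
    rw [Scheme.Hom.comp_app] at h3
    exact ConcreteCategory.congr_hom h3 c
  intro x y hxy
  obtain ⟨a, rfl⟩ := hB.2 x
  obtain ⟨b, rfl⟩ := hB.2 y
  rw [h1, h1] at hxy
  rw [hA.1 hxy]

/-- **(G)** -/
theorem nonempty_invData {g : ℕ} (hg : topologicalKrullDim ↥A.left = g) :
    Nonempty (InvData A.hom (fst A A).left (snd A A).left μ[A].left g) := by
  have hsm : Smooth A.hom := by
    have i3 : GeometricallyReduced A.hom := inferInstance
    exact K449.Basic.smooth A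
  have hint : IsIntegral A.left := K524.PicZeroVan.isIntegral_left
  obtain ⟨d, hd⟩ := K504.Hodge.exists_relDim k A.left A.hom
  have h3 : topologicalKrullDim A.left = d := K504.Hodge.topologicalKrullDim_eq A.hom d
  rw [hg] at h3
  obtain rfl : d = g := by exact_mod_cast h3.symm
  obtain ⟨e⟩ := K504.Hodge.exists_pullback A d
  obtain ⟨F⟩ := nonempty_frame (e ≪≫ PerfC.PullRestrict.pullbackFreeMod A.hom d)
  have hP : IsProper (A ⊗ A).hom := by
    change IsProper (pullback.fst A.hom A.hom ≫ A.hom)
    infer_instance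
  have hI : GeometricallyIntegral (A ⊗ A).hom := K520.Prod.geometricallyIntegral_tensor A A
  have hcomp : ∀ {U V W : Over (Spec (CommRingCat.of k))} (a : U ⟶ V) (b : V ⟶ W) (c : U ⟶ W), a ≫ b = c →
      a.left ≫ b.left = c.left := by
    rintro U V W a b c rfl
    exact (Over.comp_left _ _ _ a b).symm
  refine ⟨invData (h := (A ⊗ A).hom) (Over.w (fst A A)) (Over.w (snd A A)) (IsPullback.of_hasPullback A.hom A.hom)
    (Over.w μ[A]) (e := η[A].left) (i := (lift (𝟙 A) (toUnit A ≫ η[A])).left) (hcomp _ _ _ (lift_fst _ _))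
    (hcomp _ _ _ (lift_snd _ _)) ?_ (app_injective k A _ _) (i' := (lift (toUnit A ≫ η[A]) (𝟙 A)).left)
    (hcomp _ _ _ (lift_fst _ _)) (hcomp _ _ _ (lift_snd _ _)) ?_ (app_injective k A _ _) F⟩
  · refine hcomp _ _ (𝟙 A) ?_
    exact (Hom.mul_def (𝟙 A) (toUnit A ≫ η[A])).symm.trans (mul_one (𝟙 A))
  · refine hcomp _ _ (𝟙 A) ?_
    exact (Hom.mul_def (toUnit A ≫ η[A]) (𝟙 A)).symm.trans (one_mul (𝟙 A))

end AV

/-- The form used for schemes with a structure morphism. -/
theorem nonempty_invData' (k : Type u) [Field k] (X : Scheme.{u}) [X.Over (Spec (CommRingCat.of k))]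
    [GrpObj (Over.mk (X ↘ Spec (CommRingCat.of k)))] [IsProper (X ↘ Spec (CommRingCat.of k))]
    [GeometricallyIntegral (X ↘ Spec (CommRingCat.of k))] {g : ℕ} (hg : topologicalKrullDim ↥X = g) :
    Nonempty (InvData (X ↘ Spec (CommRingCat.of k))
      (fst (Over.mk (X ↘ Spec (CommRingCat.of k))) (Over.mk (X ↘ Spec (CommRingCat.of k)))).left
      (snd (Over.mk (X ↘ Spec (CommRingCat.of k))) (Over.mk (X ↘ Spec (CommRingCat.of k)))).left
      μ[Over.mk (X ↘ Spec (CommRingCat.of k))].left g) := by
  have i1 : IsProper (Over.mk (X ↘ Spec (CommRingCat.of k))).hom :=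
    inferInstanceAs (IsProper (X ↘ Spec (CommRingCat.of k)))
  have i3 : GeometricallyIntegral (Over.mk (X ↘ Spec (CommRingCat.of k))).hom :=
    inferInstanceAs (GeometricallyIntegral (X ↘ Spec (CommRingCat.of k)))
  exact nonempty_invData k (Over.mk (X ↘ Spec (CommRingCat.of k))) hg

end K526.InvD
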