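import Groth.Agent.AbVar.K526.LipExt
/-!
# Numerical part of the theory of rank functions

`H B n` is meant to be the generic rank of `B^* F ⊗ L^n`.  If `H (m B) (m² n) = m^(2g) H B n` and the differences
`H B (n + M) - H B n` are `O(B^(2g-2))` for `|n| ≤ R B²`, then `a / b ↦ H b (a b) / b^(2g)` extends to a continuous function.
-/

set_option autoImplicit false

namespace K526.RankNum

variable (g : ℕ) (H : ℕ → ℤ → ℕ)

/-- The value at `n / B²` of the rank function. -/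
noncomputable def G (B : ℕ) (n : ℤ) : ℚ := (H B n : ℚ) / (B : ℚ) ^ (2 * g)

variable (hom : ∀ (m B : ℕ) (n : ℤ), 1 ≤ m → 1 ≤ B → H (m * B) ((m : ℤ) ^ 2 * n) = m ^ (2 * g) * H B n)

include hom in
theorem G_mul {m B : ℕ} (n : ℤ) (hm : 1 ≤ m) (hB : 1 ≤ B) : G g H (m * B) ((m : ℤ) ^ 2 * n) = G g H B n := by
  have hm' : (m : ℚ) ≠ 0 := by positivity
  have hB' : (B : ℚ) ≠ 0 := by positivity
  rw [G, G, hom m B n hm hB]
  push_cast
  rw [mul_pow]
  field_simp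

include hom in
theorem G_congr {B B' : ℕ} {n n' : ℤ} (hB : 1 ≤ B) (hB' : 1 ≤ B') (h : (B' : ℤ) ^ 2 * n = (B : ℤ) ^ 2 * n') :
    G g H B n = G g H B' n' := by
  rw [← G_mul g H hom n hB' hB, ← G_mul g H hom n' hB hB', h, mul_comm B' B]

/-- The rank function on the rationals. -/
noncomputable def f (q : ℚ) : ℚ := G g H q.den (q.num * q.den)

include hom in
/-- The rank function is well defined. -/
theorem f_eq (q : ℚ) {B : ℕ} {n : ℤ} (hB : 1 ≤ B) (h : (n : ℚ) = q * (B : ℚ) ^ 2) : f g H q = G g H B n := by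
  refine G_congr g H hom q.den_pos hB ?_
  have h1 : (q.num : ℚ) = q * q.den := (Rat.mul_den_eq_num q).symm
  have h2 : ((B : ℚ) ^ 2) * (q.num * q.den) = (q.den : ℚ) ^ 2 * n := by rw [h, h1]; ring
  exact_mod_cast h2

include hom in
theorem f_div (a : ℤ) (b : ℕ) (hb : 0 < b) : f g H ((a : ℚ) / (b : ℚ)) = (H b (a * b) : ℚ) / (b : ℚ) ^ (2 * g) := by
  have hb' : (b : ℚ) ≠ 0 := by exact_mod_cast hb.ne'
  rw [f_eq g H hom _ (n := a * b) hb (by push_cast; field_simp)]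
  rfl

variable (step : ∃ M : ℕ, 1 ≤ M ∧ ∀ R : ℕ, ∃ C : ℕ, ∀ (B : ℕ) (n : ℤ), 1 ≤ B → |n| ≤ (R : ℤ) * (B : ℤ) ^ 2 →
  (B : ℤ) ^ 2 * |(H B (n + M) : ℤ) - H B n| ≤ (C : ℤ) * (B : ℤ) ^ (2 * g))


theorem telescope {M : ℕ} {C R B : ℕ} (hC : ∀ (n : ℤ), |n| ≤ (R : ℤ) * (B : ℤ) ^ 2 →
    (B : ℤ) ^ 2 * |(H B (n + M) : ℤ) - H B n| ≤ (C : ℤ) * (B : ℤ) ^ (2 * g)) (n : ℤ) (t : ℕ)
    (h1 : |n| ≤ (R : ℤ) * (B : ℤ) ^ 2) (h2 : |n + M * t| ≤ (R : ℤ) * (B : ℤ) ^ 2) :
    (B : ℤ) ^ 2 * |(H B (n + M * t) : ℤ) - H B n| ≤ (C : ℤ) * (B : ℤ) ^ (2 * g) * t := by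
  have key : ∀ s : ℕ, s ≤ t → (B : ℤ) ^ 2 * |(H B (n + M * s) : ℤ) - H B n| ≤ (C : ℤ) * (B : ℤ) ^ (2 * g) * s := by
    intro s
    induction s with
    | zero => intro _; simp
    | succ s ih =>
      intro hs
      have ih' := ih (by omega)
      have hb : |n + M * s| ≤ (R : ℤ) * (B : ℤ) ^ 2 := by
        rw [abs_le] at h1 h2 ⊢
        have h3 : (M : ℤ) * s ≤ M * t := by
          apply mul_le_mul_of_nonneg_left _ (by positivity)
          exact_mod_cast (by omega : s ≤ t)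
        have h4 : (0 : ℤ) ≤ (M : ℤ) * s := by positivity
        constructor
        · linarith [h1.1]
        · linarith [h2.2]
      have h5 := hC (n + M * s) hb
      have h6 : n + (M : ℤ) * ((s + 1 : ℕ) : ℤ) = n + M * s + M := by push_cast; ring
      rw [h6]
      have h7 : |(H B (n + M * s + M) : ℤ) - H B n| ≤ |(H B (n + M * s + M) : ℤ) - H B (n + M * s)| +
          |(H B (n + M * s) : ℤ) - H B n| := abs_sub_le _ _ _
      calc (B : ℤ) ^ 2 * |(H B (n + M * s + M) : ℤ) - H B n|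
          ≤ (B : ℤ) ^ 2 * (|(H B (n + M * s + M) : ℤ) - H B (n + M * s)| + |(H B (n + M * s) : ℤ) - H B n|) := by
            gcongr
        _ ≤ (C : ℤ) * (B : ℤ) ^ (2 * g) * ((s + 1 : ℕ) : ℤ) := by push_cast; linarith
  exact key t le_rfl

include hom step in
/-- The rank function is Lipschitz on bounded intervals. -/
theorem lipschitz (R : ℕ) : ∃ C : ℚ, ∀ x y : ℚ, |x| ≤ R → |y| ≤ R → |f g H x - f g H y| ≤ C * |x - y| := by
  obtain ⟨M, hM, hstep⟩ := step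
  obtain ⟨C, hC⟩ := hstep R
  refine ⟨C, ?_⟩
  have aux : ∀ x y : ℚ, x ≤ y → |x| ≤ R → |y| ≤ R → |f g H y - f g H x| ≤ C * (y - x) := by
    intro x y hxy hx hy
    set B : ℕ := M * x.den * y.den with hB
    have hdx := x.den_pos
    have hdy := y.den_pos
    have hB1 : 1 ≤ B := Nat.mul_pos (Nat.mul_pos hM hdx) hdy
    have hBQ : (0 : ℚ) < B := by exact_mod_cast hB1
    have hx1 : (x.num : ℚ) = x * x.den := (Rat.mul_den_eq_num x).symm
    have hy1 : (y.num : ℚ) = y * y.den := (Rat.mul_den_eq_num y).symm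
    set u : ℤ := x.num * x.den * M * y.den ^ 2 with hu
    set v : ℤ := y.num * y.den * M * x.den ^ 2 with hv
    have hnx : (((M : ℤ) * u : ℤ) : ℚ) = x * (B : ℚ) ^ 2 := by
      rw [hu, hB]; push_cast; rw [hx1]; ring
    have hny : (((M : ℤ) * v : ℤ) : ℚ) = y * (B : ℚ) ^ 2 := by
      rw [hv, hB]; push_cast; rw [hy1]; ring
    have hMQ : (0 : ℚ) < M := by exact_mod_cast hM
    have huv : u ≤ v := by
      have h1 : ((M : ℤ) * u : ℤ) ≤ (M : ℤ) * v := by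
        have : (((M : ℤ) * u : ℤ) : ℚ) ≤ (((M : ℤ) * v : ℤ) : ℚ) := by
          rw [hnx, hny]; gcongr
        exact_mod_cast this
      exact le_of_mul_le_mul_left h1 (by exact_mod_cast hM)
    obtain ⟨t, ht⟩ : ∃ t : ℕ, v = u + t := ⟨(v - u).toNat, by omega⟩
    have hvt : (M : ℤ) * v = M * u + M * t := by rw [ht]; ring
    have bound : ∀ (z : ℚ) (n : ℤ), |z| ≤ R → (n : ℚ) = z * (B : ℚ) ^ 2 → |n| ≤ (R : ℤ) * (B : ℤ) ^ 2 := by
      intro z n hz hn
      have : |(n : ℚ)| ≤ R * (B : ℚ) ^ 2 := by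
        rw [hn, abs_mul, abs_of_pos (by positivity : (0 : ℚ) < (B : ℚ) ^ 2)]
        gcongr
      exact_mod_cast this
    have key := telescope g H (M := M) (C := C) (R := R) (B := B) (fun n hn => hC B n hB1 hn) (M * u) t
      (bound x _ hx hnx) (by rw [← hvt]; exact bound y _ hy hny)
    rw [← hvt] at key
    have hkey : ((B : ℚ) ^ 2) * |(H B (M * v) : ℚ) - H B (M * u)| ≤ (C : ℚ) * (B : ℚ) ^ (2 * g) * t := by
      have h9 : (((B : ℤ) ^ 2 * |(H B (M * v) : ℤ) - H B (M * u)| : ℤ) : ℚ) ≤ (((C : ℤ) * (B : ℤ) ^ (2 * g) * t : ℤ) : ℚ) := by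
        exact_mod_cast key
      push_cast at h9
      exact h9
    rw [f_eq g H hom y hB1 hny, f_eq g H hom x hB1 hnx, G, G, ← sub_div, abs_div,
      abs_of_pos (by positivity : (0 : ℚ) < (B : ℚ) ^ (2 * g)), div_le_iff₀ (by positivity)]
    have ht' : (M : ℚ) * t = (y - x) * (B : ℚ) ^ 2 := by
      have : (((M : ℤ) * v : ℤ) : ℚ) = (((M : ℤ) * u : ℤ) : ℚ) + M * t := by rw [hvt]; push_cast; ring
      rw [hnx, hny] at this
      linarith
    have ht'' : (t : ℚ) ≤ (y - x) * (B : ℚ) ^ 2 := by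
      rw [← ht']
      have : (1 : ℚ) ≤ M := by exact_mod_cast hM
      nlinarith [(by positivity : (0 : ℚ) ≤ (t : ℚ))]
    have hfin : ((B : ℚ) ^ 2) * |(H B (M * v) : ℚ) - H B (M * u)| ≤
        ((B : ℚ) ^ 2) * (C * (y - x) * (B : ℚ) ^ (2 * g)) := by
      refine hkey.trans ?_
      calc (C : ℚ) * (B : ℚ) ^ (2 * g) * t ≤ (C : ℚ) * (B : ℚ) ^ (2 * g) * ((y - x) * (B : ℚ) ^ 2) := by gcongr
        _ = _ := by ring
    exact le_of_mul_le_mul_left hfin (by positivity)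
  intro x y hx hy
  rcases le_total x y with h | h
  · rw [abs_sub_comm, abs_sub_comm x y, abs_of_nonneg (sub_nonneg.mpr h)]
    exact aux x y h hx hy
  · rw [abs_of_nonneg (sub_nonneg.mpr h)]
    exact aux y x h hy hx

include hom step in
/-- **Continuity.** -/
theorem exists_continuous : ∃ F : ℝ → ℝ, Continuous F ∧ (∀ q : ℚ, F q = (f g H q : ℝ)) := by
  refine LipExt.exists_continuous_extension (fun q => (f g H q : ℝ)) fun R => ?_
  obtain ⟨C, hC⟩ := lipschitz g H hom step R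
  refine ⟨C, fun x y hx hy => ?_⟩
  have := hC x y hx hy
  exact_mod_cast this

end K526.RankNum
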