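import Groth.Agent.AbVar.K526.Van
import Groth.Agent.AbVar.K526.RankNum
/-!
# Cohomological rank functions are Lipschitz on bounded intervals
-/

set_option autoImplicit false
universe u
open CategoryTheory CategoryTheory.Limits AlgebraicGeometry
open Groth.Agent Groth.Agent.Fga.PicMon Groth.Agent.Fga Groth.Agent.Pic13.H11.Cls

namespace K526

open Cut

/-- For a coherent class there are finitely many points such that sections generating there are regular. -/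
theorem exists_finite_reg {X : Scheme.{u}} [IsNoetherian X] {c : MC X} (hc : Co c) : ∃ S : Set X, S.Finite ∧
    ∀ (N : X.Modules) (_ : PicF.IsInvertible N) (s : Coh.structureModule X ⟶ N), S ⊆ CohB1.genLocus N s → Reg s c := by
  induction c using MC.ind with | h F => ?_
  exact ⟨AssSch.Ass F, Fdesc.SubFilt.finite_ass hc, fun N hN s h => reg_of_ass s hN hc h⟩

theorem exists_finite_reg_list {X : Scheme.{u}} [IsNoetherian X] (l : List (MC X)) (hl : ∀ x ∈ l, Co x) : ∃ S : Set X, S.Finite ∧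
    ∀ (N : X.Modules) (_ : PicF.IsInvertible N) (s : Coh.structureModule X ⟶ N), S ⊆ CohB1.genLocus N s →
      ∀ x ∈ l, Reg s x := by
  induction l with
  | nil => exact ⟨∅, Set.finite_empty, fun N hN s _ x hx => absurd hx (List.not_mem_nil)⟩
  | cons a l ih =>
    obtain ⟨S, hS, hS'⟩ := ih fun x hx => hl x (List.mem_cons_of_mem _ hx)
    obtain ⟨T, hT, hT'⟩ := exists_finite_reg (hl a List.mem_cons_self)
    refine ⟨S ∪ T, hS.union hT, fun N hN s h x hx => ?_⟩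
    rcases List.mem_cons.mp hx with rfl | hx
    · exact hT' N hN s (Set.subset_union_right.trans h)
    · exact hS' N hN s (Set.subset_union_left.trans h) x hx

theorem pl_smul {X : Scheme.{u}} (pl : ℕ → MC X →* MC X) (b : ℕ) (w : (MC X)ˣ) (c : MC X) : pl b (w • c) = Units.map (pl b) w • pl b c := by
  rw [smul_def, map_mul]; rfl

variable {k : Type u} [Field k] {X : Scheme.{u}} [X.Over (Spec (CommRingCat.of k))]
  [IsProper (X ↘ Spec (CommRingCat.of k))] [IsIntegral X] {g : ℕ} {η : (MC X)ˣ} {P0 : Subgroup (MC X)ˣ}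
  {pl : ℕ → MC X →* MC X} (H : Ctx k g η P0 pl)

include H

omit [IsProper (X ↘ Spec (CommRingCat.of k))] [IsIntegral X] in
theorem Ctx.pl_eta {b : ℕ} (hb : 1 ≤ b) (n : ℤ) :
    ∃ u ∈ P0, Units.map (pl b) (η ^ n) = u * η ^ ((b : ℤ) ^ 2 * n) := by
  obtain ⟨u, hu, h⟩ := H.eta b hb
  refine ⟨u ^ n, P0.zpow_mem hu n, ?_⟩
  rw [map_zpow, h, mul_zpow, ← zpow_natCast, ← zpow_mul]
  push_cast
  rfl

theorem Ctx.cut_bound (M : ℕ) (t : ℕ) : ∀ j : ℕ, g ≤ j + t → ∀ c : MC X, Co c →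
    ∃ l : List (MC X), (∀ x ∈ l, Co x) ∧ ∀ R : ℕ, ∃ C : ℕ, ∀ B : ℕ, 1 ≤ B → ∀ (N : X.Modules) (_ : PicF.IsInvertible N)
      (_ : mc N = ((η ^ M : (MC X)ˣ) : MC X)) (s : Coh.structureModule X ⟶ N)
      (_ : genericPoint X ∈ CohB1.genLocus N s), (∀ x ∈ l, Reg s (pl B x)) → ∀ u ∈ P0, ∀ n : ℤ, n.natAbs ≤ R * B ^ 2 →
        B ^ 2 * h k j (cutC s ((u * η ^ n : (MC X)ˣ) • pl B c)) ≤ C * B ^ (2 * g) := by
  have := IntAdd.isNoetherian k X
  -- degrees at least `g`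
  have base : ∀ j : ℕ, g ≤ j → ∀ c : MC X, Co c →
    ∃ l : List (MC X), (∀ x ∈ l, Co x) ∧ ∀ R : ℕ, ∃ C : ℕ, ∀ B : ℕ, 1 ≤ B → ∀ (N : X.Modules) (_ : PicF.IsInvertible N)
      (_ : mc N = ((η ^ M : (MC X)ˣ) : MC X)) (s : Coh.structureModule X ⟶ N)
      (_ : genericPoint X ∈ CohB1.genLocus N s), (∀ x ∈ l, Reg s (pl B x)) → ∀ u ∈ P0, ∀ n : ℤ, n.natAbs ≤ R * B ^ 2 →
        B ^ 2 * h k j (cutC s ((u * η ^ n : (MC X)ˣ) • pl B c)) ≤ C * B ^ (2 * g) := by
    intro j hj c hc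
    refine ⟨[], by simp, fun R => ⟨0, fun B hB N hN hNM s hgen _ u hu n hn => ?_⟩⟩
    have hco : Co ((u * η ^ n : (MC X)ˣ) • pl B c) := (H.co B hB c hc).smul _
    have hT : Co (cutC s ((u * η ^ n : (MC X)ˣ) • pl B c)) := co_cutC s hN hco
    have hgenT : genericPoint X ∉ supp (cutC s ((u * η ^ n : (MC X)ˣ) • pl B c)) := by
      rw [supp_cutC s hN hco]
      exact fun h => h.2 hgen
    rw [h_eq_zero k (V_of_generic k hT hgenT H.dim.le hj), mul_zero]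
    exact Nat.zero_le _
  induction t with
  | zero => exact fun j hj => base j hj
  | succ t ih =>
    intro j hj c hc
    by_cases hjg : g ≤ j
    · exact base j hjg c hc
    obtain ⟨a, r, K, hK⟩ := H.quot c hc
    obtain ⟨l, hl, hl'⟩ := ih (j + 1) (by omega) K hK.co₁
    obtain ⟨CA, hCA⟩ := H.cut_unit (by omega) M
    refine ⟨1 :: c :: l, ?_, fun R => ?_⟩
    · intro x hx
      rcases List.mem_cons.mp hx with rfl | hx
      · exact co_one
      rcases List.mem_cons.mp hx with rfl | hx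
      · exact hc
      · exact hl x hx
    obtain ⟨C', hC'⟩ := hl' (R + a)
    refine ⟨r * CA * (R + a + 1) ^ (g - 1) + C', fun B hB N hN hNM s hgen hreg u hu n hn => ?_⟩
    have h1 : Reg s 1 := by
      have := hreg 1 List.mem_cons_self
      rwa [map_one] at this
    have hcreg : Reg s (pl B c) := hreg c (List.mem_cons_of_mem _ List.mem_cons_self)
    obtain ⟨v, hv, hev⟩ := H.pl_eta hB (a : ℤ)
    -- the twisted sequence
    have hseq := H.ses B hB _ _ _ hK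
    rw [H.free B hB, ← zpow_natCast, pl_smul, hev] at hseq
    set u₁ : (MC X)ˣ := u * v⁻¹ with hu₁
    set n₁ : ℤ := n - (B : ℤ) ^ 2 * a with hn₁
    have hu₁' : u₁ ∈ P0 := P0.mul_mem hu (P0.inv_mem hv)
    have hw : u₁ * η ^ n₁ * (v * η ^ ((B : ℤ) ^ 2 * a)) = u * η ^ n := by
      rw [hu₁, hn₁, zpow_sub]
      have e1 : u * v⁻¹ * (η ^ n * (η ^ ((B : ℤ) ^ 2 * a))⁻¹) * (v * η ^ ((B : ℤ) ^ 2 * a)) =
        u * η ^ n * (v⁻¹ * v) * ((η ^ ((B : ℤ) ^ 2 * a))⁻¹ * η ^ ((B : ℤ) ^ 2 * a)) := by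
        ac_rfl
      rw [e1, inv_mul_cancel, inv_mul_cancel, mul_one, mul_one]
    have hseq' := hseq.smul (u₁ * η ^ n₁)
    rw [smul_smul, hw] at hseq'
    have hR1 : Reg s ((u₁ * η ^ n₁) • fr X r) := reg_smul s (reg_fr s hN h1 r) _
    have hR2 : Reg s ((u * η ^ n : (MC X)ˣ) • pl B c) := reg_smul s hcreg _
    have hcut := (ses_cutC s hN hseq' hR1 hR2).2
    have hle := hcut.h_right_le k j
    have hfr := h_cut_fr s k hN h1 (u₁ * η ^ n₁) j r
    have hun := hCA N hN hNM s h1 hgen u₁ hu₁' n₁ j (by omega)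
    have hn₁' : n₁.natAbs ≤ (R + a) * B ^ 2 := by
      have e1 : n₁.natAbs ≤ n.natAbs + ((B : ℤ) ^ 2 * a).natAbs := by
        rw [hn₁]; exact Int.natAbs_sub_le _ _
      have e2 : ((B : ℤ) ^ 2 * a).natAbs = B ^ 2 * a := by
        have : ((B : ℤ) ^ 2 * a) = ((B ^ 2 * a : ℕ) : ℤ) := by push_cast; rfl
        rw [this, Int.natAbs_natCast]
      rw [e2] at e1
      nlinarith
    have hK' := hC' B hB N hN hNM s hgen (fun x hx => hreg x (List.mem_cons_of_mem _ (List.mem_cons_of_mem _ hx)))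
      u₁ hu₁' n₁ hn₁'
    -- combine
    have hpow : B ^ 2 * (n₁.natAbs + 1) ^ (g - 1) ≤ (R + a + 1) ^ (g - 1) * B ^ (2 * g) := by
      have e1 : n₁.natAbs + 1 ≤ (R + a + 1) * B ^ 2 := by
        have : 1 ≤ B ^ 2 := Nat.one_le_pow _ _ hB
        nlinarith
      have e2 : (n₁.natAbs + 1) ^ (g - 1) ≤ ((R + a + 1) * B ^ 2) ^ (g - 1) := Nat.pow_le_pow_left e1 _
      calc B ^ 2 * (n₁.natAbs + 1) ^ (g - 1) ≤ B ^ 2 * ((R + a + 1) * B ^ 2) ^ (g - 1) := Nat.mul_le_mul_left _ e2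
        _ = (R + a + 1) ^ (g - 1) * (B ^ 2 * (B ^ 2) ^ (g - 1)) := by rw [mul_pow]; ring
        _ = (R + a + 1) ^ (g - 1) * B ^ (2 * g) := by
          rw [← pow_succ', ← pow_mul]
          congr 2
          omega
    calc B ^ 2 * h k j (cutC s ((u * η ^ n : (MC X)ˣ) • pl B c))
        ≤ B ^ 2 * (h k j (cutC s ((u₁ * η ^ n₁) • fr X r)) + h k (j + 1) (cutC s ((u₁ * η ^ n₁) • pl B K))) :=
          Nat.mul_le_mul_left _ hle
      _ ≤ B ^ 2 * (r * (CA * (n₁.natAbs + 1) ^ (g - 1)) + h k (j + 1) (cutC s ((u₁ * η ^ n₁) • pl B K))) := by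
          refine Nat.mul_le_mul_left _ (Nat.add_le_add_right (hfr.trans (Nat.mul_le_mul_left _ hun)) _)
      _ = r * CA * (B ^ 2 * (n₁.natAbs + 1) ^ (g - 1)) + B ^ 2 * h k (j + 1) (cutC s ((u₁ * η ^ n₁) • pl B K)) := by ring
      _ ≤ r * CA * ((R + a + 1) ^ (g - 1) * B ^ (2 * g)) + C' * B ^ (2 * g) :=
          Nat.add_le_add (Nat.mul_le_mul_left _ hpow) hK'
      _ = (r * CA * (R + a + 1) ^ (g - 1) + C') * B ^ (2 * g) := by ring

/-- The generic rank of `B^* c ⊗ η^n`. -/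
noncomputable def HH (k : Type u) [Field k] {X : Scheme.{u}} [X.Over (Spec (CommRingCat.of k))] (η : (MC X)ˣ)
    (P0 : Subgroup (MC X)ˣ) (pl : ℕ → MC X →* MC X) (i : ℕ) (c : MC X) (B : ℕ) (n : ℤ) : ℕ :=
  hg k P0 i (η ^ n • pl B c)

omit [IsProper (X ↘ Spec (CommRingCat.of k))] [IsIntegral X] in
theorem Ctx.hom (i : ℕ) {c : MC X} (hc : Co c) (m B : ℕ) (n : ℤ) (hm : 1 ≤ m) (hB : 1 ≤ B) :
    HH k η P0 pl i c (m * B) ((m : ℤ) ^ 2 * n) = m ^ (2 * g) * HH k η P0 pl i c B n := by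
  have h1 := H.hgmul m hm (η ^ n • pl B c) ((H.co B hB c hc).smul _) i
  obtain ⟨v, hv, hev⟩ := H.pl_eta hm n
  rw [pl_smul, H.mul m B hm hB, hev, ← smul_smul, hg_smul k P0 i _ hv] at h1
  exact h1

theorem Ctx.step [Infinite k] (i : ℕ) {c : MC X} (hc : Co c) : ∃ M : ℕ, 1 ≤ M ∧ ∀ R : ℕ, ∃ C : ℕ, ∀ (B : ℕ) (n : ℤ),
    1 ≤ B → |n| ≤ (R : ℤ) * (B : ℤ) ^ 2 → (B : ℤ) ^ 2 * |(HH k η P0 pl i c B (n + M) : ℤ) - HH k η P0 pl i c B n| ≤
      (C : ℤ) * (B : ℤ) ^ (2 * g) := by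
  have := IntAdd.isNoetherian k X
  obtain ⟨M, N, hM, hN, hNM, hgg⟩ := H.gg
  refine ⟨M, hM, fun R => ?_⟩
  obtain ⟨l₁, hl₁, hl₁'⟩ := H.cut_bound M g i (by omega) c hc
  obtain ⟨l₂, hl₂, hl₂'⟩ := H.cut_bound M g (i - 1) (by omega) c hc
  obtain ⟨C₁, hC₁⟩ := hl₁' R
  obtain ⟨C₂, hC₂⟩ := hl₂' R
  refine ⟨C₁ + C₂, fun B n hB hn => ?_⟩
  -- a section
  obtain ⟨S, hS, hS'⟩ := exists_finite_reg_list ((c :: (l₁ ++ l₂)).map (pl B)) (by
    intro x hx
    obtain ⟨y, hy, rfl⟩ := List.mem_map.mp hx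
    refine H.co B hB y ?_
    rcases List.mem_cons.mp hy with rfl | hy
    · exact hc
    rcases List.mem_append.mp hy with hy | hy
    · exact hl₁ y hy
    · exact hl₂ y hy)
  obtain ⟨s, hs⟩ := Reg.exists_section k hN hgg (insert (genericPoint X) S) (hS.insert _)
  have hgen : genericPoint X ∈ CohB1.genLocus N s := hs (Set.mem_insert _ _)
  have hreg := hS' N hN s ((Set.subset_insert _ _).trans hs)
  have hr0 : Reg s (pl B c) := hreg _ (List.mem_map.mpr ⟨c, List.mem_cons_self, rfl⟩)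
  have hr1 : ∀ x ∈ l₁, Reg s (pl B x) := fun x hx =>
    hreg _ (List.mem_map.mpr ⟨x, List.mem_cons_of_mem _ (List.mem_append_left _ hx), rfl⟩)
  have hr2 : ∀ x ∈ l₂, Reg s (pl B x) := fun x hx =>
    hreg _ (List.mem_map.mpr ⟨x, List.mem_cons_of_mem _ (List.mem_append_right _ hx), rfl⟩)
  have hn' : n.natAbs ≤ R * B ^ 2 := by
    rw [Int.abs_eq_natAbs] at hn
    exact_mod_cast hn
  -- the sequences
  have hses : ∀ u : (MC X)ˣ, Ses ((u * η ^ n : (MC X)ˣ) • pl B c) ((u * η ^ (n + M) : (MC X)ˣ) • pl B c)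
      (cutC s ((u * η ^ n : (MC X)ˣ) • pl B c)) := by
    intro u
    have h1 := ses_cut s hN ((H.co B hB c hc).smul (u * η ^ n)) (reg_smul s hr0 (u * η ^ n))
    have h2 : unit hN • (u * η ^ n : (MC X)ˣ) • pl B c = (u * η ^ (n + M) : (MC X)ˣ) • pl B c := by
      have h3 : unit hN = η ^ M := Units.ext (by rw [unit_val, hNM])
      rw [h3, smul_smul, zpow_add, zpow_natCast]
      congr 1
      rw [mul_left_comm, mul_comm (η ^ M)]
    rwa [h2] at h1
  obtain ⟨u, hu, hue⟩ := exists_hg k P0 i (η ^ n • pl B c)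
  obtain ⟨u', hu', hue'⟩ := exists_hg k P0 i (η ^ (n + M) • pl B c)
  have k1 : HH k η P0 pl i c B (n + M) ≤ HH k η P0 pl i c B n + h k i (cutC s ((u * η ^ n : (MC X)ˣ) • pl B c)) := by
    have h1 := (hses u).h_right_le k i
    have h2 := (hses u).h_le k i
    have h3 := hg_le k P0 i (η ^ (n + M) • pl B c) hu
    rw [smul_smul] at h3 hue
    rw [hue] at h2
    exact h3.trans h2
  have k2 : HH k η P0 pl i c B n ≤ HH k η P0 pl i c B (n + M) +
      h k (i - 1) (cutC s ((u' * η ^ n : (MC X)ˣ) • pl B c)) := by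
    have h3 := hg_le k P0 i (η ^ n • pl B c) hu'
    rw [smul_smul] at h3 hue'
    refine h3.trans ?_
    rcases i with _ | i
    · have h2 := (hses u').h_zero_le k
      rw [hue'] at h2
      exact h2.trans (Nat.le_add_right _ _)
    · have h2 := (hses u').h_left_le k i
      rw [hue'] at h2
      exact h2.trans (add_comm _ _).le
  have b1 := hC₁ B hB N hN hNM s hgen hr1 u hu n hn'
  have b2 := hC₂ B hB N hN hNM s hgen hr2 u' hu' n hn'
  have k3 : |(HH k η P0 pl i c B (n + M) : ℤ) - HH k η P0 pl i c B n| ≤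
      (h k i (cutC s ((u * η ^ n : (MC X)ˣ) • pl B c)) : ℤ) +
        h k (i - 1) (cutC s ((u' * η ^ n : (MC X)ˣ) • pl B c)) := by
    rw [abs_le]
    constructor <;> omega
  calc (B : ℤ) ^ 2 * |(HH k η P0 pl i c B (n + M) : ℤ) - HH k η P0 pl i c B n|
      ≤ (B : ℤ) ^ 2 * ((h k i (cutC s ((u * η ^ n : (MC X)ˣ) • pl B c)) : ℤ) +
        h k (i - 1) (cutC s ((u' * η ^ n : (MC X)ˣ) • pl B c))) := by gcongr
    _ ≤ ((C₁ + C₂ : ℕ) : ℤ) * (B : ℤ) ^ (2 * g) := by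
        have b3 : B ^ 2 * (h k i (cutC s ((u * η ^ n : (MC X)ˣ) • pl B c)) +
            h k (i - 1) (cutC s ((u' * η ^ n : (MC X)ˣ) • pl B c))) ≤ (C₁ + C₂) * B ^ (2 * g) := by
          rw [mul_add, add_mul]
          exact Nat.add_le_add b1 b2
        exact_mod_cast b3

/-- **Continuity of rank functions**, abstract form. -/
theorem Ctx.exists_continuous [Infinite k] (i : ℕ) {c : MC X} (hc : Co c) : ∃ F : ℝ → ℝ, Continuous F ∧
    ∀ q : ℚ, F q = (RankNum.f g (HH k η P0 pl i c) q : ℝ) :=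
  RankNum.exists_continuous g _ (fun m B n hm hB => H.hom i hc m B n hm hB) (H.step i hc)

end K526
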