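import Mathlib.Topology.Instances.Real.Lemmas
import Mathlib.Topology.MetricSpace.Cauchy
import Mathlib.Topology.DenseEmbedding
import Mathlib.Topology.Instances.RatLemmas
import Mathlib.Tactic
/-!
# Continuous extension of a locally Lipschitz function on the rationals
-/

set_option autoImplicit false

open Filter Topology

namespace K526.LipExt

/-- A function on `ℚ` which is Lipschitz on bounded sets extends to a continuous function on `ℝ`. -/
theorem exists_continuous_extension (f : ℚ → ℝ)
    (h : ∀ R : ℕ, ∃ C : ℝ, ∀ x y : ℚ, |x| ≤ R → |y| ≤ R → |f x - f y| ≤ C * |(x : ℝ) - y|) :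
    ∃ F : ℝ → ℝ, Continuous F ∧ ∀ q : ℚ, F q = f q := by
  have di : IsDenseInducing ((↑) : ℚ → ℝ) := Rat.isDenseEmbedding_coe_real.isDenseInducing
  have key : ∀ b : ℝ, Cauchy (map f (comap ((↑) : ℚ → ℝ) (𝓝 b))) := by
    intro b
    have hne : (comap ((↑) : ℚ → ℝ) (𝓝 b)).NeBot := di.comap_nhds_neBot b
    rw [Metric.cauchy_iff]
    refine ⟨inferInstance, fun ε hε => ?_⟩
    obtain ⟨R, hR⟩ := exists_nat_gt (|b| + 1)
    obtain ⟨C, hC⟩ := h R
    set D : ℝ := |C| + 1 with hD
    have hDpos : 0 < D := by positivity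
    set δ : ℝ := min 1 (ε / (2 * D)) with hδ
    have hδpos : 0 < δ := lt_min one_pos (by positivity)
    refine ⟨f '' {q : ℚ | |(q : ℝ) - b| < δ}, image_mem_map ?_, ?_⟩
    · refine ⟨Metric.ball b δ, Metric.ball_mem_nhds b hδpos, fun q hq => ?_⟩
      rw [Set.mem_preimage, Metric.mem_ball, Real.dist_eq] at hq
      exact hq
    · rintro _ ⟨x, hx, rfl⟩ _ ⟨y, hy, rfl⟩
      have bound : ∀ z : ℚ, |(z : ℝ) - b| < δ → |z| ≤ (R : ℚ) := by
        intro z hz
        have h1 : |(z : ℝ)| ≤ |b| + 1 := by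
          have : |(z : ℝ) - b| < 1 := lt_of_lt_of_le hz (min_le_left _ _)
          have h2 : |(z : ℝ)| ≤ |(z : ℝ) - b| + |b| := by
            have := abs_add_le ((z : ℝ) - b) b
            rwa [sub_add_cancel] at this
          linarith
        have h3 : |(z : ℝ)| ≤ (R : ℝ) := le_trans h1 hR.le
        exact_mod_cast h3
      have h1 := hC x y (bound x hx) (bound y hy)
      have hx' : |(x : ℝ) - b| < δ := hx
      have hy' : |(y : ℝ) - b| < δ := hy
      have h2 : |(x : ℝ) - y| < 2 * δ := by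
        have : |(x : ℝ) - y| ≤ |(x : ℝ) - b| + |(y : ℝ) - b| := by
          have h4 : (x : ℝ) - y = ((x : ℝ) - b) - ((y : ℝ) - b) := by ring
          rw [h4]
          exact abs_sub _ _
        linarith
      have h3 : δ ≤ ε / (2 * D) := min_le_right _ _
      rw [Real.dist_eq]
      calc |f x - f y| ≤ C * |(x : ℝ) - y| := h1
        _ ≤ D * |(x : ℝ) - y| := by
            apply mul_le_mul_of_nonneg_right _ (abs_nonneg _)
            rw [hD]; linarith [le_abs_self C]
        _ < D * (2 * δ) := by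
            apply mul_lt_mul_of_pos_left h2 hDpos
        _ ≤ D * (2 * (ε / (2 * D))) := by gcongr
        _ = ε := by field_simp
  have hlim : ∀ b : ℝ, ∃ c : ℝ, Tendsto f (comap ((↑) : ℚ → ℝ) (𝓝 b)) (𝓝 c) := by
    intro b
    obtain ⟨c, hc⟩ := CompleteSpace.complete (key b)
    exact ⟨c, hc⟩
  refine ⟨di.extend f, di.continuous_extend hlim, fun q => ?_⟩
  have hcont : ContinuousAt f q := by
    obtain ⟨c, hc⟩ := hlim q
    rw [← di.nhds_eq_comap] at hc
    have h1 : c = f q := (tendsto_nhds_unique hc (by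
      have := hc.mono_left (pure_le_nhds q)
      have h2 : Tendsto f (pure q) (𝓝 (f q)) := tendsto_pure_nhds f q
      exact (tendsto_nhds_unique this h2) ▸ hc))
    rw [h1] at hc
    exact hc
  exact di.extend_eq_at hcont

end K526.LipExt
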