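import Groth.Agent.AbVar.K526.HilbNum
import Mathlib.Algebra.Polynomial.Taylor
import Mathlib.Algebra.Order.Archimedean.Basic
/-!
# Bounds for polynomials and their differences
-/

set_option autoImplicit false

open Polynomial

namespace K526.HilbNum

theorem eval_bound {g : ℕ} (P : ℚ[X]) (hP : P.natDegree ≤ g) :
    ∃ C : ℕ, ∀ n : ℤ, |P.eval (n : ℚ)| ≤ C * ((|n| : ℤ) + 1 : ℚ) ^ g := by
  obtain ⟨C, hC⟩ := exists_nat_ge (∑ j ∈ Finset.range (g + 1), |P.coeff j|)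
  refine ⟨C, fun n => ?_⟩
  rw [P.eval_eq_sum_range' (Nat.lt_succ_of_le hP)]
  have h1 : (1 : ℚ) ≤ ((|n| : ℤ) + 1 : ℚ) := by
    have : (0 : ℚ) ≤ ((|n| : ℤ) : ℚ) := by exact_mod_cast abs_nonneg n
    linarith
  calc |∑ j ∈ Finset.range (g + 1), P.coeff j * (n : ℚ) ^ j|
      ≤ ∑ j ∈ Finset.range (g + 1), |P.coeff j * (n : ℚ) ^ j| := Finset.abs_sum_le_sum_abs _ _
    _ ≤ ∑ j ∈ Finset.range (g + 1), |P.coeff j| * ((|n| : ℤ) + 1 : ℚ) ^ g := by
        refine Finset.sum_le_sum fun j hj => ?_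
        rw [abs_mul, abs_pow]
        refine mul_le_mul_of_nonneg_left ?_ (abs_nonneg _)
        have h2 : |(n : ℚ)| ≤ ((|n| : ℤ) + 1 : ℚ) := by push_cast; linarith
        refine (pow_le_pow_left₀ (abs_nonneg _) h2 j).trans ?_
        exact pow_le_pow_right₀ h1 (Nat.lt_succ_iff.mp (Finset.mem_range.mp hj))
    _ ≤ C * ((|n| : ℤ) + 1 : ℚ) ^ g := by
        rw [← Finset.sum_mul]
        gcongr

theorem natDegree_diff {g : ℕ} (P : ℚ[X]) (hP : P.natDegree ≤ g) (M : ℚ) (hg : 1 ≤ g) :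
    (P.comp (X + C M) - P).natDegree ≤ g - 1 := by
  refine natDegree_le_iff_coeff_eq_zero.mpr fun N hN => ?_
  have hcd : (P.comp (X + C M)).natDegree ≤ g := by
    rw [natDegree_comp, natDegree_X_add_C, mul_one]; exact hP
  rw [coeff_sub]
  rcases Nat.lt_or_ge g N with h | h
  · rw [coeff_eq_zero_of_natDegree_lt (lt_of_le_of_lt hcd h), coeff_eq_zero_of_natDegree_lt (lt_of_le_of_lt hP h), sub_zero]
  · have hN' : N = g := by omega
    subst hN'
    rcases hP.lt_or_eq with h1 | h1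
    · rw [coeff_eq_zero_of_natDegree_lt h1, coeff_eq_zero_of_natDegree_lt, sub_zero]
      rw [natDegree_comp, natDegree_X_add_C, mul_one]; exact h1
    · have h2 : (P.comp (X + C M)).leadingCoeff = P.leadingCoeff := by
        rw [leadingCoeff_comp (by rw [natDegree_X_add_C]; exact one_ne_zero), leadingCoeff_X_add_C, one_pow, mul_one]
      have h3 : (P.comp (X + C M)).natDegree = N := by rw [natDegree_comp, natDegree_X_add_C, mul_one, h1]
      rw [leadingCoeff, leadingCoeff, h3, h1] at h2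
      rw [h2, sub_self]

theorem diff_bound {g : ℕ} (P : ℚ[X]) (hP : P.natDegree ≤ g) (M : ℤ) (hg : 1 ≤ g) :
    ∃ C : ℕ, ∀ n : ℤ, |P.eval ((n + M : ℤ) : ℚ) - P.eval (n : ℚ)| ≤ C * ((|n| : ℤ) + 1 : ℚ) ^ (g - 1) := by
  obtain ⟨C, hC⟩ := eval_bound _ (natDegree_diff P hP (M : ℚ) hg)
  refine ⟨C, fun n => ?_⟩
  have := hC n
  rwa [eval_sub, eval_comp, eval_add, eval_X, eval_C, ← Int.cast_add] at this

end K526.HilbNum
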