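import Groth.Agent.AbVar.K526.SpecK
import Groth.Agent.AbVar.K518.Phi
import Groth.Agent.Pic13.H11.NumU
/-!
# Classes of modules on the square of an abelian variety

* `um_toU`: pullback of the class of an element of `Pic`;
* `isPullback_whiskerLeft`, `isPullback_whiskerRight`, `isPullback_mu`: the cartesian squares used below;
* `h_pm_iso`: cohomology is invariant under isomorphisms;
* `R_mu`: `R^j p_*(p^*c ⊗ μ^*m) = c ⊗ h^j(m)`.
-/

set_option autoImplicit false
universe u
open CategoryTheory CategoryTheory.Limits MonoidalCategory CartesianMonoidalCategory AlgebraicGeometry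
open scoped MonObj
open Groth.Agent Groth.Agent.Fga.PicMon Groth.Agent.Fga Groth.Agent.Pic13.H11.Cls Groth.Agent.Pic13.H11.NumU
  Groth.Agent.Grpsch.PicGrp Groth.Agent.Grpsch.Cube

namespace K526.Prod

open Cut PullM K518.Phi

/-- everything is flat over a field -/
theorem flat_over_field {K : Type u} [Field K] {Y : Scheme.{u}} (q : Y ⟶ Spec (CommRingCat.of K))
    (M : Y.Modules) : FlatMod.IsFlatOver q M := by
  intro x
  unfold FlatMod.IsFlatOverAt
  let _ := FlatMod.moduleStalkOver q M x
  let _ : Algebra K ((Spec (CommRingCat.of K)).presheaf.stalk (q.base x)) :=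
    StructureSheaf.stalkAlgebra (R := K) (q.base x)
  have : IsLocalization.AtPrime ((Spec (CommRingCat.of K)).presheaf.stalk (q.base x)) (q.base x).asIdeal :=
    StructureSheaf.IsLocalization.to_stalk K (q.base x)
  let _ : Module K (M.presheaf.stalk x) :=
    Module.compHom _ (algebraMap K ((Spec (CommRingCat.of K)).presheaf.stalk (q.base x)))
  have : IsScalarTower K ((Spec (CommRingCat.of K)).presheaf.stalk (q.base x)) (M.presheaf.stalk x) :=
    IsScalarTower.of_algebraMap_smul fun _ _ => rfl
  rw [Module.flat_iff_of_isLocalization (R := K) ((Spec (CommRingCat.of K)).presheaf.stalk (q.base x))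
    (q.base x).asIdeal.primeCompl]
  infer_instance

theorem um_toU {X Y : Scheme.{u}} (f : X ⟶ Y) (x : Pic Y) : Units.map (pm f) (toU x) = toU (pull f x) := by
  induction x using Grpsch.PicGrp.ind with | h L hL => ?_
  refine Units.ext ?_
  rw [Units.coe_map, toU_mk_val, pull_mk, toU_mk_val]
  rfl

variable {k : Type u} [Field k]

section squares
variable {C : Type*} [Category C] [CartesianMonoidalCategory C]

theorem isPullback_wl (H : C) {X W : C} (f : X ⟶ W) : IsPullback (H ◁ f) (snd H X) (snd H W) f := by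
  refine ⟨⟨whiskerLeft_snd _ _⟩, ⟨PullbackCone.IsLimit.mk _
    (fun c => lift (c.fst ≫ fst H W) c.snd) (fun c => ?_) (fun c => lift_snd _ _) (fun c m h1 h2 => ?_)⟩⟩
  · rw [lift_whiskerLeft]
    apply CartesianMonoidalCategory.hom_ext
    · rw [lift_fst]
    · rw [lift_snd, c.condition]
  · apply CartesianMonoidalCategory.hom_ext
    · rw [lift_fst, ← h1, Category.assoc, whiskerLeft_fst]
    · rw [lift_snd, ← h2]

theorem isPullback_wr (H : C) {X W : C} (f : X ⟶ W) : IsPullback (f ▷ H) (fst X H) (fst W H) f := by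
  refine ⟨⟨whiskerRight_fst _ _⟩, ⟨PullbackCone.IsLimit.mk _
    (fun c => lift c.snd (c.fst ≫ snd W H)) (fun c => ?_) (fun c => lift_fst _ _) (fun c m h1 h2 => ?_)⟩⟩
  · rw [lift_whiskerRight]
    apply CartesianMonoidalCategory.hom_ext
    · rw [lift_fst, c.condition]
    · rw [lift_snd]
  · apply CartesianMonoidalCategory.hom_ext
    · rw [lift_fst, ← h2]
    · rw [lift_snd, ← h1, Category.assoc, whiskerRight_snd]

theorem isPullback_mu (A : C) [GrpObj A] : IsPullback (μ[A] : A ⊗ A ⟶ A) (fst A A) (toUnit A) (toUnit A) := by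
  refine ⟨⟨toUnit_unique _ _⟩, ⟨PullbackCone.IsLimit.mk _
    (fun c => lift c.snd (c.snd⁻¹ * c.fst)) (fun c => ?_) (fun c => lift_fst _ _) (fun c m h1 h2 => ?_)⟩⟩
  · change c.snd * (c.snd⁻¹ * c.fst) = c.fst
    rw [mul_inv_cancel_left]
  · apply CartesianMonoidalCategory.hom_ext
    · rw [lift_fst, ← h2]
    · rw [lift_snd]
      have h3 : (m ≫ fst A A) * (m ≫ snd A A) = c.fst := by
        rw [← h1]
        change lift (m ≫ fst A A) (m ≫ snd A A) ≫ μ[A] = _
        rw [lift_comp_fst_snd]
      rw [← h3, h2, inv_mul_cancel_left]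

end squares

theorem sq_wl (H : Over (Spec (CommRingCat.of k))) {X W : Over (Spec (CommRingCat.of k))} (f : X ⟶ W) :
    IsPullback (H ◁ f).left (snd H X).left (snd H W).left f.left := (isPullback_wl H f).map (Over.forget _)

theorem sq_wr (H : Over (Spec (CommRingCat.of k))) {X W : Over (Spec (CommRingCat.of k))} (f : X ⟶ W) :
    IsPullback (f ▷ H).left (fst X H).left (fst W H).left f.left := (isPullback_wr H f).map (Over.forget _)

theorem sq_mu (A : Over (Spec (CommRingCat.of k))) [GrpObj A] :
    IsPullback (μ[A] : A ⊗ A ⟶ A).left (fst A A).left A.hom A.hom := (isPullback_mu A).map (Over.forget _)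

theorem pm_left_comp {T T' B : Over (Spec (CommRingCat.of k))} (f : T' ⟶ T) (g : T ⟶ B) (c : MC B.left) :
    pm (f ≫ g).left c = pm f.left (pm g.left c) := by
  rw [Over.comp_left, pm_comp]

instance isProper_over (A : Over (Spec (CommRingCat.of k))) [IsProper A.hom] :
    IsProper (A.left ↘ Spec (CommRingCat.of k)) := inferInstanceAs (IsProper A.hom)

section iso
variable {X Y : Scheme.{u}} [X.Over (Spec (CommRingCat.of k))] [Y.Over (Spec (CommRingCat.of k))]
  [IsProper (X ↘ Spec (CommRingCat.of k))] [IsProper (Y ↘ Spec (CommRingCat.of k))]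

/-- Cohomology is invariant under isomorphisms. -/
theorem h_pm_iso (e : X ⟶ Y) [IsIso e] (he : e ≫ (Y ↘ Spec (CommRingCat.of k)) = X ↘ Spec (CommRingCat.of k))
    {c : MC Y} (hc : Co c) (i : ℕ) : h k i (pm e c) = h k i c := by
  have sq : IsPullback e (X ↘ Spec (CommRingCat.of k)) (Y ↘ Spec (CommRingCat.of k)) (𝟙 _) :=
    IsPullback.of_horiz_isIso ⟨by rw [he, Category.comp_id]⟩
  have h1 := R_bc sq hc i
  rw [R_spec k _ rfl hc, R_spec k _ rfl (co_pm e hc), pm_fr] at h1
  rw [← h_fr_spec k (h k i c), h1, h_fr_spec]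

end iso

section mu
variable (A : Over (Spec (CommRingCat.of k))) [GrpObj A] [IsProper A.hom]

/-- `R^j p_*(p^*c ⊗ μ^*m) = O^{h^j(m)} ⊗ c`. -/
theorem R_mu {c m : MC A.left} (hc : Co c) (hm : Co m) (j : ℕ) :
    R (fst A A).left j (pm (fst A A).left c * pm (μ[A] : A ⊗ A ⟶ A).left m) =
      fr A.left (h k j m) * c := by
  induction c using MC.ind with | h G => ?_
  have h1 := R_tens (sq_mu A) hm (G := G) hc (flat_over_field A.hom G) j
  rw [h1, R_spec k A.hom rfl hm, pm_fr, mul_comm]

end mu

end K526.Prod
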