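import Groth.Agent.AbVar.K526.Free
import Groth.Agent.AbVar.K526.Leray
import Groth.Agent.Krr.H482.PullTens
import Groth.Agent.PerfB.FlatPull
import Groth.Agent.FormalB.PullCoh
import Groth.Agent.Ega1.SuppTensorMod
import Groth.Agent.Ega3B.RpushAff
import Groth.Agent.S0838
import Groth.Agent.S0927
import Groth.Agent.S0033
import Groth.Agent.S0036
/-!
# Pullback and higher direct images on isomorphism classes of modules

* `pm f : MC Y →* MC X`: pullback; `pm_comp`, `co_pm`, `ses_pm` (flat), `pm_fr`, `supp_pm`, `h_pm_iso`.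
* `R f i : MC X → MC Y`: higher direct images; `R_bc` (flat base change), `R_proj` (projection formula), `co_R`, `R_tens`
  (S0838), `h_R0`, `h_R` (degenerate Leray spectral sequences).
-/

set_option autoImplicit false
universe u
open CategoryTheory CategoryTheory.Limits AlgebraicGeometry
open Groth.Agent Groth.Agent.Fga.PicMon Groth.Agent.Fga Groth.Agent.Pic13.H11.Cls

namespace K526.PullM

open Cut Leray

variable {X Y Z : Scheme.{u}}

instance hasInj (X : Scheme.{u}) : HasInjectiveResolutions X.Modules := inferInstance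

/-- Pullback of classes. -/
noncomputable def pm (f : X ⟶ Y) : MC Y →* MC X where
  toFun := Quot.lift (fun F => mc ((Scheme.Modules.pullback f).obj F))
    fun _ _ ⟨e⟩ => mc_eq ((Scheme.Modules.pullback f).mapIso e)
  map_one' := mc_eq (Krr.H482.PullTens.pullUnitIso f)
  map_mul' a b := by
    induction a using MC.ind with | h F => ?_
    induction b using MC.ind with | h G => ?_
    exact mc_eq (Krr.H482.PullTens.pullTensorIso f F G)

theorem pm_mc (f : X ⟶ Y) (F : Y.Modules) : pm f (mc F) = mc ((Scheme.Modules.pullback f).obj F) := rfl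

theorem pm_comp (f : X ⟶ Y) (g : Y ⟶ Z) (c : MC Z) : pm (f ≫ g) c = pm f (pm g c) := by
  induction c using MC.ind with | h F => ?_
  exact mc_eq ((Scheme.Modules.pullbackComp f g).symm.app F)

theorem pm_id (c : MC X) : pm (𝟙 X) c = c := by
  induction c using MC.ind with | h F => ?_
  exact mc_eq ((Scheme.Modules.pullbackId X).app F)

theorem pm_smul (f : X ⟶ Y) (u : (MC Y)ˣ) (c : MC Y) : pm f (u • c) = Units.map (pm f) u • pm f c := by
  rw [smul_def, map_mul]; rfl

theorem co_pm (f : X ⟶ Y) {c : MC Y} (hc : Co c) : Co (pm f c) := by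
  induction c using MC.ind with | h F => ?_
  exact FormalB.PullCoh.isCoh_pullback f hc

theorem ses_pm (f : X ⟶ Y) [Flat f] {a b c : MC Y} (hs : Ses a b c) : Ses (pm f a) (pm f b) (pm f c) := by
  obtain ⟨S, hS, h1, h2, h3, rfl, rfl, rfl⟩ := hs
  exact ⟨S.map (Scheme.Modules.pullback f), hS.map_of_exact _, FormalB.PullCoh.isCoh_pullback f h1,
    FormalB.PullCoh.isCoh_pullback f h2, FormalB.PullCoh.isCoh_pullback f h3, rfl, rfl, rfl⟩

theorem pm_fr (f : X ⟶ Y) (n : ℕ) : pm f (fr Y n) = fr X n := mc_eq (PerfB.FlatPull.pullbackFreeMod f n)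

theorem supp_pm (f : X ⟶ Y) {c : MC Y} (hc : Co c) : supp (pm f c) = f ⁻¹' supp c := by
  induction c using MC.ind with | h F => ?_
  exact Ega1.SuppTensorMod.isFT_pullback_support f F hc.2

theorem eq_zero_iff {c : MC X} {F : X.Modules} (h : c = mc F) : c = fr X 0 ↔ IsZero F := by
  rw [h, fr, mc_eq_iff]
  exact ⟨fun ⟨e⟩ => Dcoh.ResFree.freeMod_zero_isZero.of_iso e, fun h => Dcoh.ResFree.isZero_iso_freeMod h⟩

theorem V_zero (j : ℕ) : V j (fr X 0) :=
  IntNum0.HH_subsingleton_of_isZero Dcoh.ResFree.freeMod_zero_isZero j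

/-- A class whose pullback along a flat surjective morphism is zero is zero. -/
theorem eq_zero_of_pm (f : X ⟶ Y) [Flat f] [Surjective f] {c : MC Y} (h : pm f c = fr X 0) : c = fr Y 0 := by
  induction c using MC.ind with | h F => ?_
  rw [eq_zero_iff rfl]
  exact PerfB.FlatPull.isZero_of_isZero_pullback f F ((eq_zero_iff (pm_mc f F)).mp h)

/-- Higher direct images of classes. -/
noncomputable def R (f : X ⟶ Y) (i : ℕ) : MC X → MC Y :=
  Quot.lift (fun F => mc ((Coh.Rpush f i).obj F)) fun _ _ ⟨e⟩ => mc_eq ((Coh.Rpush f i).mapIso e)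

theorem R_mc (f : X ⟶ Y) (i : ℕ) (F : X.Modules) : R f i (mc F) = mc ((Coh.Rpush f i).obj F) := rfl

theorem co_R (f : X ⟶ Y) [IsProper f] [IsLocallyNoetherian Y] (i : ℕ) {c : MC X} (hc : Co c) : Co (R f i c) := by
  induction c using MC.ind with | h F => ?_
  exact S0036.result f F hc i

section
variable {X' S' : Scheme.{u}} {f : X ⟶ Y} {g : S' ⟶ Y} {g' : X' ⟶ X} {f' : X' ⟶ S'}

/-- Flat base change. -/
theorem R_bc (sq : IsPullback g' f' f g) [QuasiCompact f] [QuasiSeparated f] [Flat g] {c : MC X} (hc : Co c) (i : ℕ) :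
    pm g (R f i c) = R f' i (pm g' c) := by
  induction c using MC.ind with | h F => ?_
  have := hc.1
  obtain ⟨e⟩ := S0033.result f g g' f' sq F i
  exact mc_eq e

/-- The formula of S0838. -/
theorem R_tens (sq : IsPullback g' f' f g) [QuasiCompact f] [QuasiSeparated f] {c : MC X} (hc : Co c) {G : S'.Modules}
    (hG : Coh.IsCoh G) (hGf : FlatMod.IsFlatOver g G) (i : ℕ) :
    R f' i (pm f' (mc G) * pm g' c) = mc G * pm g (R f i c) := by
  induction c using MC.ind with | h F => ?_
  obtain ⟨e⟩ := S0838.result f g g' f' sq F hc.1 G hG.1 hGf i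
  exact (mc_eq e).symm

end

/-- Projection formula. -/
theorem R_proj (f : X ⟶ Y) (i : ℕ) (u : (MC Y)ˣ) (c : MC X) : R f i (Units.map (pm f) u • c) = u • R f i c := by
  obtain ⟨L, hL, hu⟩ := exists_invertible u
  induction c using MC.ind with | h F => ?_
  have hL' : FlatMod.IsFinLocFree L :=
    Ega2.QCohLocal.isFinLocFree_of_rank (Ega2.QCohLocal.isFinLocFreeOfRank_one_iff.2 hL)
  obtain ⟨e⟩ := S0927.result f F L hL' i
  rw [smul_def, smul_def, Units.coe_map, ← hu]
  exact (mc_eq e).symm

section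
variable (k : Type u) [Field k] [X.Over (Spec (CommRingCat.of k))] [Y.Over (Spec (CommRingCat.of k))]
  (f : X ⟶ Y) (hf : f ≫ (Y ↘ Spec (CommRingCat.of k)) = X ↘ Spec (CommRingCat.of k))

include hf

/-- Cohomology of a pushforward with vanishing higher direct images. -/
theorem h_R0 [QuasiCompact f] [QuasiSeparated f] {c : MC X} (hc : Co c) (hv : ∀ j, R f (j + 1) c = fr Y 0) (n : ℕ) :
    h k n c = h k n (R f 0 c) := by
  induction c using MC.ind with | h F => ?_
  have hq : Coh.IsQCoh F := hc.1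
  have hac : VarietyB.HHPush.Acyc f F := by
    intro V hV m x
    have hz : IsZero ((Coh.Rpush f (m + 1)).obj F) := (eq_zero_iff (R_mc f (m + 1) F)).mp (hv m)
    have h1 := Ega3B.RpushAff.subsingleton_HHon_of_isZero f F hq hV (m + 1) hz
    have h2 : Subsingleton (CohTop.HU (X := X.toTopCat) (Coh.toAb F) (m + 1) (f ⁻¹ᵁ V)) :=
      (CohqA.HOpen.HHonEquiv F (f ⁻¹ᵁ V) (m + 1)).toEquiv.subsingleton_congr.mpr h1
    exact h2.elim x 0
  obtain ⟨e⟩ := VarietyB.HHPush.exists_equiv f k hf n F hac
  have e2 : R f 0 (mc F) = mc ((Scheme.Modules.pushforward f).obj F) :=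
    mc_eq ((Scheme.Modules.pushforward f).rightDerivedZeroIsoSelf.app F)
  rw [e2, h_mc, h_mc]
  exact e.finrank_eq.symm

/-- Cohomology when all higher direct images are acyclic. -/
theorem h_R {c : MC X} (hv : ∀ j q, V (q + 1) (R f j c)) (n : ℕ) : h k n c = h k 0 (R f n c) := by
  induction c using MC.ind with | h F => ?_
  obtain ⟨e⟩ := exists_equiv_zero f k hf n F fun j q x => by
    have : Subsingleton (Coh.HH Y ((Coh.Rpush f j).obj F) (q + 1)) := hv j q
    exact this.elim x 0
  rw [R_mc, h_mc, h_mc]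
  exact e.finrank_eq

end

end K526.PullM
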