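import Groth.Agent.Fdesc.LocGen
import Groth.Agent.Ega1.GlobGenPt
import Mathlib.GroupTheory.CosetCover
/-!
# Sections of a globally generated invertible module generating at finitely many points
-/

set_option autoImplicit false
universe u
open CategoryTheory CategoryTheory.Limits AlgebraicGeometry
open Groth.Agent Groth.Agent.Fdesc Groth.Agent.Fdesc.LocGen

namespace K526.Reg

variable {X : Scheme.{u}} {N : X.Modules}

/-- The scalars of a scheme over a field. -/
noncomputable def scal (k : Type u) [Field k] (X : Scheme.{u}) [X.Over (Spec (CommRingCat.of k))] : k →+* Γ(X, ⊤) :=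
  ((Scheme.ΓSpecIso (CommRingCat.of k)).inv ≫ (X ↘ Spec (CommRingCat.of k)).appTop).hom

/-- The global sections which do not generate at `x`. -/
noncomputable def bad (k : Type u) [Field k] [X.Over (Spec (CommRingCat.of k))] (hN : PicF.IsInvertible N) (x : X) :
    letI : Module k Γ(N, ⊤) := Module.compHom _ (scal k X)
    Submodule k Γ(N, ⊤) :=
  letI : Module k Γ(N, ⊤) := Module.compHom _ (scal k X)
  { carrier := {m | x ∉ CohB1.genLocus N (homOf m)}
    add_mem' := by
      intro m m' hm hm'
      obtain ⟨U, e, hx, he⟩ := (isInvertible_iff N).1 hN x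
      obtain ⟨a, ha⟩ := he.exists_eq (sec (homOf m) U)
      obtain ⟨b, hb⟩ := he.exists_eq (sec (homOf m') U)
      have hab : sec (homOf (m + m')) U = (a + b) • e := by
        rw [add_smul, ← ha, ← hb, sec_homOf, sec_homOf, sec_homOf, map_add]
      have h1 := genLocus_inf_eq (homOf m) he ha
      have h2 := genLocus_inf_eq (homOf m') he hb
      have h3 := genLocus_inf_eq (homOf (m + m')) he hab
      have k1 : x ∉ X.basicOpen a := by rw [← h1]; exact fun h => hm h.1
      have k2 : x ∉ X.basicOpen b := by rw [← h2]; exact fun h => hm' h.1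
      rw [Scheme.mem_basicOpen _ _ _ hx] at k1 k2
      intro h
      have k3 : x ∈ X.basicOpen (a + b) := by rw [← h3]; exact ⟨h, hx⟩
      rw [Scheme.mem_basicOpen _ _ _ hx, map_add] at k3
      exact (IsLocalRing.nonunits_add k1 k2) k3
    zero_mem' := by
      obtain ⟨U, e, hx, he⟩ := (isInvertible_iff N).1 hN x
      have h0 : sec (homOf (0 : Γ(N, ⊤))) U = (0 : Γ(X, U)) • e := by
        rw [zero_smul, sec_homOf, map_zero]
      have h1 := genLocus_inf_eq (homOf 0) he h0
      intro h
      have k3 : x ∈ X.basicOpen (0 : Γ(X, U)) := by rw [← h1]; exact ⟨h, hx⟩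
      rw [Scheme.mem_basicOpen _ _ _ hx, map_zero] at k3
      exact not_isUnit_zero k3
    smul_mem' := by
      intro c m hm
      obtain ⟨U, e, hx, he⟩ := (isInvertible_iff N).1 hN x
      obtain ⟨a, ha⟩ := he.exists_eq (sec (homOf m) U)
      have hab : sec (homOf (c • m)) U = (ores le_top (scal k X c) * a) • e := by
        rw [mul_smul, ← ha, sec_homOf, sec_homOf]
        exact res_smul N le_top (scal k X c) m
      have h1 := genLocus_inf_eq (homOf m) he ha
      have h3 := genLocus_inf_eq (homOf (c • m)) he hab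
      have k1 : x ∉ X.basicOpen a := by rw [← h1]; exact fun h => hm h.1
      rw [Scheme.mem_basicOpen _ _ _ hx] at k1
      intro h
      have k3 : x ∈ X.basicOpen (ores le_top (scal k X c) * a) := by rw [← h3]; exact ⟨h, hx⟩
      rw [Scheme.mem_basicOpen _ _ _ hx, map_mul] at k3
      exact k1 (isUnit_of_mul_isUnit_right k3) }

include N in
/-- A globally generated invertible module on a scheme over an infinite field has a section generating at finitely many given
points. -/
theorem exists_section (k : Type u) [Field k] [Infinite k] [X.Over (Spec (CommRingCat.of k))] (hN : PicF.IsInvertible N)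
    (hg : Curv2.IsGloballyGenerated N) (S : Set X) (hS : S.Finite) :
    ∃ s : Coh.structureModule X ⟶ N, S ⊆ CohB1.genLocus N s := by
  letI : Module k Γ(N, ⊤) := Module.compHom _ (scal k X)
  have : Finite S := hS
  by_contra hcon
  push Not at hcon
  have hcov : ⋃ x : S, ((bad k hN (x : X) : Submodule k Γ(N, ⊤)) : Set Γ(N, ⊤)) = Set.univ := by
    rw [Set.eq_univ_iff_forall]
    intro m
    obtain ⟨x, hxS, hx⟩ := Set.not_subset.mp (hcon (homOf m))
    exact Set.mem_iUnion.mpr ⟨⟨x, hxS⟩, hx⟩
  obtain ⟨x, hx⟩ := Subspace.exists_eq_top_of_iUnion_eq_univ hcov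
  obtain ⟨s, hs⟩ := Ega1.GlobGenPt.exists_mem_genLocus hN hg (x : X)
  have h1 : sec s ⊤ ∈ (bad k hN (x : X) : Submodule k Γ(N, ⊤)) := by rw [hx]; trivial
  have h2 : (x : X) ∉ CohB1.genLocus N (homOf (sec s ⊤)) := h1
  rw [homOf_sec] at h2
  exact h2 hs

end K526.Reg
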