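import Groth.Agent.AbVar.K526.EvalKer
import Groth.Agent.AbVar.K526.PullM
import Groth.Agent.FormalA.RpushFlasque
/-!
# Direct images of an extension whose quotient becomes an evaluation map

`kernel_eval`: from `0 → a → b → c → 0` with `f_*b` free, `f_*c = N`, `H^0(a) = 0`, `h^0(b) = h^0(c)`, one gets
`f_* a = ker (ev : O^J → N)` and `R^j f_* a = 0` for `j ≥ 1`.
`R_imm`: `R^j f_* (i_* c) = R^j (f i)_* c` for a closed immersion `i`.
-/

set_option autoImplicit false
universe u
open CategoryTheory CategoryTheory.Limits AlgebraicGeometry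
open Groth.Agent Groth.Agent.Fga.PicMon Groth.Agent.Fga Groth.Agent.Pic13.H11.Cls

namespace K526.SyzAbs

open Cut PullM EvalKer Groth.Agent.VarietyB.HHLes

variable {X Y : Scheme.{u}}

theorem R_zero_mc (f : X ⟶ Y) (F : X.Modules) : R f 0 (mc F) = mc ((Scheme.Modules.pushforward f).obj F) :=
  mc_eq ((Scheme.Modules.pushforward f).rightDerivedZeroIsoSelf.app F)

section
variable (k : Type u) [Field k] [X.Over (Spec (CommRingCat.of k))] [IsProper (X ↘ Spec (CommRingCat.of k))]

theorem subsingleton_of_h {F : X.Modules} (hF : Coh.IsCoh F) {i : ℕ} (h0 : h k i (mc F) = 0) :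
    Subsingleton (Coh.HH X F i) := by
  have h1 := HodgeSec.finite_HH' k hF i
  rw [h_mc] at h0
  exact Module.finrank_zero_iff.mp h0

/-- Bijectivity on global sections. -/
theorem bijective_app {S : ShortComplex X.Modules} (hS : S.ShortExact) (h1 : Coh.IsCoh S.X₁) (h2 : Coh.IsCoh S.X₂)
    (h3 : Coh.IsCoh S.X₃) (ha : h k 0 (mc S.X₁) = 0) (hbc : h k 0 (mc S.X₂) = h k 0 (mc S.X₃)) :
    Function.Bijective (Scheme.Modules.Hom.app S.g ⊤) := by
  have hsub := subsingleton_of_h k h1 ha
  have f2 := HodgeSec.finite_HH' k h2 0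
  have f3 := HodgeSec.finite_HH' k h3 0
  have hinj : Function.Injective (Hmap k S.g 0) := by
    rw [injective_iff_map_eq_zero]
    intro x hx
    obtain ⟨y, rfl⟩ := exact₂ k hS 0 x hx
    have : y = 0 := @Subsingleton.elim _ hsub _ _
    rw [this, map_zero]
  have : Module.Finite k (Hn k X S.X₂ 0) := f2
  have : Module.Finite k (Hn k X S.X₃ 0) := f3
  have hfr : Module.finrank k (Hn k X S.X₂ 0) = Module.finrank k (Hn k X S.X₃ 0) := hbc
  have hbij : Function.Bijective (Hmap k S.g 0) :=
    ⟨hinj, (LinearMap.injective_iff_surjective_of_finrank_eq_finrank hfr).mp hinj⟩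
  have key : ∀ x : Coh.HH X S.X₂ 0, Scheme.Modules.Hom.app S.g ⊤ (CurvesB.HZero.equivAdd _ x) =
      CurvesB.HZero.equivAdd _ ((Hmap k S.g 0 : Hn k X S.X₂ 0 → Hn k X S.X₃ 0) x) :=
    fun x => (CurvesB.HZero.equivAdd_map (X := X) S.g x).symm
  constructor
  · intro a b hab
    obtain ⟨x, rfl⟩ := (CurvesB.HZero.equivAdd _).surjective a
    obtain ⟨y, rfl⟩ := (CurvesB.HZero.equivAdd _).surjective b
    rw [key, key] at hab
    rw [hbij.1 ((CurvesB.HZero.equivAdd _).injective hab)]
  · intro a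
    obtain ⟨x, rfl⟩ := (CurvesB.HZero.equivAdd _).surjective a
    obtain ⟨y, rfl⟩ := hbij.2 x
    exact ⟨CurvesB.HZero.equivAdd _ y, key y⟩

theorem kernel_eval (f : X ⟶ Y) {a b c : MC X} (hs : Ses a b c) (ha : h k 0 a = 0)
    (hbc : h k 0 b = h k 0 c) {r : ℕ} (hb0 : R f 0 b = fr Y r) {N : Y.Modules} (hc0 : R f 0 c = mc N)
    (hb : ∀ j, R f (j + 1) b = fr Y 0) (hc : ∀ j, R f (j + 1) c = fr Y 0)
    {J : Type u} (ev : fj Y J ⟶ N) [Epi ev]
    (hev : Function.Bijective (Sheaf.H.map ((SheafOfModules.toSheaf Y.ringCatSheaf).map ev) 0)) :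
    R f 0 a = mc (kernel ev) ∧ ∀ j, R f (j + 1) a = fr Y 0 := by
  obtain ⟨S, hS, h1, h2, h3, rfl, rfl, rfl⟩ := hs
  have hEI : EnoughInjectives X.Modules := S0485.result _ _
  have hmono : Mono S.f := hS.mono_f
  rw [R_zero_mc] at hb0 hc0
  obtain ⟨e2⟩ := (mc_eq_iff _ _).1 hb0
  obtain ⟨e3⟩ := (mc_eq_iff _ _).1 hc0
  have hg := bijective_app k hS h1 h2 h3 ha hbc
  have hπ : Function.Bijective (Scheme.Modules.Hom.app ((Scheme.Modules.pushforward f).map S.g ≫ e3.hom) ⊤) := by
    have h4 : Function.Bijective (Scheme.Modules.Hom.app e3.hom ⊤) := by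
      rw [← ConcreteCategory.isIso_iff_bijective]
      infer_instance
    exact h4.comp hg
  obtain ⟨hepi, hker⟩ := EvalKer.main ev hev e2 ((Scheme.Modules.pushforward f).map S.g ≫ e3.hom) hπ
  have hepi' : Epi ((Scheme.Modules.pushforward f).map S.g) := by
    have : (Scheme.Modules.pushforward f).map S.g =
        ((Scheme.Modules.pushforward f).map S.g ≫ e3.hom) ≫ e3.inv := by simp
    rw [this]
    exact epi_comp _ _
  refine ⟨?_, fun j => ?_⟩
  · rw [R_zero_mc, ← hker]
    refine mc_eq ?_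
    have hex : (S.map (Scheme.Modules.pushforward f)).Exact :=
      hS.exact.map_of_mono_of_preservesKernel _ hS.mono_f inferInstance
    have hm : Mono (S.map (Scheme.Modules.pushforward f)).f :=
      inferInstanceAs (Mono ((Scheme.Modules.pushforward f).map S.f))
    have hlim := hex.fIsKernel
    exact (hlim.conePointUniqueUpToIso (kernelIsKernel _)) ≪≫
      (kernelCompMono ((Scheme.Modules.pushforward f).map S.g) e3.hom).symm
  · rw [eq_zero_iff (R_mc _ _ _)]
    have hb' : Etcore.DerLES.Acyc (Scheme.Modules.pushforward f) S.X₂ := fun q =>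
      (eq_zero_iff (R_mc f (q + 1) S.X₂)).mp (hb q)
    have hc' : Etcore.DerLES.Acyc (Scheme.Modules.pushforward f) S.X₃ := fun q =>
      (eq_zero_iff (R_mc f (q + 1) S.X₃)).mp (hc q)
    exact Etcore.DerLES.acyc_X₁ (Scheme.Modules.pushforward f) hS hb' hc' hepi' j

end

theorem isZero_rightDerived (F : X.Modules ⥤ X.Modules) [F.Additive] [PreservesFiniteLimits F]
    [PreservesFiniteColimits F] (M : X.Modules) (n : ℕ) : IsZero ((F.rightDerived (n + 1)).obj M) := by
  have : EnoughInjectives X.Modules := S0485.result _ _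
  let I := InjectiveResolution.of M
  refine IsZero.of_iso ?_ (I.isoRightDerivedObj F (n + 1))
  have h1 : I.cocomplex.ExactAt (n + 1) := I.cocomplex_exactAt_succ n
  have h2 : ((F.mapHomologicalComplex _).obj I.cocomplex).ExactAt (n + 1) := by
    rw [HomologicalComplex.exactAt_iff] at h1 ⊢
    exact h1.map F
  exact h2.isZero_homology

/-- Direct images along a closed immersion followed by a morphism. -/
theorem R_imm {Z : Scheme.{u}} (i : Z ⟶ X) [IsClosedImmersion i] (f : X ⟶ Y) (j : ℕ) (c : MC Z) :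
    R f j (R i 0 c) = R (i ≫ f) j c := by
  induction c using MC.ind with | h G => ?_
  obtain ⟨e⟩ := FormalA.RpushFlasque.nonempty_rpush_comp_iso i f j G
  rw [R_zero_mc, R_mc, R_mc]
  exact mc_eq e

theorem R_id_zero (c : MC X) : R (𝟙 X) 0 c = c := by
  induction c using MC.ind with | h F => ?_
  rw [R_zero_mc]
  exact mc_eq ((Scheme.Modules.pushforwardId X).app F)

theorem R_id_succ {c : MC X} (j : ℕ) : R (𝟙 X) (j + 1) c = fr X 0 := by
  induction c using MC.ind with | h F => ?_
  rw [eq_zero_iff (R_mc _ _ _)]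
  have : PreservesFiniteColimits (Scheme.Modules.pushforward (𝟙 X)) :=
    preservesFiniteColimits_of_natIso (Scheme.Modules.pushforwardId X).symm
  exact isZero_rightDerived (Scheme.Modules.pushforward (𝟙 X)) F j

end K526.SyzAbs
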