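import Groth.Agent.AbVar.K526.SyzAbs
import Groth.Agent.AbVar.K526.Neg
/-!
# The transform of `I_e ⊗ N` is the kernel of the evaluation map

`N` ample and generated by its sections on an abelian variety `A`, `ℓ` its class, `M_N` the kernel of the evaluation map:
`Ph ℓ 0 (I_e ⊗ N) = M_N ⊗ N⁻¹` and `Ph ℓ (j + 1) (I_e ⊗ N) = 0`.
-/

set_option autoImplicit false
universe u
open CategoryTheory CategoryTheory.Limits MonoidalCategory CartesianMonoidalCategory AlgebraicGeometry
open scoped MonObj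
open Groth.Agent Groth.Agent.Fga.PicMon Groth.Agent.Fga Groth.Agent.Pic13.H11.Cls Groth.Agent.Pic13.H11.NumU
  Groth.Agent.Grpsch.PicGrp Groth.Agent.Grpsch.Cube

namespace K526.Syzygy

open Cut PullM K518.Phi _root_.K526.Prod Core Fam Inst _root_.K526.Neg SyzAbs EvalKer

theorem epi_unitToPush {Y Z : Scheme.{u}} (i : Z ⟶ Y) [IsClosedImmersion i] : Epi (ClSub.unitToPush i) := by
  apply PerfB.ModExact.epi_of_locally_surjective
  intro U s x hx
  obtain ⟨T, hT, hxT, hTU⟩ := exists_isAffineOpen_mem_and_subset (x := x) (U := U) hx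
  obtain ⟨a, ha⟩ := i.app_surjective T hT
    (((Scheme.Modules.pushforward i).obj (Coh.structureModule Z)).presheaf.map (homOfLE hTU).op s)
  exact ⟨T, hTU, hxT, a, ha⟩

variable {k : Type u} [Field k] (A : Over (Spec (CommRingCat.of k))) [GrpObj A]

/-- The section `(e, 1)`. -/
noncomputable abbrev ie : A ⟶ A ⊗ A := lift (toUnit A ≫ η[A]) (𝟙 A)

theorem isPullback_ie : IsPullback (toUnit A) (ie A) η[A] (fst A A) := by
  refine ⟨⟨(lift_fst _ _).symm⟩, ⟨PullbackCone.IsLimit.mk _ (fun c => c.snd ≫ snd A A) (fun c => toUnit_unique _ _)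
    (fun c => ?_) (fun c m h1 h2 => ?_)⟩⟩
  · apply CartesianMonoidalCategory.hom_ext
    · rw [Category.assoc, lift_fst, ← c.condition, ← Category.assoc]
      congr 1
      exact toUnit_unique _ _
    · rw [Category.assoc, lift_snd, Category.comp_id]
  · have h3 := h2 =≫ snd A A
    rw [Category.assoc, lift_snd, Category.comp_id] at h3
    exact h3

theorem sq_ie : IsPullback A.hom (ie A).left (η[A] : 𝟙_ _ ⟶ A).left (fst A A).left :=
  (isPullback_ie A).map (Over.forget _)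

theorem ie_mu : ie A ≫ μ[A] = 𝟙 A := by
  change (toUnit A ≫ η[A]) * 𝟙 A = 𝟙 A
  rw [show toUnit A ≫ η[A] = (1 : A ⟶ A) from rfl, one_mul]

theorem ie_snd : ie A ≫ snd A A = 𝟙 A := lift_snd _ _

theorem sq_mu' : IsPullback (μ[A] : A ⊗ A ⟶ A).left (snd A A).left A.hom A.hom := by
  refine (show IsPullback (μ[A] : A ⊗ A ⟶ A) (snd A A) (toUnit A) (toUnit A) from ?_).map (Over.forget _)
  refine ⟨⟨toUnit_unique _ _⟩, ⟨PullbackCone.IsLimit.mk _
    (fun c => lift (c.fst * c.snd⁻¹) c.snd) (fun c => ?_) (fun c => lift_snd _ _) (fun c m h1 h2 => ?_)⟩⟩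
  · change (c.fst * c.snd⁻¹) * c.snd = c.fst
    rw [inv_mul_cancel_right]
  · apply CartesianMonoidalCategory.hom_ext
    · rw [lift_fst]
      have h3 : (m ≫ fst A A) * (m ≫ snd A A) = c.fst := by
        rw [← h1]
        change lift (m ≫ fst A A) (m ≫ snd A A) ≫ μ[A] = _
        rw [lift_comp_fst_snd]
      rw [← h3, h2, mul_inv_cancel_right]
    · rw [lift_snd, ← h2]

variable [IsProper A.hom]

instance isClosedImmersion_unit : IsClosedImmersion (η[A] : 𝟙_ (Over (Spec (CommRingCat.of k))) ⟶ A).left := by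
  have h : (η[A] : 𝟙_ (Over (Spec (CommRingCat.of k))) ⟶ A).left ≫ A.hom = 𝟙 _ :=
    Over.w (η[A] : 𝟙_ (Over (Spec (CommRingCat.of k))) ⟶ A)
  have h2 : IsClosedImmersion ((η[A] : 𝟙_ (Over (Spec (CommRingCat.of k))) ⟶ A).left ≫ A.hom) := by
    rw [h]; infer_instance
  exact IsClosedImmersion.of_comp _ A.hom

instance isClosedImmersion_ie : IsClosedImmersion (ie A).left := by
  exact MorphismProperty.of_isPullback (P := @IsClosedImmersion) (sq_ie A) inferInstance

instance flat_fst : Flat (fst A A).left := by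
  rw [show (fst A A).left = pullback.fst A.hom A.hom from rfl]
  infer_instance

/-- The class of the ideal of the unit point. -/
noncomputable abbrev Ie : MC A.left := mc (kernel (ClSub.unitToPush (η[A] : 𝟙_ (Over (Spec (CommRingCat.of k))) ⟶ A).left))

/-- The class of the structure sheaf of the unit point. -/
noncomputable abbrev Ze : MC A.left := R (η[A] : 𝟙_ (Over (Spec (CommRingCat.of k))) ⟶ A).left 0 1

theorem ses_ie : Ses (Ie A) 1 (Ze A) := by
  have := epi_unitToPush (η[A] : 𝟙_ (Over (Spec (CommRingCat.of k))) ⟶ A).left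
  have hN : IsLocallyNoetherian A.left := LocallyOfFiniteType.isLocallyNoetherian A.hom
  have hN2 : IsLocallyNoetherian (𝟙_ (Over (Spec (CommRingCat.of k)))).left :=
    inferInstanceAs (IsLocallyNoetherian (Spec (CommRingCat.of k)))
  have h1 : Coh.IsCoh ((Scheme.Modules.pushforward (η[A] : 𝟙_ (Over (Spec (CommRingCat.of k))) ⟶ A).left).obj
      (Coh.structureModule _)) := by
    have h2 : Co (R (η[A] : 𝟙_ (Over (Spec (CommRingCat.of k))) ⟶ A).left 0 (mc (Coh.structureModule _))) :=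
      co_R _ 0 co_one
    rwa [R_zero_mc] at h2
  have h2 := Ses.of_epi (ClSub.unitToPush (η[A] : 𝟙_ (Over (Spec (CommRingCat.of k))) ⟶ A).left) co_one h1
  rw [← R_zero_mc] at h2
  exact h2

variable [GeometricallyIntegral A.hom] [IsAlgClosed k]

omit [GrpObj A] in
theorem h_zero_one : h k 0 (1 : MC A.left) = 1 := by
  have : IsIntegral A.left := isInt
  exact VarietyA.CurveFin.finrank_h0_structure k A.left

/-- The ideal of the unit point has no sections. -/
theorem h_zero_Ie : h k 0 (Ie A) = 0 := by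
  have : IsIntegral A.left := isInt
  have hN : IsLocallyNoetherian A.left := LocallyOfFiniteType.isLocallyNoetherian A.hom
  set i := (η[A] : 𝟙_ (Over (Spec (CommRingCat.of k))) ⟶ A).left with hi
  have hw : i ≫ (A.left ↘ Spec (CommRingCat.of k)) =
      (𝟙_ (Over (Spec (CommRingCat.of k)))).left ↘ Spec (CommRingCat.of k) :=
    Over.w (η[A] : 𝟙_ (Over (Spec (CommRingCat.of k))) ⟶ A)
  have hsub : Subsingleton (Coh.HH A.left (kernel (ClSub.unitToPush i)) 0) := ?_
  · rw [Ie, h_mc]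
    exact Module.finrank_zero_of_subsingleton
  refine (CurvesB.HZero.equivAdd (kernel (ClSub.unitToPush i))).toEquiv.subsingleton_congr.mpr ?_
  refine subsingleton_of_forall_eq 0 fun s => ?_
  have hmono : Function.Injective (Scheme.Modules.Hom.app (kernel.ι (ClSub.unitToPush i)) ⊤) :=
    PerfB.ModExact.app_injective_of_mono _ ⊤
  apply hmono
  rw [map_zero]
  obtain ⟨t, ht⟩ := CurvesB.HZero.exists_const k (VarietyA.CurveFin.finrank_h0_structure k A.left)
    (show Γ(A.left, ⊤) from Scheme.Modules.Hom.app (kernel.ι (ClSub.unitToPush i)) ⊤ s)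
  have h1 : i.appTop (CurvesB.HZero.gl k A.left t) = 0 := by
    rw [ht]
    have h2 := congrArg (fun φ => Scheme.Modules.Hom.app φ ⊤ s) (kernel.condition (ClSub.unitToPush i))
    exact h2
  rw [VarietyB.HHPush.appTop_gl i k hw] at h1
  have ht0 : t = 0 := by
    by_contra h
    refine CurvesB.HZero.germ_gl_ne_zero (k := k) (X := (𝟙_ (Over (Spec (CommRingCat.of k)))).left) t h
      (IsLocalRing.closedPoint k) ?_
    rw [h1, map_zero]
  rw [ht0, map_zero] at ht
  exact ht.symm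

omit [IsProper A.hom] [GeometricallyIntegral A.hom] [IsAlgClosed k] in
/-- The transform of `ℓ ⊗ x`. -/
theorem Ph_twist (ℓ : Pic A.left) (x : MC A.left) (j : ℕ) :
    Ph ℓ j (toU ℓ • x) = (toU ℓ)⁻¹ • R (snd A A).left j (toU (pl (μ[A] : A ⊗ A ⟶ A) ℓ) • pm (fst A A).left x) := by
  have h1 : (toU (lam ℓ) : (MC (A ⊗ A).left)ˣ) * toU (pl (fst A A) ℓ) =
      Units.map (pm (snd A A).left) (toU ℓ)⁻¹ * toU (pl (μ[A] : A ⊗ A ⟶ A) ℓ) := by
    rw [map_inv, um_toU]
    change _ = (toU (pl (snd A A) ℓ))⁻¹ * _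
    rw [pl_mu_eq, map_mul, map_mul]
    have : (toU (pl (snd A A) ℓ))⁻¹ * (toU (pl (fst A A) ℓ) * toU (pl (snd A A) ℓ) * toU (lam ℓ)) =
      ((toU (pl (snd A A) ℓ))⁻¹ * toU (pl (snd A A) ℓ)) * (toU (lam ℓ) * toU (pl (fst A A) ℓ)) := by
      simp only [mul_comm, mul_left_comm, mul_assoc]
    rw [this, inv_mul_cancel, one_mul]
  rw [Ph, pm_toU_smul, smul_smul, h1, ← smul_smul, R_proj]

omit [GeometricallyIntegral A.hom] [IsAlgClosed k] in
theorem R_snd_one {N : A.left.Modules} (hN : PicF.IsInvertible N) (j : ℕ) :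
    R (snd A A).left j (toU (pl (μ[A] : A ⊗ A ⟶ A) (mk N hN)) • pm (fst A A).left 1) = fr A.left (h k j (mc N)) := by
  have hco : Co (mc N) := HodgeSec.isCoh_of_isInvertible hN
  have h1 : toU (pl (μ[A] : A ⊗ A ⟶ A) (mk N hN)) • pm (fst A A).left 1 = pm (μ[A] : A ⊗ A ⟶ A).left (mc N) := by
    rw [map_one, smul_one']
    have h2 := um_toU (μ[A] : A ⊗ A ⟶ A).left (mk N hN)
    have h3 := congrArg Units.val h2
    rw [Units.coe_map, toU_mk_val] at h3
    exact h3.symm
  rw [h1, ← R_bc (sq_mu' A) hco j, R_spec k A.hom rfl hco, pm_fr]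

omit [GeometricallyIntegral A.hom] [IsAlgClosed k] in
theorem R_snd_Ze {N : A.left.Modules} (hN : PicF.IsInvertible N) (j : ℕ) :
    R (snd A A).left j (toU (pl (μ[A] : A ⊗ A ⟶ A) (mk N hN)) • pm (fst A A).left (Ze A)) = R (𝟙 A.left) j (mc N) := by
  have hN2 : IsLocallyNoetherian (𝟙_ (Over (Spec (CommRingCat.of k)))).left :=
    inferInstanceAs (IsLocallyNoetherian (Spec (CommRingCat.of k)))
  rw [Ze, R_bc (sq_ie A) co_one 0, map_one, ← R_proj, um_toU]
  have h1 : pull (ie A).left (pl (μ[A] : A ⊗ A ⟶ A) (mk N hN)) = mk N hN := by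
    change pl (ie A) (pl (μ[A] : A ⊗ A ⟶ A) (mk N hN)) = _
    rw [← pl_comp, ie_mu, pl_id]
  rw [h1, smul_one', toU_mk_val, R_imm]
  have h2 : (ie A).left ≫ (snd A A).left = 𝟙 A.left := by
    rw [← Over.comp_left, ie_snd]; rfl
  rw [h2]

/-- **The transform of `I_e ⊗ N`.** -/
theorem main {N : A.left.Modules} (hN : CohB1.IsAmple N) {g : ℕ} (hdim : topologicalKrullDim A.left = g)
    {J : Type u} (ev : fj A.left J ⟶ N) [Epi ev]
    (hev : Function.Bijective (Sheaf.H.map ((SheafOfModules.toSheaf A.left.ringCatSheaf).map ev) 0)) :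
    Ph (mk N hN.1) 0 (toU (mk N hN.1) • Ie A) = (toU (mk N hN.1))⁻¹ • mc (kernel ev) ∧
      ∀ j, Ph (mk N hN.1) (j + 1) (toU (mk N hN.1) • Ie A) = fr A.left 0 := by
  have : IsIntegral A.left := isInt
  have hLN : IsLocallyNoetherian A.left := LocallyOfFiniteType.isLocallyNoetherian A.hom
  have hNc : Co (mc N) := HodgeSec.isCoh_of_isInvertible hN.1
  have hv : ∀ j, h k (j + 1) (mc N) = 0 := by
    intro j
    have h1 := (hasIdx_pow hN hdim (n := 1) le_rfl).1 (j + 1) (by omega)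
    rw [pow_one, ← V_toU, toU_mk_val] at h1
    exact h_eq_zero k h1
  have hs : Ses (toU (pl (μ[A] : A ⊗ A ⟶ A) (mk N hN.1)) • pm (fst A A).left (Ie A))
      (toU (pl (μ[A] : A ⊗ A ⟶ A) (mk N hN.1)) • pm (fst A A).left 1)
      (toU (pl (μ[A] : A ⊗ A ⟶ A) (mk N hN.1)) • pm (fst A A).left (Ze A)) :=
    (ses_pm (fst A A).left (ses_ie A)).smul _
  have ha : h k 0 (toU (pl (μ[A] : A ⊗ A ⟶ A) (mk N hN.1)) • pm (fst A A).left (Ie A)) = 0 := by
    have e1 : toU (pl (μ[A] : A ⊗ A ⟶ A) (mk N hN.1)) • pm (fst A A).left (Ie A) =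
        pm (fst A A).left (Ie A) * pm (μ[A] : A ⊗ A ⟶ A).left (mc N) := by
      rw [smul_def, mul_comm]
      have h2 := um_toU (μ[A] : A ⊗ A ⟶ A).left (mk N hN.1)
      have h3 := congrArg Units.val h2
      rw [Units.coe_map, toU_mk_val] at h3
      exact congrArg _ h3.symm
    have e2 : ∀ j, R (fst A A).left j (pm (fst A A).left (Ie A) * pm (μ[A] : A ⊗ A ⟶ A).left (mc N)) =
        fr A.left (h k j (mc N)) * Ie A := fun j => R_mu A (ses_ie A).co₁ hNc j
    rw [e1, h_R0 k (fst A A).left (Over.w (fst A A)) (e1 ▸ hs.co₁) (fun j => by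
      rw [e2, hv, fr_zero_mul]), e2, h_fr_mul k (ses_ie A).co₁, h_zero_Ie, mul_zero]
  have hb : ∀ j, R (snd A A).left (j + 1) (toU (pl (μ[A] : A ⊗ A ⟶ A) (mk N hN.1)) • pm (fst A A).left 1) =
      fr A.left 0 := fun j => by rw [R_snd_one, hv]
  have hc : ∀ j, R (snd A A).left (j + 1) (toU (pl (μ[A] : A ⊗ A ⟶ A) (mk N hN.1)) • pm (fst A A).left (Ze A)) =
      fr A.left 0 := fun j => by rw [R_snd_Ze, R_id_succ]
  have hc0 : R (snd A A).left 0 (toU (pl (μ[A] : A ⊗ A ⟶ A) (mk N hN.1)) • pm (fst A A).left (Ze A)) = mc N := by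
    rw [R_snd_Ze, R_id_zero]
  have hbc : h k 0 (toU (pl (μ[A] : A ⊗ A ⟶ A) (mk N hN.1)) • pm (fst A A).left 1) =
      h k 0 (toU (pl (μ[A] : A ⊗ A ⟶ A) (mk N hN.1)) • pm (fst A A).left (Ze A)) := by
    rw [h_R0 k (snd A A).left (Over.w (snd A A)) hs.co₂ hb, h_R0 k (snd A A).left (Over.w (snd A A)) hs.co₃ hc,
      hc0, R_snd_one]
    have h1 := h_fr_mul k (co_one (X := A.left)) (h k 0 (mc N)) 0
    rw [mul_one, h_zero_one, mul_one] at h1
    exact h1
  obtain ⟨h1, h2⟩ := kernel_eval k (snd A A).left hs ha hbc (R_snd_one A hN.1 0) hc0 hb hc ev hev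
  refine ⟨?_, fun j => ?_⟩
  · rw [Ph_twist, h1]
  · rw [Ph_twist, h2, smul_fr_zero]

end K526.Syzygy
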