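import Groth.Agent.AbVar.K526.Inst
import Groth.Agent.AbVar.K527.Rows
/-!
# Translation of the statements on `A × A^t` into classes on `A`

`hgen_eq`: the generic rank `hgen k P F i` is `hg k (P0 A) i (mc F)`; `mc_twist`: the class of `b_A^* F ⊗ L^m`.
-/

set_option autoImplicit false
universe u
open CategoryTheory CategoryTheory.Limits MonoidalCategory CartesianMonoidalCategory AlgebraicGeometry
open scoped MonObj
open Groth.Agent Groth.Agent.Fga.PicMon Groth.Agent.Fga Groth.Agent.Pic13.H11.Cls Groth.Agent.Pic13.H11.NumU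
  Groth.Agent.Grpsch.PicGrp Groth.Agent.Grpsch.Cube

namespace K526.Trans

open Cut PullM K518.Phi _root_.K526.Prod Core Fam Inst
open Groth.Agent.Fga.RigGrp K732.PicZero K732.Dual K732.Prim
open K527.Bridge (Pcl Pcl_mem exists_Pcl Phi)

theorem ic_eq {X : Scheme.{u}} (c : Pic X) : K527.Cls.ic X c = ((toU c : (MC X)ˣ) : MC X) := by
  obtain ⟨L, hL, rfl⟩ := exists_mk c
  rw [toU_mk_val, K527.Cls.ic_mk]

variable {k : Type u} [Field k] {A At : Over (Spec (CommRingCat.of k))} [GrpObj A]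

theorem mc_twist (F : A.left.Modules) {L L' : A.left.Modules} (hL : PicF.IsInvertible L)
    (hLL' : Nonempty (CohB1.tensorMod L L' ≅ Coh.structureModule A.left)) (b : ℕ) (m : ℤ) :
    mc (W4c5cohrankabvar.twist A F L L' b m) = toU (mk L hL) ^ m • pm (nn A b).left (mc F) := by
  rw [K527.Rows.mc_twist F (c := mk L hL) rfl hLL', ic_eq, mul_comm, map_zpow]
  rfl

omit [GrpObj A] in
theorem hAt_eq {P : (pullback A.hom At.hom).Modules} (hP : PicF.IsInvertible P) (F : A.left.Modules)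
    (α : Pt At) (i : ℕ) :
    W4c5cohrankabvar.hAt k P F α i = h k i (toU (Pcl (mk P hP) α) • mc F) := by
  have hL : PicF.IsInvertible (W4c5cohrankabvar.ptLB P α) := Fdesc.LocGen.isInvertible_pullback _ hP
  have h3 : ((toU (Pcl (mk P hP) α) : (MC A.left)ˣ) : MC A.left) = mc (W4c5cohrankabvar.ptLB P α) := by
    rw [← toU_mk_val hL]
    rfl
  rw [smul_def, h3, mul_comm, ← mc_tensor, h_mc]

variable [IsProper A.hom] [GeometricallyIntegral A.hom] [GrpObj At]
  {φ : ∀ T : Over (Spec (CommRingCat.of k)), PicF.Cl (PicF.XT A.hom T) → (T ⟶ At)}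
  (hφ : AbDual.IsDualAV Scheme.fppfPrecoverage A At φ)
  {P : (pullback A.hom At.hom).Modules} (hP : PicF.IsInvertible P)
  (hPξ : AbDual.IsPoincareCl A At φ (PicF.cl P))
  [IsAlgClosed k] [IsProper At.hom] [GeometricallyIntegral At.hom]
include hφ hPξ

theorem mem_P0_iff {L : A.left.Modules} (hL : CohB1.IsAmple L) (u : (MC A.left)ˣ) :
    u ∈ P0 A ↔ ∃ α : Pt At, toU (Pcl (mk P hP) α) = u := by
  have := K527.Bridge.geomConn At.hom
  obtain ⟨h1, h2, h3⟩ := K527.Rows.poinc hP hPξ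
  constructor
  · rintro ⟨κ, hκ, rfl⟩
    obtain ⟨α, rfl⟩ := exists_Pcl hφ h1 h2 h3 (ℓ := mk L hL.1) (fun κ hκ => by
      obtain ⟨y, hy⟩ := surj_ample hL 1 le_rfl κ hκ
      exact ⟨y, by rwa [pow_one] at hy⟩) hκ
    exact ⟨α, rfl⟩
  · rintro ⟨α, rfl⟩
    exact toU_mem_P0 (Pcl_mem hφ h1 h2 h3 α)

include hP in
/-- **The generic rank.** -/
theorem hgen_eq {L : A.left.Modules} (hL : CohB1.IsAmple L) (F : A.left.Modules) (i : ℕ) :
    W4c5cohrankabvar.hgen k P F i = hg k (P0 A) i (mc F) := by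
  refine le_antisymm ?_ ?_
  · refine le_ciInf fun u => ?_
    obtain ⟨α, hα⟩ := (mem_P0_iff hφ hP hPξ hL u.1).1 u.2
    rw [← hα, ← hAt_eq hP]
    exact ciInf_le (OrderBot.bddBelow _) α
  · refine le_ciInf fun α => ?_
    rw [hAt_eq hP]
    exact hg_le k (P0 A) i (mc F) ((mem_P0_iff hφ hP hPξ hL _).2 ⟨α, rfl⟩)

end K526.Trans
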