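import Groth.Agent.AbVar.K526.Trans
import Groth.Agent.AbVar.K526.Syzygy
/-!
# The transforms `R^i Φ_P F`

`Ph_eq`: the class `Ph ℓ i (mc F)` is the pull back of `R^i Φ_P F` along the isogeny `Phi φ ℓ : A ⟶ At`.
-/

set_option autoImplicit false
universe u
open CategoryTheory CategoryTheory.Limits MonoidalCategory CartesianMonoidalCategory AlgebraicGeometry
open scoped MonObj
open Groth.Agent Groth.Agent.Fga.PicMon Groth.Agent.Fga Groth.Agent.Pic13.H11.Cls Groth.Agent.Pic13.H11.NumU
  Groth.Agent.Grpsch.PicGrp Groth.Agent.Grpsch.Cube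

namespace K526.Trans

open Cut PullM K518.Phi _root_.K526.Prod Core Fam Inst
open Groth.Agent.Fga.RigGrp K732.PicZero K732.Dual K732.Prim
open K527.Bridge (Pcl Pcl_mem exists_Pcl Phi pull_Phi isMonHom_Phi isFinite_Phi exists_Phi)

variable {k : Type u} [Field k] {A At : Over (Spec (CommRingCat.of k))} [GrpObj A]
  [IsProper A.hom] [GeometricallyIntegral A.hom] [GrpObj At]
  {φ : ∀ T : Over (Spec (CommRingCat.of k)), PicF.Cl (PicF.XT A.hom T) → (T ⟶ At)}
  (hφ : AbDual.IsDualAV Scheme.fppfPrecoverage A At φ)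
  {P : (pullback A.hom At.hom).Modules} (hP : PicF.IsInvertible P)
  (hPξ : AbDual.IsPoincareCl A At φ (PicF.cl P))
  [IsAlgClosed k] [IsProper At.hom] [GeometricallyIntegral At.hom]
include hφ hP hPξ

section
variable {L : A.left.Modules} (hL : CohB1.IsAmple L)
include hL

omit [GeometricallyIntegral At.hom] in
theorem isFinite_phi : IsFinite (Phi φ (mk L hL.1)).left := by
  obtain ⟨h1, h2, h3⟩ := K527.Rows.poinc hP hPξ
  refine isFinite_Phi hφ h1 h2 h3 ?_
  have h4 := nd_pow hL (n := 1) le_rfl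
  rw [pow_one] at h4
  exact h4

theorem surjective_phi : Surjective (Phi φ (mk L hL.1)).left := by
  have := K527.Bridge.geomConn At.hom
  obtain ⟨h1, h2, h3⟩ := K527.Rows.poinc hP hPξ
  have hfin := isFinite_phi hφ hP hPξ hL
  have hcl := (Phi φ (mk L hL.1)).left.isClosedMap.isClosed_range
  have hJ : JacobsonSpace At.left := LocallyOfFiniteType.jacobsonSpace At.hom
  refine ⟨Set.range_eq_univ.mp (Set.eq_univ_iff_forall.mpr fun z => ?_)⟩
  have h4 : closure (closedPoints At.left) ⊆ Set.range (Phi φ (mk L hL.1)).left := by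
    refine hcl.closure_subset_iff.mpr fun w hw => ?_
    obtain ⟨α, hα⟩ := exists_pt w hw
    obtain ⟨y, hy⟩ := exists_Phi hφ h1 h2 h3 (ℓ := mk L hL.1) (fun κ hκ => by
      obtain ⟨y, hy⟩ := surj_ample hL 1 le_rfl κ hκ
      exact ⟨y, by rwa [pow_one] at hy⟩) α
    refine ⟨y.left (IsLocalRing.closedPoint k), ?_⟩
    rw [← hα, ← hy]
    exact (Scheme.Hom.comp_apply y.left (Phi φ (mk L hL.1)).left _).symm
  rw [closure_closedPoints] at h4
  exact h4 (Set.mem_univ _)

theorem flat_phi : Flat (Phi φ (mk L hL.1)).left := by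
  obtain ⟨h1, h2, h3⟩ := K527.Rows.poinc hP hPξ
  have := surjective_phi hφ hP hPξ hL
  have := isMonHom_Phi hφ h1 h2 h3 (mk L hL.1)
  have : IsIntegral A.left := isInt
  have : IsIntegral At.left := isInt
  have : IsLocallyNoetherian At.left := LocallyOfFiniteType.isLocallyNoetherian At.hom
  have hp : IsProper ((Phi φ (mk L hL.1)).left ≫ At.hom) := by rw [Over.w]; infer_instance
  have : IsProper (Phi φ (mk L hL.1)).left := IsProper.of_comp _ At.hom
  exact Grpsch.MulFinFlat.flat_of_surjective k (Phi φ (mk L hL.1))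

/-- **The transforms.** -/
theorem Ph_eq {F : A.left.Modules} (hF : Coh.IsCoh F) (i : ℕ) : Ph (mk L hL.1) i (mc F) =
    pm (Phi φ (mk L hL.1)).left (mc ((Coh.Rpush (pullback.snd A.hom At.hom) i).obj
      (CohB1.tensorMod ((Scheme.Modules.pullback (pullback.fst A.hom At.hom)).obj F) P))) := by
  obtain ⟨h1, h2, h3⟩ := K527.Rows.poinc hP hPξ
  have := flat_phi hφ hP hPξ hL
  let ξ : Pic (A ⊗ At).left := mk P hP
  have e1 : mc (CohB1.tensorMod ((Scheme.Modules.pullback (pullback.fst A.hom At.hom)).obj F) P) =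
      toU ξ • pm (fst A At).left (mc F) := by
    rw [mc_tensor, smul_def, mul_comm]
    exact congrArg (· * pm (fst A At).left (mc F)) (toU_mk_val (X := (A ⊗ At).left) hP).symm
  have hc : Co (toU ξ • pm (fst A At).left (mc F)) :=
    (co_pm (fst A At).left (show Co (mc F) from hF)).smul _
  have : IsProper (snd A At).left := inferInstanceAs (IsProper (pullback.snd A.hom At.hom))
  have e2 := R_bc (sq_wl A (Phi φ (mk L hL.1))) hc i
  have e3 : pl (A ◁ Phi φ (mk L hL.1)) ξ = lam (mk L hL.1) :=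
    pull_Phi hφ h1 h2 h3 (mk L hL.1)
  rw [← R_mc, e1]
  refine Eq.trans ?_ e2.symm
  rw [pm_toU_smul, e3, ← pm_left_comp, whiskerLeft_fst]
  rfl

end

end K526.Trans
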