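import Groth.Agent.AbVar.K526.Ctx
import Groth.Agent.AbVar.K526.Hilb
import Groth.Agent.AbVar.K526.PolyBound
import Groth.Agent.AbVar.K526.Reg
import Groth.Agent.Fga.DimLt
/-!
# Cohomology of the cuts of line bundles
-/

set_option autoImplicit false
universe u
open CategoryTheory CategoryTheory.Limits AlgebraicGeometry
open Groth.Agent Groth.Agent.Fga.PicMon Groth.Agent.Fga Groth.Agent.Pic13.H11.Cls

namespace K526

open Cut

section
variable {X : Scheme.{u}}

theorem le_of_lt_natCast_succ {x : WithBot ℕ∞} {n : ℕ} (h : x < ((n + 1 : ℕ) : WithBot ℕ∞)) : x ≤ n := by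
  induction x using WithBot.recBotCoe with
  | bot => exact bot_le
  | coe x =>
    have h1 : x < ((n + 1 : ℕ) : ℕ∞) := WithBot.coe_lt_coe.mp h
    exact WithBot.coe_le_coe.mpr (Order.le_of_lt_add_one (by exact_mod_cast h1))

theorem V_of_supp_empty {c : MC X} (h : supp c = ∅) (j : ℕ) : V j c := by
  induction c using MC.ind with | h F => ?_
  exact IntNum0.HH_subsingleton_of_isZero (CohqB.DevSupport.isZero_of_support_eq_empty h) j

theorem isClosed_supp {c : MC X} (hc : Co c) : IsClosed (supp c) := by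
  induction c using MC.ind with | h F => ?_
  exact S0020.result X _ hc.2

theorem dim_supp_le (c : MC X) : topologicalKrullDim (supp c) ≤ topologicalKrullDim X :=
  Topology.IsInducing.subtypeVal.topologicalKrullDim_le

theorem dim_lt_of_generic [IsIntegral X] {c : MC X} (hc : Co c) (hη : genericPoint X ∉ supp c)
    {d : ℕ} (hd : topologicalKrullDim X ≤ d) : topologicalKrullDim (supp c) < d := by
  have hne : supp c ≠ Set.univ := by
    intro h
    rw [h] at hη
    exact hη (Set.mem_univ _)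
  refine DimLt.topologicalKrullDim_lt (A := Set.univ) (irreducibleSpace_def X |>.mp inferInstance) (isClosed_supp hc)
      (Set.subset_univ _) hne ?_
  have h1 : topologicalKrullDim (Set.univ : Set X) ≤ topologicalKrullDim X :=
      Topology.IsInducing.subtypeVal.topologicalKrullDim_le
  exact lt_of_le_of_lt (h1.trans hd) (by exact_mod_cast Nat.lt_succ_self d)

variable (k : Type u) [Field k] [X.Over (Spec (CommRingCat.of k))] [IsProper (X ↘ Spec (CommRingCat.of k))]

include k in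
theorem V_of_generic [IsIntegral X] {c : MC X} (hc : Co c) (hη : genericPoint X ∉ supp c) {g : ℕ}
    (hd : topologicalKrullDim X ≤ g) {j : ℕ} (hj : g ≤ j) : V j c := by
  have h1 := dim_lt_of_generic hc hη hd
  rcases Nat.eq_zero_or_pos g with h0 | h0
  · subst h0
    refine V_of_supp_empty ?_ j
    exact Set.isEmpty_coe_sort.mp (IntNum0.isEmpty_of_topologicalKrullDim_neg h1)
  · refine V_of_dim k hc (d := g - 1) ?_ (by omega)
    have h2 : topologicalKrullDim (supp c) < ((g - 1 + 1 : ℕ) : WithBot ℕ∞) := by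
      rwa [Nat.sub_add_cancel h0]
    exact le_of_lt_natCast_succ h2

omit [IsProper (X ↘ Spec (CommRingCat.of k))] in
/-- Cohomology concentrated in one degree. -/
theorem abs_chi_eq {c : MC X} {i₀ : ℕ} (hV : ∀ i, i ≠ i₀ → V i c) : |chi k c| = h k i₀ c := by
  rw [chi_eq_sum k c i₀ fun i hi => hV i (by omega), Finset.sum_range_succ]
  have h0 : ∑ i ∈ Finset.range i₀, (-1 : ℤ) ^ i * (h k i c : ℤ) = 0 := by
    refine Finset.sum_eq_zero fun i hi => ?_
    rw [h_eq_zero k (hV i (Finset.mem_range.mp hi).ne)]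
    simp
  rw [h0, zero_add, abs_mul, abs_pow, abs_neg, abs_one, one_pow, one_mul]
  exact abs_of_nonneg (by positivity)

end

variable {k : Type u} [Field k] {X : Scheme.{u}} [X.Over (Spec (CommRingCat.of k))]
  [IsProper (X ↘ Spec (CommRingCat.of k))] [IsIntegral X] {g : ℕ} {η : (MC X)ˣ} {P0 : Subgroup (MC X)ˣ}
  {pl : ℕ → MC X →* MC X} (H : Ctx k g η P0 pl)

include H

omit [IsIntegral X] in
theorem Ctx.units_chi : ∃ P : Polynomial ℚ, P.natDegree ≤ g ∧ ∀ u ∈ P0, ∀ n : ℤ,
    (chi k ((u * η ^ n : (MC X)ˣ) : MC X) : ℚ) = P.eval (n : ℚ) := by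
  have := IntAdd.isNoetherian k X
  have hd : topologicalKrullDim (supp (1 : MC X)) ≤ g := H.dim ▸ dim_supp_le _
  obtain ⟨P, hP, hP'⟩ := Hilb.exists_poly k η co_one hd
  refine ⟨P, hP, fun u hu n => ?_⟩
  rw [← hP' n, ← smul_val, smul_one', H.chi_smul u hu]
  rw [← smul_one']
  exact co_one.smul _

/-- The cohomology of the cut of a line bundle. -/
theorem Ctx.cut_unit (hg : 1 ≤ g) (M : ℕ) : ∃ C : ℕ, ∀ (N : X.Modules) (hN : PicF.IsInvertible N)
    (_ : mc N = ((η ^ M : (MC X)ˣ) : MC X)) (s : Coh.structureModule X ⟶ N) (_ : Reg s 1)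
    (_ : genericPoint X ∈ CohB1.genLocus N s), ∀ u ∈ P0, ∀ (n : ℤ) (j : ℕ), j < g →
      h k j (cutC s ((u * η ^ n : (MC X)ˣ) : MC X)) ≤ C * (n.natAbs + 1) ^ (g - 1) := by
  have := IntAdd.isNoetherian k X
  obtain ⟨P, hP, hP'⟩ := H.units_chi
  obtain ⟨C₁, hC₁⟩ := HilbNum.diff_bound P hP M hg
  obtain ⟨C₂, hC₂⟩ := HilbNum.eval_bound P hP
  obtain ⟨C₀, hC₀⟩ := H.bdd
  -- line bundles
  have hw : ∀ v ∈ P0, ∀ (m : ℤ) (i : ℕ), (h k i ((v * η ^ m : (MC X)ˣ) : MC X) : ℚ) ≤ C₀ + |P.eval (m : ℚ)| := by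
    intro v hv m i
    rcases lt_trichotomy m 0 with hm | hm | hm
    · have hV : ∀ i, i ≠ g → V i ((v * η ^ m : (MC X)ˣ) : MC X) := H.van' v hv m (by omega)
      by_cases hi : i = g
      · subst hi
        have h1 := abs_chi_eq k hV
        have h2 : (h k i ((v * η ^ m : (MC X)ˣ) : MC X) : ℚ) = |P.eval (m : ℚ)| := by
          rw [← hP' v hv m, ← Int.cast_abs, h1]; rfl
        rw [h2]
        have : (0 : ℚ) ≤ C₀ := by positivity
        linarith
      · rw [h_eq_zero k (hV i hi)]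
        positivity
    · subst hm
      rw [zpow_zero, mul_one]
      have h1 : (h k i (v : MC X) : ℚ) ≤ C₀ := by exact_mod_cast hC₀ v hv i
      have := abs_nonneg (P.eval ((0 : ℤ) : ℚ))
      linarith
    · have hV : ∀ i, i ≠ 0 → V i ((v * η ^ m : (MC X)ˣ) : MC X) := fun i hi => H.van v hv m (by omega) i (by omega)
      by_cases hi : i = 0
      · subst hi
        have h1 := abs_chi_eq k hV
        have h2 : (h k 0 ((v * η ^ m : (MC X)ˣ) : MC X) : ℚ) = |P.eval (m : ℚ)| := by
          rw [← hP' v hv m, ← Int.cast_abs, h1]; rfl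
        rw [h2]
        have : (0 : ℚ) ≤ C₀ := by positivity
        linarith
      · rw [h_eq_zero k (hV i hi)]
        positivity
  refine ⟨C₁ + (2 * C₀ + 2 * (C₂ * (M + 1) ^ g)), fun N hN hNM s hs hgen u hu n j hj => ?_⟩
  set w : (MC X)ˣ := u * η ^ n with hwdef
  set w' : (MC X)ˣ := u * η ^ (n + M) with hw'def
  have hco : Co (w : MC X) := by rw [← smul_one']; exact co_one.smul _
  have hreg : Reg s (w : MC X) := by
    have := reg_smul s hs w
    rwa [smul_one'] at this
  have hses : Ses (w : MC X) (w' : MC X) (cutC s (w : MC X)) := by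
    have h1 := ses_cut s hN hco hreg
    have h2 : unit hN • (w : MC X) = (w' : MC X) := by
      have h3 : unit hN = η ^ M := Units.ext (by rw [unit_val, hNM])
      rw [h3, smul_val, hw'def, hwdef, zpow_add, zpow_natCast]
      congr 1
      rw [mul_left_comm, mul_comm (η ^ M)]
    rwa [h2] at h1
  have hT : Co (cutC s (w : MC X)) := hses.co₃
  have hgenT : genericPoint X ∉ supp (cutC s (w : MC X)) := by
    rw [supp_cutC s hN hco]
    exact fun h => h.2 hgen
  have hchiT : |(chi k (cutC s (w : MC X)) : ℚ)| ≤ C₁ * ((|n| : ℤ) + 1 : ℚ) ^ (g - 1) := by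
    have h1 := hses.chi_eq k
    have h2 : (chi k (cutC s (w : MC X)) : ℚ) = P.eval ((n + M : ℤ) : ℚ) - P.eval (n : ℚ) := by
      rw [← hP' u hu n, ← hP' u hu (n + M)]
      rw [← hwdef, ← hw'def, h1]; push_cast; ring
    rw [h2]
    exact hC₁ n
  have hone : (1 : ℚ) ≤ ((|n| : ℤ) + 1 : ℚ) ^ (g - 1) := by
    apply one_le_pow₀
    have : (0 : ℚ) ≤ ((|n| : ℤ) : ℚ) := by exact_mod_cast abs_nonneg n
    linarith
  have hCC : (0 : ℚ) ≤ 2 * C₀ + 2 * (C₂ * (M + 1) ^ g) := by positivity
  have key : (h k j (cutC s (w : MC X)) : ℚ) ≤ (C₁ + (2 * C₀ + 2 * (C₂ * (M + 1) ^ g))) * ((|n| : ℤ) + 1 : ℚ) ^ (g - 1) := by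
    have hfin : ∀ i₀, (∀ i, i ≠ i₀ → V i (cutC s (w : MC X))) →
        (h k j (cutC s (w : MC X)) : ℚ) ≤ (C₁ + (2 * C₀ + 2 * (C₂ * (M + 1) ^ g))) * ((|n| : ℤ) + 1 : ℚ) ^ (g - 1) := by
      intro i₀ hV
      by_cases hi : j = i₀
      · subst hi
        have h1 := abs_chi_eq k hV
        have h2 : (h k j (cutC s (w : MC X)) : ℚ) = |(chi k (cutC s (w : MC X)) : ℚ)| := by
          rw [← Int.cast_abs, h1]; rfl
        rw [h2]
        nlinarith
      · rw [h_eq_zero k (hV j hi)]
        push_cast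
        positivity
    by_cases h1 : 1 ≤ n
    · refine hfin 0 fun i hi => hses.V_right ?_ ?_
      · exact H.van u hu (n + M) (by omega) i (by omega)
      · exact H.van u hu n h1 (i + 1) (by omega)
    by_cases h2 : n + M ≤ -1
    · refine hfin (g - 1) fun i hi => ?_
      by_cases h3 : i = g
      · subst h3
        exact V_of_generic k hT hgenT H.dim.le le_rfl
      · refine hses.V_right ?_ ?_
        · exact H.van' u hu (n + M) h2 i h3
        · exact H.van' u hu n (by omega) (i + 1) (by omega)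
    · have h3 := hses.h_right_le k j
      have h3' : (h k j (cutC s (w : MC X)) : ℚ) ≤ h k j (w' : MC X) + h k (j + 1) (w : MC X) := by exact_mod_cast h3
      have h4 := hw u hu (n + M) j
      have h5 := hw u hu n (j + 1)
      have hb : ∀ m : ℤ, |m| ≤ M → |P.eval (m : ℚ)| ≤ C₂ * (M + 1) ^ g := by
        intro m hm
        refine (hC₂ m).trans ?_
        have : ((|m| : ℤ) : ℚ) ≤ M := by exact_mod_cast hm
        have h0 : (0 : ℚ) ≤ ((|m| : ℤ) : ℚ) := by exact_mod_cast abs_nonneg m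
        gcongr
      have h6 := hb (n + M) (by rw [abs_le]; constructor <;> omega)
      have h7 := hb n (by rw [abs_le]; constructor <;> omega)
      have h8 : (h k j (cutC s (w : MC X)) : ℚ) ≤ 2 * C₀ + 2 * (C₂ * (M + 1) ^ g) := by
        rw [hwdef] at h3' ⊢
        rw [hw'def] at h3'
        linarith
      have h9 : (0 : ℚ) ≤ C₁ := by positivity
      nlinarith
  have hcast : ((|n| : ℤ) : ℚ) = (n.natAbs : ℚ) := by rw [Int.abs_eq_natAbs]; rfl
  rw [hcast] at key
  exact_mod_cast key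

end K526
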